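import Groth.Agent.Misc10.IsoNat.ValTest
import Groth.Agent.AlgStBasic.SepRep
import Groth.Agent.AlgStBasic.SpaceProps
import Groth.Agent.AlgSpBasic.Compact
import Groth.Agent.AlgSpBasic.QComp
import Groth.Agent.SchemeMorphisms.Points
import Groth.Agent.EtaleBase.Rigidity
import Mathlib.AlgebraicGeometry.Morphisms.QuasiFinite
import Mathlib.AlgebraicGeometry.Morphisms.Etale

/-!
# Universally closed maps of algebraic spaces to schemes, tested on punctured valuation rings
-/

set_option autoImplicit false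
set_option backward.isDefEq.respectTransparency false
set_option backward.isDefEq.respectTransparency.types false

universe u

open CategoryTheory CategoryTheory.Limits AlgebraicGeometry AlgSp
open Groth.AlgSpBasic

noncomputable section

namespace Groth.Misc10.IsoNat

variable {S : Scheme.{u}} {F : Sp S} {U : Over S}

/-- Sections over the open piece of a valuation ring extend after extending the valuation ring. -/
def WeakVal (q : F ⟶ (yon S).obj U) : Prop :=
  ∀ (x : ValTest S) (t : x.V ⟶ U) (g : (yon S).obj x.W ⟶ F), g ≫ q = (yon S).map (x.j ≫ t) →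
    ∃ (e : x.Ext) (h : (yon S).obj e.test.V ⟶ F),
      h ≫ q = (yon S).map (e.π ≫ t) ∧ (yon S).map e.test.j ≫ h = (yon S).map e.πW ≫ g

theorem map_ofPt_eq {G : Sp S} {V T : Over S} {q : G ⟶ (yon S).obj T} {h : (yon S).obj V ⟶ G}
    {φ : V ⟶ T} (e : h ≫ q = (yon S).map φ) (v : ↥V.left) :
    Points.map q (Points.ofPt h v) = Points.schemeHomeo T (φ.left v) := by
  rw [Points.map_ofPt, e, ofPt_eq_map]
  exact Points.map_yon_map_apply φ v

/-- Sections of a separated map agree when they do after a schematically dominant morphism. -/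
theorem eq_of_schDominant {G H : Sp S} {q : G ⟶ H} (hsep : IsSeparatedMor q) {W T : Over S}
    (i : T ⟶ W) (hi : IsSchDominant i.left) {g₁ g₂ : (yon S).obj W ⟶ G} (h : g₁ ≫ q = g₂ ≫ q)
    (h' : (yon S).map i ≫ g₁ = (yon S).map i ≫ g₂) : g₁ = g₂ := by
  have hd : RepWith @IsClosedImmersion (pullback.diagonal q) := hsep
  let θ : (yon S).obj W ⟶ pullback q q := pullback.lift g₁ g₂ h
  obtain ⟨E, i₁, a, sq⟩ := hd.rep θ
  have hE : IsClosedImmersion i₁.left := hd.property θ a i₁ sq
  have ha : (yon S).map i ≫ θ = ((yon S).map i ≫ g₁) ≫ pullback.diagonal q := by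
    apply pullback.hom_ext
    · simp [θ]
    · simp [θ, h']
  obtain ⟨l, hl⟩ := (yon S).map_surjective (sq.lift ((yon S).map i ≫ g₁) ((yon S).map i) ha.symm)
  have hli : l ≫ i₁ = i := (yon S).map_injective (by rw [Functor.map_comp, hl, sq.lift_snd])
  have : IsIso i₁.left := hi i₁.left ⟨l.left, by rw [← Over.comp_left, hli]⟩
  have : IsIso ((Over.forget S).map i₁) := this
  have : IsIso i₁ := isIso_of_reflects_iso i₁ (Over.forget S)
  have e := congrArg ((yon S).map (inv i₁) ≫ ·) sq.w
  simp only [← Category.assoc, ← Functor.map_comp, IsIso.inv_hom_id, CategoryTheory.Functor.map_id,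
    Category.id_comp] at e
  have e₁ := e =≫ pullback.fst q q
  have e₂ := e =≫ pullback.snd q q
  simp only [θ, Category.assoc, pullback.diagonal_fst, pullback.diagonal_snd, Category.comp_id,
    pullback.lift_fst, pullback.lift_snd] at e₁ e₂
  rw [← e₁, ← e₂]

/-- A proper map to a scheme extends sections after extending the valuation ring. -/
theorem weakVal_of_isProperMor (hF : IsAlgSpace F) {q : F ⟶ (yon S).obj U} (hq : IsProperMor q) :
    WeakVal q := by
  intro x t g hg
  obtain ⟨hsep, ⟨-, hqc⟩, hucl⟩ := hq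
  let FV := pullback q ((yon S).map t)
  let pr : FV ⟶ (yon S).obj x.V := pullback.snd _ _
  let pF : FV ⟶ F := pullback.fst _ _
  have sq : IsPullback pF pr q ((yon S).map t) := IsPullback.of_hasPullback _ _
  have hFV : IsAlgSpace FV := Groth.AlgSpBasic.isAlgSpace_of_isPullback sq
    (IsAlgSpace.yon_obj U).diag hF (IsAlgSpace.yon_obj x.V)
  have hcl : IsClosedMap (Points.map pr) := hucl (IsAlgSpace.yon_obj x.V) _ _ _ sq
  have hqcV : IsQuasiCompactSp FV :=
    hqc (IsAlgSpace.yon_obj x.V) ((isQuasiCompactSp_yon_iff x.V).2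
      (inferInstanceAs (CompactSpace ↥(Spec (CommRingCat.of x.R))))) _ _ _ sq
  have hsepV : IsSeparatedMor pr :=
    Groth.AlgStBasic.stableBaseChange_sep hF (IsAlgSpace.yon_obj U) hFV (IsAlgSpace.yon_obj x.V)
      _ _ _ _ sq hsep
  let gW : (yon S).obj x.W ⟶ FV := sq.lift g ((yon S).map x.j) (by rw [hg, Functor.map_comp])
  have hgW₁ : gW ≫ pF = g := sq.lift_fst _ _ _
  have hgW₂ : gW ≫ pr = (yon S).map x.j := sq.lift_snd _ _ _
  let gK : (yon S).obj x.gen ⟶ FV := (yon S).map x.genW ≫ gW
  have hgK : gK ≫ pr = (yon S).map (x.genW ≫ x.j) := by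
    rw [Category.assoc, hgW₂, Functor.map_comp]
  let η : ↥x.gen.left := IsLocalRing.closedPoint (FractionRing x.R)
  let ξ : Points FV := Points.ofPt gK η
  let v₀ : ↥x.V.left := IsLocalRing.closedPoint x.R
  obtain ⟨x₀, hx₀, hx₀'⟩ : Points.schemeHomeo x.V v₀ ∈ Points.map pr '' closure {ξ} := by
    have hc : IsClosed (Points.map pr '' closure {ξ}) := hcl _ isClosed_closure
    have hmem : Points.map pr ξ ∈ Points.map pr '' closure {ξ} :=
      ⟨ξ, subset_closure rfl, rfl⟩
    have e : Points.map pr ξ = Points.schemeHomeo x.V ((x.genW ≫ x.j).left η) := by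
      exact map_ofPt_eq hgK η
    rw [e] at hmem
    exact (IsLocalRing.specializes_closedPoint (R := x.R) ((x.genW ≫ x.j).left η)).map
      (Points.schemeHomeo x.V).continuous |>.mem_closed hc hmem
  obtain ⟨P, a, hP, ha, has⟩ := exists_affine_chart hFV hqcV
  obtain ⟨p₀, rfl⟩ := surjective_ofPt_of_repWith has x₀
  obtain ⟨πP, hπP⟩ := (yon S).map_surjective (a ≫ pr)
  have hp₀ : πP.left p₀ = v₀ := by
    apply (Points.schemeHomeo x.V).injective
    rw [← hx₀', map_ofPt_eq hπP.symm]
  have hqca : IsQuasiCompactMor a := by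
    refine isQuasiCompactMor_of_cancel (IsAlgSpace.yon_obj P) hFV (IsAlgSpace.yon_obj x.V) ?_
      (Groth.AlgStBasic.qs_of_sep hsepV)
    rw [← hπP]
    have : IsAffine x.V.left := inferInstanceAs (IsAffine (Spec (CommRingCat.of x.R)))
    refine isQuasiCompactMor_of_repWith (IsAlgSpace.yon_obj _) (IsAlgSpace.yon_obj _) ?_
    exact (AlgSp.repWith_yon_map_iff (@QuasiCompact) _).2 inferInstance
  obtain ⟨E, ep, es, sqE⟩ := exists_pullback_yon ha.rep gK
  have hEet : Etale es.left := ha.property gK _ es sqE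
  have hEqc : CompactSpace ↥E.left := (isQuasiCompactSp_yon_iff E).1
    (hqca (IsAlgSpace.yon_obj x.gen) ((isQuasiCompactSp_yon_iff x.gen).2
      (inferInstanceAs (CompactSpace ↥(Spec (CommRingCat.of (FractionRing x.R))))))
      gK _ _ sqE)
  have : Finite ↥E.left := by
    have : LocallyQuasiFinite es.left := inferInstance
    have : IsAffine x.gen.left := inferInstanceAs (IsAffine (Spec (CommRingCat.of (FractionRing x.R))))
    have : QuasiCompact es.left := by
      rw [quasiCompact_iff_compactSpace]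
      exact hEqc
    have : Subsingleton ↥x.gen.left :=
      inferInstanceAs (Subsingleton (PrimeSpectrum (FractionRing x.R)))
    rw [← Set.finite_univ_iff]
    have hu : (Set.univ : Set ↥E.left) = es.left ⁻¹' {η} :=
      Set.ext fun z => ⟨fun _ => Subsingleton.elim _ _, fun _ => trivial⟩
    rw [hu]
    exact es.left.finite_preimage_singleton η
  obtain ⟨w, hw⟩ : ∃ w : ↥E.left, ep.left w ⤳ p₀ := by
    have hcl' : IsClosed (⋃ w : ↥E.left, closure {ep.left w}) :=
      isClosed_iUnion_of_finite fun _ => isClosed_closure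
    have : p₀ ∈ ⋃ w : ↥E.left, closure {ep.left w} := by
      by_contra hn
      have hO := isOpenMap_ofPt_of_etale ha _ hcl'.isOpen_compl
      obtain ⟨y, hy, hy'⟩ := (mem_closure_iff.1 hx₀) _ hO ⟨p₀, hn, rfl⟩
      obtain rfl : y = ξ := hy'
      obtain ⟨p, hp, hpe⟩ := hy
      obtain ⟨w, hw₁, -⟩ := (ofPt_eq_ofPt_iff sqE p η).1 hpe
      exact hp (Set.mem_iUnion.2 ⟨w, by rw [hw₁]; exact subset_closure rfl⟩)
    obtain ⟨w, hw⟩ := Set.mem_iUnion.1 this
    exact ⟨w, specializes_iff_mem_closure.2 hw⟩
  -- the valuation ring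
  let K' := E.left.residueField w
  let f : P.left.presheaf.stalk p₀ ⟶ K' :=
    P.left.presheaf.stalkSpecializes hw ≫ ep.left.stalkMap w ≫ E.left.residue w
  obtain ⟨A, hA, hA'⟩ := IsLocalRing.exists_factor_valuationRing f.hom
  let fA : P.left.presheaf.stalk p₀ ⟶ CommRingCat.of A :=
    CommRingCat.ofHom (f.hom.codRestrict A.toSubring hA)
  let l : Spec (CommRingCat.of A) ⟶ P.left := Spec.map fA ≫ P.left.fromSpecStalk p₀
  have hlgen : Spec.map (CommRingCat.ofHom A.subtype) ≫ l = E.left.fromSpecResidueField w ≫ ep.left := by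
    rw [Scheme.fromSpecResidueField, Category.assoc, ← Scheme.SpecMap_stalkMap_fromSpecStalk,
      ← Scheme.SpecMap_stalkSpecializes_fromSpecStalk hw]
    simp only [l, ← Spec.map_comp_assoc]
    rfl
  have hlclosed : l (IsLocalRing.closedPoint A) = p₀ := by
    show P.left.fromSpecStalk p₀ (Spec.map fA (IsLocalRing.closedPoint A)) = p₀
    have : Spec.map fA (IsLocalRing.closedPoint A) =
        IsLocalRing.closedPoint (P.left.presheaf.stalk p₀) :=
      IsLocalRing.comap_closedPoint (S := A) (f.hom.codRestrict A.toSubring hA)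
    rw [this, Scheme.fromSpecStalk_closedPoint]
  obtain ⟨φ, hφ⟩ := Spec.map_surjective (l ≫ πP.left)
  have hEπ : ep ≫ πP = es ≫ x.genW ≫ x.j := (yon S).map_injective (by
    rw [Functor.map_comp, hπP, ← Category.assoc, sqE.w, Category.assoc, hgK]
    simp [Functor.map_comp])
  obtain ⟨ψ, hψ⟩ := Spec.map_surjective (E.left.fromSpecResidueField w ≫ es.left)
  have hφψ : φ ≫ CommRingCat.ofHom A.subtype =
      CommRingCat.ofHom (algebraMap x.R (FractionRing x.R)) ≫ ψ := by
    apply Spec.map_injective
    rw [Spec.map_comp, Spec.map_comp, hφ, hψ, ← Category.assoc, hlgen, Category.assoc,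
      Category.assoc, ← Over.comp_left, hEπ, Over.comp_left, Over.comp_left, x.j_left, x.genW_left,
      ← Spec.map_comp, ← CommRingCat.ofHom_comp, x.awayToFrac_comp]
  have hinj : Function.Injective φ.hom := by
    intro r r' e
    have h := congrArg (fun f => (CommRingCat.Hom.hom f) r) hφψ
    have h' := congrArg (fun f => (CommRingCat.Hom.hom f) r') hφψ
    simp only [CommRingCat.hom_comp, CommRingCat.hom_ofHom, RingHom.comp_apply] at h h'
    rw [e, h'] at h
    exact IsFractionRing.injective x.R (FractionRing x.R) (ψ.hom.injective h.symm)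
  have hloc : IsLocalHom φ.hom := by
    refine ((IsLocalRing.local_hom_TFAE φ.hom).out 0 4).2 ?_
    have hcl₀ : Spec.map φ (IsLocalRing.closedPoint A) = IsLocalRing.closedPoint x.R := by
      rw [hφ, Scheme.Hom.comp_apply, hlclosed]
      exact hp₀
    exact congrArg PrimeSpectrum.asIdeal hcl₀
  let e : x.Ext := { R' := A, φ := φ.hom, inj := hinj, isLocal := hloc }
  let lP : e.test.V ⟶ P := Over.homMk l (by
    show l ≫ P.hom = Spec.map φ ≫ x.str
    rw [hφ, Category.assoc]
    exact congrArg (l ≫ ·) (Over.w πP).symm)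
  have hlπ : lP ≫ πP = e.π := Over.OverMorphism.ext (by
    show l ≫ πP.left = Spec.map φ
    rw [hφ])
  let h : (yon S).obj e.test.V ⟶ FV := (yon S).map lP ≫ a
  have hh : h ≫ pr = (yon S).map e.π := by
    rw [Category.assoc, ← hπP, ← Functor.map_comp, hlπ]
  refine ⟨e, h ≫ pF, by rw [Category.assoc, sq.w, reassoc_of% hh, Functor.map_comp], ?_⟩
  suffices e₁ : (yon S).map e.test.j ≫ h = (yon S).map e.πW ≫ gW by
    rw [reassoc_of% e₁, hgW₁]
  let T : Over S := Over.mk (E.left.fromSpecResidueField w ≫ E.hom)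
  obtain ⟨χ, hχ⟩ : ∃ χ : Localization.Away e.test.a →+* K',
      χ.comp (algebraMap A (Localization.Away e.test.a)) = A.subtype :=
    ⟨IsLocalization.Away.lift e.test.a (g := A.subtype)
      (isUnit_iff_ne_zero.2 fun h => e.test.ha (Subtype.ext h)), IsLocalization.Away.lift_comp _ _⟩
  have hχi : Function.Injective χ := by
    rw [injective_iff_map_eq_zero]
    intro z hz
    obtain ⟨⟨r, ⟨_, n, rfl⟩⟩, e'⟩ := IsLocalization.surj (Submonoid.powers e.test.a) z
    have h := congrArg χ e'
    rw [map_mul, hz, zero_mul, ← RingHom.comp_apply, hχ] at h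
    have hr : r = 0 := Subtype.ext h.symm
    subst hr
    rw [map_zero] at e'
    exact (IsUnit.mul_left_eq_zero (IsLocalization.map_units (Localization.Away e.test.a)
      (⟨e.test.a ^ n, n, rfl⟩ : Submonoid.powers e.test.a))).1 e'
  have hχj : Spec.map (CommRingCat.ofHom χ) ≫ e.test.j.left = Spec.map (CommRingCat.ofHom A.subtype) := by
    rw [e.test.j_left, ← Spec.map_comp, ← CommRingCat.ofHom_comp]
    exact congrArg (fun t => Spec.map (CommRingCat.ofHom t)) hχ
  let i : T ⟶ e.test.W := Over.homMk (Spec.map (CommRingCat.ofHom χ)) (by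
    rw [← Over.w e.test.j, ← Category.assoc, hχj]
    show Spec.map _ ≫ Spec.map φ ≫ x.str = _
    rw [hφ, Category.assoc, reassoc_of% hlgen, show πP.left ≫ x.str = P.hom from Over.w πP, Over.w ep]
    rfl)
  refine eq_of_schDominant hsepV i
    (isSchDominant_spec (CommRingCat.ofHom χ) hχi) ?_ ?_
  · rw [Category.assoc, hh, Category.assoc, hgW₂, ← Functor.map_comp, ← Functor.map_comp, e.πW_j]
  · let r : T ⟶ E := Over.homMk (E.left.fromSpecResidueField w) rfl
    have e₁ : i ≫ e.test.j ≫ lP = r ≫ ep := Over.OverMorphism.ext (by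
      show Spec.map _ ≫ e.test.j.left ≫ l = E.left.fromSpecResidueField w ≫ ep.left
      rw [reassoc_of% hχj, hlgen])
    have e₂ : i ≫ e.πW = r ≫ es ≫ x.genW := x.j_mono (by
      rw [Category.assoc, e.πW_j, ← hlπ]
      simp only [Category.assoc]
      rw [reassoc_of% e₁, hEπ])
    have e₁' := congrArg (fun m => (yon S).map m ≫ a) e₁
    have e₂' := congrArg (fun m => (yon S).map m ≫ gW) e₂
    simp only [Functor.map_comp, Category.assoc] at e₁' e₂'
    rw [e₁', e₂', sqE.w]

/-- A quasi-compact map locally of finite type from an algebraic space to an affine scheme is universally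
closed when sections extend after extending valuation rings. -/
theorem isUnivClosedMor_of_weakVal (hF : IsAlgSpace F) [IsAffine U.left] {q : F ⟶ (yon S).obj U}
    (hlft : LocP @LocallyOfFiniteType q) (hqc : IsQuasiCompactMor q) (hq : WeakVal q) :
    IsUnivClosedMor q := by
  have hFqc : IsQuasiCompactSp F :=
    hqc (IsAlgSpace.yon_obj U) ((isQuasiCompactSp_yon_iff U).2 inferInstance) (𝟙 _) (𝟙 _) q
      (IsPullback.of_horiz_isIso ⟨by simp⟩)
  obtain ⟨P, a, hP, ha, has⟩ := exists_affine_chart hF hFqc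
  obtain ⟨πP, hπP⟩ := (yon S).map_surjective (a ≫ q)
  have : LocallyOfFiniteType πP.left :=
    hlft a (𝟙 _) πP ha (repWith_id @Etale U) (by rw [Category.comp_id, hπP])
  intro Z Z' hZ g fst snd sq
  obtain ⟨T, r, hr, hrs⟩ := hZ.atlas
  intro C hC
  -- pull back to the atlas
  rw [← (isQuotientMap_ofPt hr hrs).isCoinducing.isClosed_preimage]
  let Z'' := pullback snd r
  let qT : Z'' ⟶ (yon S).obj T := pullback.snd _ _
  let pT : Z'' ⟶ Z' := pullback.fst _ _
  have sqr : IsPullback pT qT snd r := IsPullback.of_hasPullback _ _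
  obtain ⟨t, ht⟩ := (yon S).map_surjective (r ≫ g)
  have sqT : IsPullback (pT ≫ fst) qT q ((yon S).map t) := by
    rw [ht]
    exact sqr.paste_horiz sq
  have hpre : Points.ofPt r ⁻¹' (Points.map snd '' C) =
      Points.schemeHomeo T ⁻¹' (Points.map qT '' (Points.map pT ⁻¹' C)) := by
    ext z
    constructor
    · rintro ⟨c, hc, e⟩
      rw [ofPt_eq_map] at e
      obtain ⟨d, hd₁, hd₂⟩ := exists_point_of_isPullback sqr c _ e
      exact ⟨d, by rw [Set.mem_preimage, hd₁]; exact hc, hd₂⟩
    · rintro ⟨d, hd, e⟩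
      refine ⟨_, hd, ?_⟩
      rw [ofPt_eq_map, ← Points.map_comp, sqr.w, Points.map_comp, e]
      rfl
  rw [hpre]
  refine IsClosed.preimage (Points.schemeHomeo T).continuous ?_
  set D := Points.map pT ⁻¹' C
  have hD : IsClosed D := hC.preimage (Points.continuous_map pT)
  -- the chart over the atlas
  let PT : Over S := Over.mk (pullback.fst πP.left t.left ≫ P.hom)
  let p₁ : PT ⟶ P := Over.homMk (pullback.fst πP.left t.left) rfl
  let p₂ : PT ⟶ T := Over.homMk (pullback.snd πP.left t.left) (by
    show pullback.snd _ _ ≫ T.hom = pullback.fst _ _ ≫ P.hom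
    rw [← Over.w t, ← Over.w πP, pullback.condition_assoc])
  have hp : p₁ ≫ πP = p₂ ≫ t := Over.OverMorphism.ext pullback.condition
  let aT : (yon S).obj PT ⟶ Z'' := sqT.lift ((yon S).map p₁ ≫ a) ((yon S).map p₂) (by
    rw [Category.assoc, ← hπP, ← Functor.map_comp, hp, Functor.map_comp])
  have haT₁ : aT ≫ pT ≫ fst = (yon S).map p₁ ≫ a := sqT.lift_fst _ _ _
  have haT₂ : aT ≫ qT = (yon S).map p₂ := sqT.lift_snd _ _ _
  have sqP : IsPullback ((yon S).map p₁) aT a (pT ≫ fst) := by
    have h₀ : IsPullback p₁ p₂ πP t := by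
      apply IsPullback.of_map (Over.forget S)
      · exact hp
      · exact IsPullback.of_hasPullback πP.left t.left
    have h₁ := h₀.map (yon S)
    rw [hπP] at h₁
    exact IsPullback.of_bot (by rwa [haT₂]) haT₁.symm sqT
  have haTs : Function.Surjective (Points.ofPt aT) :=
    surjective_ofPt_of_repWith (repWith_of_isPullback sqP has)
  let D' : Set ↥PT.left := Points.ofPt aT ⁻¹' D
  have hD' : IsClosed D' := hD.preimage (Points.continuous_ofPt aT)
  have himg : Points.schemeHomeo T ⁻¹' (Points.map qT '' D) = p₂.left '' D' := by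
    ext z
    constructor
    · rintro ⟨d, hd, e⟩
      obtain ⟨p, rfl⟩ := haTs d
      refine ⟨p, hd, (Points.schemeHomeo T).injective ?_⟩
      exact (map_ofPt_eq haT₂ p).symm.trans e
    · rintro ⟨p, hp', rfl⟩
      refine ⟨Points.ofPt aT p, hp', ?_⟩
      exact map_ofPt_eq haT₂ p
  suffices hc : IsClosed (p₂.left '' D') by
    rw [← himg, (Points.schemeHomeo T).isClosed_preimage] at hc
    exact hc
  let Y := (Scheme.IdealSheafData.vanishingIdeal (X := PT.left) ⟨D', hD'⟩).subscheme
  let ιY : Y ⟶ PT.left := (Scheme.IdealSheafData.vanishingIdeal (X := PT.left) ⟨D', hD'⟩).subschemeι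
  have hιY : Set.range ιY = D' := by
    rw [Scheme.IdealSheafData.range_subschemeι]
    exact Scheme.IdealSheafData.coe_support_vanishingIdeal _
  have hqc₂ : QuasiCompact p₂.left :=
    MorphismProperty.pullback_snd (P := @QuasiCompact) πP.left t.left inferInstance
  have himg' : p₂.left '' D' = Set.range (ιY ≫ p₂.left) := by
    rw [← hιY, ← Set.range_comp]
    rfl
  rw [himg', ← closure_subset_iff_isClosed]
  intro z hz
  obtain ⟨y, hy⟩ := Groth.SchemeMorphisms.exists_specializes_of_mem_closure_range (ιY ≫ p₂.left) hz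
  rw [← himg']
  let p := ιY y
  have hpD : p ∈ D' := hιY ▸ ⟨y, rfl⟩
  replace hy : p₂.left p ⤳ z := hy
  -- the valuation ring
  let K := PT.left.residueField p
  let f : T.left.presheaf.stalk z ⟶ K :=
    T.left.presheaf.stalkSpecializes hy ≫ p₂.left.stalkMap p ≫ PT.left.residue p
  obtain ⟨A, hA, hA'⟩ := IsLocalRing.exists_factor_valuationRing f.hom
  let fA : T.left.presheaf.stalk z ⟶ CommRingCat.of A :=
    CommRingCat.ofHom (f.hom.codRestrict A.toSubring hA)
  let tA : Spec (CommRingCat.of A) ⟶ T.left := Spec.map fA ≫ T.left.fromSpecStalk z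
  have htgen : Spec.map (CommRingCat.ofHom A.subtype) ≫ tA =
      PT.left.fromSpecResidueField p ≫ p₂.left := by
    rw [Scheme.fromSpecResidueField, Category.assoc, ← Scheme.SpecMap_stalkMap_fromSpecStalk,
      ← Scheme.SpecMap_stalkSpecializes_fromSpecStalk hy]
    simp only [tA, ← Spec.map_comp_assoc]
    rfl
  have htclosed : tA (IsLocalRing.closedPoint A) = z := by
    show T.left.fromSpecStalk z (Spec.map fA (IsLocalRing.closedPoint A)) = z
    have : Spec.map fA (IsLocalRing.closedPoint A) =
        IsLocalRing.closedPoint (T.left.presheaf.stalk z) :=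
      IsLocalRing.comap_closedPoint (S := A) (f.hom.codRestrict A.toSubring hA)
    rw [this, Scheme.fromSpecStalk_closedPoint]
  obtain ⟨b, hb, m, hm₁, hm₂⟩ := exists_spread πP.left A
    (PT.left.fromSpecResidueField p ≫ p₁.left) (tA ≫ t.left) (by
      rw [reassoc_of% htgen, Category.assoc, ← Over.comp_left, hp, Over.comp_left])
  let x : ValTest S := { R := A, a := b, ha := hb, str := tA ≫ T.hom }
  let τ : x.V ⟶ T := Over.homMk tA rfl
  let mP : x.W ⟶ P := Over.homMk m (by
    show m ≫ P.hom = Spec.map _ ≫ tA ≫ T.hom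
    rw [← Over.w t, ← Over.w πP, reassoc_of% hm₁])
  let mT : x.W ⟶ PT := Over.homMk (pullback.lift m (x.j.left ≫ tA) (by
    rw [hm₁, Category.assoc]
    rfl)) (by
      show pullback.lift _ _ _ ≫ pullback.fst _ _ ≫ P.hom = _
      rw [pullback.lift_fst_assoc]
      exact Over.w mP)
  have hmT₁ : mT ≫ p₁ = mP := Over.OverMorphism.ext (pullback.lift_fst _ _ _)
  have hmT₂ : mT ≫ p₂ = x.j ≫ τ := Over.OverMorphism.ext (pullback.lift_snd _ _ _)
  obtain ⟨e, h, hh₁, hh₂⟩ := hq x (τ ≫ t) ((yon S).map mP ≫ a) (by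
    rw [Category.assoc, ← hπP, ← Functor.map_comp, ← hmT₁, Category.assoc, hp,
      reassoc_of% hmT₂])
  let hT : (yon S).obj e.test.V ⟶ Z'' := sqT.lift h ((yon S).map (e.π ≫ τ)) (by
    rw [hh₁, ← Functor.map_comp, Category.assoc])
  have hT₁ : hT ≫ pT ≫ fst = h := sqT.lift_fst _ _ _
  have hT₂ : hT ≫ qT = (yon S).map (e.π ≫ τ) := sqT.lift_snd _ _ _
  let i := e.test.genW ≫ e.test.j
  have hagree : (yon S).map e.test.j ≫ hT = (yon S).map (e.πW ≫ mT) ≫ aT := by
    apply sqT.hom_ext
    · rw [Category.assoc, hT₁, hh₂, Category.assoc, haT₁, ← Category.assoc, ← Category.assoc,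
        ← Functor.map_comp, ← Functor.map_comp, Category.assoc, hmT₁]
    · rw [Category.assoc, hT₂, Category.assoc, haT₂, ← Functor.map_comp, ← Functor.map_comp,
        Category.assoc, hmT₂, ← Category.assoc, ← Category.assoc, e.πW_j]
  let η' : ↥e.test.gen.left := IsLocalRing.closedPoint (FractionRing e.R')
  have hgen : (e.test.genW ≫ e.πW ≫ mT).left η' = p := by
    let θ : FractionRing A →+* FractionRing e.R' :=
      IsFractionRing.map (K := FractionRing A) (L := FractionRing e.R') e.inj
    let ι : FractionRing A ≃+* K := (FractionRing.algEquiv A K).toRingEquiv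
    let ψ : K →+* FractionRing e.R' := θ.comp ι.symm.toRingHom
    have hψ : ψ.comp A.subtype = (algebraMap e.R' (FractionRing e.R')).comp e.φ := by
      ext r
      show θ (ι.symm (algebraMap A K r)) = _
      rw [show ι.symm (algebraMap A K r) = algebraMap A (FractionRing A) r from
        (FractionRing.algEquiv A K).symm.commutes r]
      exact IsLocalization.map_eq _ r
    let κ : Spec (CommRingCat.of (FractionRing e.R')) ⟶ Spec (PT.left.residueField p) :=
      Spec.map (CommRingCat.ofHom ψ)
    have key : (e.test.genW ≫ e.πW ≫ mT).left = κ ≫ PT.left.fromSpecResidueField p := by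
      have hj : (e.test.genW ≫ e.πW ≫ x.j).left = κ ≫ Spec.map (CommRingCat.ofHom A.subtype) := by
        rw [e.πW_j]
        show e.test.genW.left ≫ e.test.j.left ≫ e.π.left = _
        rw [e.π_left, e.test.j_left, e.test.genW_left, ← Spec.map_comp, ← Spec.map_comp,
          ← Spec.map_comp, ← CommRingCat.ofHom_comp, ← CommRingCat.ofHom_comp,
          ← CommRingCat.ofHom_comp, hψ, ← e.test.awayToFrac_comp]
        rfl
      obtain ⟨χ, hχ⟩ : ∃ χ : Localization.Away b →+* K,
          χ.comp (algebraMap A (Localization.Away b)) = A.subtype :=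
        ⟨IsLocalization.Away.lift b (g := A.subtype)
          (isUnit_iff_ne_zero.2 fun h => hb (Subtype.ext h)), IsLocalization.Away.lift_comp _ _⟩
      have hW : (e.test.genW ≫ e.πW).left = κ ≫ Spec.map (CommRingCat.ofHom χ) := by
        rw [← cancel_mono x.j.left, ← Over.comp_left, Category.assoc, hj, Category.assoc]
        congr 1
        rw [x.j_left, ← Spec.map_comp, ← CommRingCat.ofHom_comp]
        exact congrArg (fun t => Spec.map (CommRingCat.ofHom t)) hχ.symm
      rw [← Category.assoc, Over.comp_left, hW, Category.assoc]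
      congr 1
      apply pullback.hom_ext
      · show (_ ≫ pullback.lift m _ _) ≫ pullback.fst _ _ = _
        rw [Category.assoc, pullback.lift_fst, hm₂ χ hχ]
        rfl
      · show (_ ≫ pullback.lift m _ _) ≫ pullback.snd _ _ = _
        rw [Category.assoc, pullback.lift_snd, x.j_left, ← Category.assoc, ← Spec.map_comp,
          ← CommRingCat.ofHom_comp, hχ, htgen]
        rfl
    rw [key, Scheme.Hom.comp_apply]
    exact Scheme.fromSpecResidueField_apply p _
  have hpt : Points.ofPt hT (i.left η') ∈ D := by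
    rw [← ofPt_comp_yon, Functor.map_comp, Category.assoc, hagree, ← Category.assoc,
      ← Functor.map_comp, ofPt_comp_yon, hgen]
    exact hpD
  let v : ↥e.test.V.left := IsLocalRing.closedPoint e.R'
  have hv : Points.ofPt hT v ∈ D :=
    ((IsLocalRing.specializes_closedPoint (R := e.R') (i.left η')).map
      (Points.continuous_ofPt hT)).mem_closed hD hpt
  rw [← himg]
  refine ⟨_, hv, ?_⟩
  rw [map_ofPt_eq hT₂]
  congr 1
  show tA (e.π.left v) = z
  have : e.π.left v = IsLocalRing.closedPoint A := by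
    have := e.isLocal
    exact IsLocalRing.comap_closedPoint e.φ
  rw [this, htclosed]

end Groth.Misc10.IsoNat
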