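import Groth.Agent.Misc10.IsoNat.Separation

/-!
# Commutative automorphism groups from the presheaf of isomorphism classes
-/

set_option autoImplicit false
set_option backward.isDefEq.respectTransparency false
set_option backward.isDefEq.respectTransparency.types false

universe u

open CategoryTheory CategoryTheory.Limits AlgebraicGeometry

noncomputable section

namespace Groth.Misc10.IsoNat

variable {S : Scheme.{u}} {𝒳 𝒴 : AlgSt.Cat S}

/-- The three loops of the three doubled axes. -/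
def loop : Fin 3 → Fin 2 → Fin 3
  | 0 => ![0, 1]
  | 1 => ![1, 2]
  | 2 => ![0, 2]

theorem loop_injective (i : Fin 3) : Function.Injective (loop i) := by
  revert i
  decide

/-- The restriction of classes to a loop. -/
def toLoop (hg : FibCat.IsFibGrpd 𝒳.p) {T : Over S} (i : Fin 3)
    (a : IsoNat.IsoCl 𝒳 (AxDbl T (Fin 3))) : IsoNat.IsoCl 𝒳 (AxDbl T (Fin 2)) :=
  pullCls hg (axMap T (loop i) (loop_injective i)).dbl a

/-- The criterion for commutative automorphism groups, in terms of classes. -/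
def Crit (hg : FibCat.IsFibGrpd 𝒳.p) {T : Over S} (c₀ : IsoNat.IsoCl 𝒳 T) : Prop :=
  ∀ (T' : Over S) (f : T' ⟶ T) (a b : IsoNat.IsoCl 𝒳 (AxDbl T' (Fin 3))),
    LocTriv hg (Fin 3) (pullCls hg f c₀) a → LocTriv hg (Fin 3) (pullCls hg f c₀) b →
      toLoop hg 0 a = toLoop hg 0 b → toLoop hg 2 a = toLoop hg 2 b → a = b

theorem toEquiv_toLoop (φ : IsoNat.FIso 𝒳 𝒴) (hX : FibCat.IsFibGrpd 𝒳.p)
    (hY : FibCat.IsFibGrpd 𝒴.p) {T : Over S} (i : Fin 3)
    (a : IsoNat.IsoCl 𝒳 (AxDbl T (Fin 3))) :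
    φ.toEquiv _ (toLoop hX i a) = toLoop hY i (φ.toEquiv _ a) :=
  toEquiv_pullCls φ hX hY _ a

theorem locTriv_iff (φ : IsoNat.FIso 𝒳 𝒴) (hX : FibCat.IsFibGrpd 𝒳.p)
    (hY : FibCat.IsFibGrpd 𝒴.p) {T : Over S} (κ : Type) [DecidableEq κ]
    (c₀ : IsoNat.IsoCl 𝒳 T) (a : IsoNat.IsoCl 𝒳 (AxDbl T κ)) :
    LocTriv hY κ (φ.toEquiv T c₀) (φ.toEquiv _ a) ↔ LocTriv hX κ c₀ a := by
  refine forall_congr' fun b => ?_
  rw [← toEquiv_pullCls φ hX hY, ← toEquiv_pullCls φ hX hY]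
  exact (φ.toEquiv _).injective.eq_iff

theorem crit_iff (φ : IsoNat.FIso 𝒳 𝒴) (hX : FibCat.IsFibGrpd 𝒳.p) (hY : FibCat.IsFibGrpd 𝒴.p)
    {T : Over S} (c₀ : IsoNat.IsoCl 𝒳 T) : Crit hY (φ.toEquiv T c₀) ↔ Crit hX c₀ := by
  refine forall_congr' fun T' => forall_congr' fun f => ?_
  rw [(φ.toEquiv _).surjective.forall₂]
  refine forall_congr' fun a => forall_congr' fun b => ?_
  rw [← toEquiv_pullCls φ hX hY, locTriv_iff φ hX hY, locTriv_iff φ hX hY,
    ← toEquiv_toLoop φ hX hY, ← toEquiv_toLoop φ hX hY, ← toEquiv_toLoop φ hX hY,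
    ← toEquiv_toLoop φ hX hY, (φ.toEquiv _).injective.eq_iff, (φ.toEquiv _).injective.eq_iff,
    (φ.toEquiv _).injective.eq_iff]

variable (hX : Stk.IsPrestack (AlgSp.J S) 𝒳) {T : Over S} (η : 𝒳.p.Fiber T)

theorem G_comm (hab : IsoNat.IsAutAbelian η) {A : Type u} [CommRing A] (s t : G hX η A) :
    s * t = t * s :=
  hab _ _ (pullLift hX.1 _ η).1 s t

theorem Tw.toLoop_eq_iff (i : Fin 3) {x : 𝒳.p.Fiber (AxDbl T (Fin 3))}
    {c : Fin 3 → G hX η Lr.{u}} (hx : Tw hX η (Fin 3) x c)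
    {y : 𝒳.p.Fiber (AxDbl T (Fin 2))} {d : Fin 2 → G hX η Lr.{u}} (hy : Tw hX η (Fin 2) y d) :
    toLoop hX.1 i (IsoNat.cls x) = IsoNat.cls y ↔
      ∃ g : Bool → G hX η (Axes.{u} (Fin 2)), ∀ j,
        d j * rr hX η (Axes.punct j) (g false) = rr hX η (Axes.punct j) (g true) * c (loop i j) :=
  Tw.pullCls_eq_iff hX η (loop i) (loop_injective i) hx hy

variable (hd : AlgSt.RepByAlgSpWith (AlgSp.IsSeparatedMor ⊓ AlgSp.IsQuasiCompactMor)
  (FibCat.diag (FibCat.toSelf 𝒳)))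

include hd in
theorem rr_proj_eq {κ κ' : Type} [DecidableEq κ] [DecidableEq κ'] (i : κ) (j : κ')
    {y : G hX η (Axes.{u} κ)} {y' : G hX η (Axes.{u} κ')} {s s' : G hX η Zu.{u}}
    (e : cst hX η s * rr hX η (Axes.punct i) y = cst hX η s' * rr hX η (Axes.punct j) y') :
    cst hX η s * rr hX η (Axes.proj i) y = cst hX η s' * rr hX η (Axes.proj j) y' := by
  apply rr_toLaurent_injective hX η hd
  rwa [map_mul, map_mul, rr_cst, rr_cst, ← rr_punct, ← rr_punct]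

include hd in
theorem rr_zero_eq {κ κ' : Type} [DecidableEq κ] [DecidableEq κ'] (i : κ) (j : κ')
    {y : G hX η (Axes.{u} κ)} {y' : G hX η (Axes.{u} κ')} {s s' : G hX η Zu.{u}}
    (e : cst hX η s * rr hX η (Axes.punct i) y = cst hX η s' * rr hX η (Axes.punct j) y') :
    s * rr hX η (Axes.zero κ) y = s' * rr hX η (Axes.zero κ') y' := by
  have h := congrArg (rr hX η Axes.zero₁) (rr_proj_eq hX η hd i j e)
  rwa [map_mul, map_mul, rr_cst, rr_cst, cst_self, cst_self, rr_zero₁_proj, rr_zero₁_proj] at h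

include hd in
theorem rr_zero_eq' {κ : Type} [DecidableEq κ] (i : κ) {y y' : G hX η (Axes.{u} κ)}
    {s s' : G hX η Zu.{u}}
    (e : rr hX η (Axes.punct i) y * cst hX η s = cst hX η s' * rr hX η (Axes.punct i) y') :
    rr hX η (Axes.zero κ) y * s = s' * rr hX η (Axes.zero κ) y' := by
  have h : rr hX η (Axes.proj i) y * cst hX η s = cst hX η s' * rr hX η (Axes.proj i) y' := by
    apply rr_toLaurent_injective hX η hd
    rwa [map_mul, map_mul, rr_cst, rr_cst, ← rr_punct, ← rr_punct]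
  have h' := congrArg (rr hX η Axes.zero₁) h
  rwa [map_mul, map_mul, rr_cst, rr_cst, cst_self, cst_self, rr_zero₁_proj, rr_zero₁_proj] at h'

include hd in
theorem eq_of_loops (hab : IsoNat.IsAutAbelian η) (a b : IsoNat.IsoCl 𝒳 (AxDbl T (Fin 3)))
    (ha : LocTriv hX.1 (Fin 3) (IsoNat.cls η) a) (hb : LocTriv hX.1 (Fin 3) (IsoNat.cls η) b)
    (h0 : toLoop hX.1 0 a = toLoop hX.1 0 b) (h2 : toLoop hX.1 2 a = toLoop hX.1 2 b) :
    a = b := by
  obtain ⟨x, c, rfl, hx⟩ := exists_Tw_of_locTriv hX η ha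
  obtain ⟨x', c', rfl, hx'⟩ := exists_Tw_of_locTriv hX η hb
  have comm : ∀ {A : Type u} [CommRing A] (p q : G hX η A), p * q = q * p :=
    fun p q => G_comm hX η hab p q
  have hk : ∀ i, toLoop hX.1 i (IsoNat.cls x) = toLoop hX.1 i (IsoNat.cls x') →
      ∃ k : G hX η (Axes.{u} (Fin 2)), ∀ j,
        rr hX η (Axes.punct j) k * c (loop i j) = c' (loop i j) := by
    intro i e
    obtain ⟨g, hg⟩ := (Tw.toLoop_eq_iff hX η i hx
      (Tw.pull hX η (loop i) (loop_injective i) hx')).1 e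
    refine ⟨g true * (g false)⁻¹, fun j => ?_⟩
    have h := hg j
    simp only [Function.comp_apply] at h
    rw [map_mul, map_inv, mul_assoc, comm _ (c (loop i j)), ← mul_assoc, ← h, mul_inv_cancel_right]
  obtain ⟨k, hk0⟩ := hk 0 h0
  obtain ⟨k', hk2⟩ := hk 2 h2
  have hz : rr hX η (Axes.zero (Fin 2)) k = rr hX η (Axes.zero (Fin 2)) k' := by
    simpa using rr_zero_eq hX η hd (0 : Fin 2) (0 : Fin 2) (s := 1) (s' := 1) (y := k) (y' := k')
      (by
        have e : rr hX η (Axes.punct 0) k * c 0 = rr hX η (Axes.punct 0) k' * c 0 :=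
          (hk0 0).trans (hk2 0).symm
        rw [map_one, one_mul, one_mul]
        exact mul_right_cancel e)
  let f : G hX η (Axes.{u} (Fin 3)) :=
    rr hX η (Axes.extendHom (loop 0) (loop_injective 0)) k *
      rr hX η (Axes.sect 2) (rr hX η (Axes.proj 1) k') *
      (cst hX η (rr hX η (Axes.zero (Fin 2)) k'))⁻¹
  have hf : ∀ j : Fin 2, rr hX η (Axes.punct (loop 0 j)) f = rr hX η (Axes.punct j) k := by
    intro j
    have hne : (2 : Fin 3) ≠ loop 0 j := by revert j; decide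
    simp only [f, map_mul, map_inv, rr_cst, rr_punct]
    simp only [rr_rr, Axes.proj_comp_extendHom, AlgHom.comp_assoc]
    rw [← rr_rr hX η ((Axes.proj (loop 0 j)).comp ((Axes.sect 2).comp (Axes.proj 1))),
      ← AlgHom.comp_assoc, Axes.proj_comp_sect_ne hne, AlgHom.comp_assoc, Axes.zero₁_comp_proj,
      ← rr_rr hX η (Axes.zero (Fin 2)) (Algebra.ofId _ _)]
    change _ * rr hX η _ (cst hX η (rr hX η (Axes.zero (Fin 2)) k')) * _ = _
    rw [rr_cst, mul_inv_cancel_right]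
  have hf2 : rr hX η (Axes.punct 2) f = rr hX η (Axes.punct 1) k' := by
    have hne : ∀ j : Fin 2, loop 0 j ≠ (2 : Fin 3) := by decide
    simp only [f, map_mul, map_inv, rr_cst, rr_punct]
    simp only [rr_rr, AlgHom.comp_assoc]
    rw [Axes.proj_comp_extendHom_ne _ _ hne,
      ← AlgHom.comp_assoc (Axes.proj 2) (Axes.sect 2) (Axes.proj 1), Axes.proj_comp_sect,
      AlgHom.id_comp, ← AlgHom.comp_assoc Polynomial.toLaurentAlg,
      show (Polynomial.toLaurentAlg (R := Zu.{u})).comp (Algebra.ofId _ _) =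
        Algebra.ofId Zu.{u} Lr.{u} from Subsingleton.elim _ _,
      ← rr_rr hX η (Axes.zero (Fin 2)), hz]
    change cst hX η _ * _ * _ = _
    rw [comm (cst hX η _), mul_inv_cancel_right]
  refine (hx.cls_eq_iff hX η hx').2 ⟨fun b => bif b then f else 1, fun j => ?_⟩
  have : (∃ l : Fin 2, loop 0 l = j) ∨ j = 2 := by revert j; decide
  show c' j * rr hX η _ 1 = rr hX η _ f * c j
  rw [map_one, mul_one]
  rcases this with ⟨l, rfl⟩ | rfl
  · rw [hf, hk0]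
  · rw [hf2]
    exact (hk2 1).symm

include hX in
theorem isAutAbelian_pull (hab : IsoNat.IsAutAbelian η) {T' : Over S} (f : T' ⟶ T) :
    IsoNat.IsAutAbelian (pullObj hX.1 f η) :=
  fun T'' x a s t => hab T'' x (a ≫ (pullLift hX.1 f η).1) s t

include hd in
theorem crit_of_isAutAbelian (hab : IsoNat.IsAutAbelian η) : Crit hX.1 (IsoNat.cls η) :=
  fun T' f a b ha hb => eq_of_loops hX (pullObj hX.1 f η) hd (isAutAbelian_pull hX η hab f) a b ha hb

include hd in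
theorem isAutAbelian_of_crit (hS : Stk.IsStack (AlgSp.J S) 𝒳) (h : Crit hX.1 (IsoNat.cls η)) :
    IsoNat.IsAutAbelian η := by
  intro T' x a s t
  let f : T' ⟶ T := eqToHom x.2.symm ≫ 𝒳.p.map a ≫ eqToHom η.2
  have hlift : 𝒳.p.IsHomLift f a := IsHomLift.of_fac' 𝒳.p f a x.2 η.2 (by simp [f])
  have hc : pullCls hX.1 f (IsoNat.cls η) = IsoNat.cls x := pullCls_cls hX.1 ⟨a, hlift⟩
  apply (toG_bijective hX x).injective
  rw [map_mul, map_mul]
  generalize toG hX x s = p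
  generalize toG hX x t = q
  let c : Fin 3 → G hX x Lr.{u} := ![1, cst hX x p, cst hX x p]
  let c' : Fin 3 → G hX x Lr.{u} := ![1, cst hX x p, cst hX x (q * p * q⁻¹)]
  obtain ⟨y, hy⟩ := exists_Tw hX x hS c
  obtain ⟨y', hy'⟩ := exists_Tw hX x hS c'
  have hpull := Tw.pull hX x (loop 0) (loop_injective 0) hy'
  have h0 : toLoop hX.1 0 (IsoNat.cls y) = toLoop hX.1 0 (IsoNat.cls y') :=
    (Tw.toLoop_eq_iff hX x 0 hy hpull).2 ⟨fun _ => 1, fun j => by
      rw [map_one, mul_one, one_mul]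
      fin_cases j <;> rfl⟩
  have h2 : toLoop hX.1 2 (IsoNat.cls y) = toLoop hX.1 2 (IsoNat.cls y') :=
    (Tw.toLoop_eq_iff hX x 2 hy (Tw.pull hX x (loop 2) (loop_injective 2) hy')).2
      ⟨fun _ => cst hX x q, fun j => by
        rw [rr_cst]
        fin_cases j
        · show (1 : G hX x Lr.{u}) * cst hX x q = cst hX x q * 1
          rw [one_mul, mul_one]
        · show cst hX x (q * p * q⁻¹) * cst hX x q = cst hX x q * cst hX x p
          rw [← map_mul, ← map_mul, inv_mul_cancel_right]⟩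
  have e := h T' f (IsoNat.cls y) (IsoNat.cls y') (hc ▸ Tw.locTriv hX x hy)
    (hc ▸ Tw.locTriv hX x hy') h0 h2
  obtain ⟨g, hg⟩ := (hy.cls_eq_iff hX x hy').1 e
  have e0 : rr hX x (Axes.zero (Fin 3)) (g false) * 1 =
      1 * rr hX x (Axes.zero (Fin 3)) (g true) :=
    rr_zero_eq' hX x hd (0 : Fin 3) (by
      rw [map_one, mul_one, one_mul]
      simpa [c, c'] using hg 0)
  rw [mul_one, one_mul] at e0
  have e1 : rr hX x (Axes.zero (Fin 3)) (g true) * p =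
      p * rr hX x (Axes.zero (Fin 3)) (g false) :=
    rr_zero_eq' hX x hd (1 : Fin 3) (by simpa [c, c'] using (hg 1).symm)
  have e2 : rr hX x (Axes.zero (Fin 3)) (g true) * p =
      q * p * q⁻¹ * rr hX x (Axes.zero (Fin 3)) (g false) :=
    rr_zero_eq' hX x hd (2 : Fin 3) (by simpa [c, c'] using (hg 2).symm)
  rw [e1, e0] at e2
  exact mul_inv_eq_iff_eq_mul.1 (mul_right_cancel e2).symm |>.symm

/-- Local triviality on a line and on the loop, for classes on two doubled axes. -/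
def IsConst (hg : FibCat.IsFibGrpd 𝒳.p) {T : Over S} (c₀ : IsoNat.IsoCl 𝒳 T)
    (a : IsoNat.IsoCl 𝒳 (AxDbl T (Fin 2))) : Prop :=
  LocTriv hg (Fin 2) c₀ a ∧ ∀ i : Fin 2,
    pullCls hg (axMap T (fun _ : Fin 1 => i) (Function.injective_of_subsingleton _)).dbl a =
      pullCls hg ((axD T (Fin 1)).fold ≫ prH T (.of (Axes.{u} (Fin 1)))) c₀

/-- The addition law on such classes. -/
def Mul (hg : FibCat.IsFibGrpd 𝒳.p) {T : Over S} (c₀ : IsoNat.IsoCl 𝒳 T)
    (a b d : IsoNat.IsoCl 𝒳 (AxDbl T (Fin 2))) : Prop :=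
  ∃ Q, LocTriv hg (Fin 3) c₀ Q ∧ toLoop hg 0 Q = a ∧ toLoop hg 1 Q = b ∧ toLoop hg 2 Q = d

theorem isConst_iff (φ : IsoNat.FIso 𝒳 𝒴) (hgX : FibCat.IsFibGrpd 𝒳.p)
    (hgY : FibCat.IsFibGrpd 𝒴.p) {T : Over S} (c₀ : IsoNat.IsoCl 𝒳 T)
    (a : IsoNat.IsoCl 𝒳 (AxDbl T (Fin 2))) :
    IsConst hgY (φ.toEquiv T c₀) (φ.toEquiv _ a) ↔ IsConst hgX c₀ a := by
  refine and_congr (locTriv_iff φ hgX hgY _ _ _) (forall_congr' fun i => ?_)
  rw [← toEquiv_pullCls φ hgX hgY, ← toEquiv_pullCls φ hgX hgY]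
  exact (φ.toEquiv _).injective.eq_iff

theorem mul_iff (φ : IsoNat.FIso 𝒳 𝒴) (hgX : FibCat.IsFibGrpd 𝒳.p)
    (hgY : FibCat.IsFibGrpd 𝒴.p) {T : Over S} (c₀ : IsoNat.IsoCl 𝒳 T)
    (a b d : IsoNat.IsoCl 𝒳 (AxDbl T (Fin 2))) :
    Mul hgY (φ.toEquiv T c₀) (φ.toEquiv _ a) (φ.toEquiv _ b) (φ.toEquiv _ d) ↔
      Mul hgX c₀ a b d := by
  rw [Mul, Mul, (φ.toEquiv _).surjective.exists]
  refine exists_congr fun Q => ?_
  rw [locTriv_iff φ hgX hgY, ← toEquiv_toLoop φ hgX hgY, ← toEquiv_toLoop φ hgX hgY,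
    ← toEquiv_toLoop φ hgX hgY, (φ.toEquiv _).injective.eq_iff, (φ.toEquiv _).injective.eq_iff,
    (φ.toEquiv _).injective.eq_iff]

/-- The twisted form with constant loop `s`. -/
def θ (hS : Stk.IsStack (AlgSp.J S) 𝒳) (s : G hX η Zu.{u}) :
    𝒳.p.Fiber (AxDbl T (Fin 2)) :=
  (exists_Tw hX η hS ![1, cst hX η s]).choose

theorem θ_tw (hS : Stk.IsStack (AlgSp.J S) 𝒳) (s : G hX η Zu.{u}) :
    Tw hX η (Fin 2) (θ hX η hS s) ![1, cst hX η s] :=
  (exists_Tw hX η hS ![1, cst hX η s]).choose_spec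

theorem isConst_θ (hS : Stk.IsStack (AlgSp.J S) 𝒳) (s : G hX η Zu.{u}) :
    IsConst hX.1 (IsoNat.cls η) (IsoNat.cls (θ hX η hS s)) := by
  refine ⟨Tw.locTriv hX η (θ_tw hX η hS s), fun i => ?_⟩
  rw [pullCls_cls' hX.1 ((axD T (Fin 1)).fold ≫ _) η]
  refine (Tw.pullCls_eq_iff hX η _ _ (θ_tw hX η hS s) (Tw_one hX η)).2
    ⟨fun b => bif b then 1 else cst hX η (![1, s] i), fun j => ?_⟩
  show 1 * rr hX η _ (cst hX η _) = rr hX η _ 1 * _
  rw [one_mul, map_one, one_mul, rr_cst]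
  fin_cases i <;> simp

include hd in
theorem θ_injective (hS : Stk.IsStack (AlgSp.J S) 𝒳) (hab : IsoNat.IsAutAbelian η)
    {s t : G hX η Zu.{u}} (e : IsoNat.cls (θ hX η hS s) = IsoNat.cls (θ hX η hS t)) : s = t := by
  obtain ⟨g, hg⟩ := ((θ_tw hX η hS s).cls_eq_iff hX η (θ_tw hX η hS t)).1 e
  have e0 : rr hX η (Axes.zero (Fin 2)) (g true) * 1 =
      1 * rr hX η (Axes.zero (Fin 2)) (g false) :=
    rr_zero_eq' hX η hd (0 : Fin 2) (by simpa using (hg 0).symm)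
  have e1 : rr hX η (Axes.zero (Fin 2)) (g true) * s =
      t * rr hX η (Axes.zero (Fin 2)) (g false) :=
    rr_zero_eq' hX η hd (1 : Fin 2) (by simpa using (hg 1).symm)
  rw [mul_one, one_mul] at e0
  rw [e0, G_comm hX η hab _ s] at e1
  exact mul_right_cancel e1

include hd in
theorem θ_surjective (hS : Stk.IsStack (AlgSp.J S) 𝒳) (hab : IsoNat.IsAutAbelian η)
    {a : IsoNat.IsoCl 𝒳 (AxDbl T (Fin 2))} (ha : IsConst hX.1 (IsoNat.cls η) a) :
    ∃ s, IsoNat.cls (θ hX η hS s) = a := by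
  obtain ⟨x, c, rfl, hx⟩ := exists_Tw_of_locTriv hX η ha.1
  have comm : ∀ {A : Type u} [CommRing A] (p q : G hX η A), p * q = q * p :=
    fun p q => G_comm hX η hab p q
  have he : ∀ i, ∃ k : G hX η (Polynomial Zu.{u}), rr hX η Polynomial.toLaurentAlg k = c i := by
    intro i
    obtain ⟨g, hg⟩ := (Tw.pullCls_eq_iff hX η (fun _ : Fin 1 => i)
      (Function.injective_of_subsingleton _) hx (Tw_one hX η)).1
        ((ha.2 i).trans (pullCls_cls' hX.1 _ η))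
    refine ⟨rr hX η (Axes.proj 0) ((g true)⁻¹ * g false), ?_⟩
    rw [← rr_punct, map_mul, map_inv, inv_mul_eq_iff_eq_mul]
    exact (one_mul _).symm.trans (hg 0)
  choose k hk using he
  let z : Fin 2 → G hX η Zu.{u} := fun i => rr hX η Axes.zero₁ (k i)
  let F : G hX η (Axes.{u} (Fin 2)) :=
    rr hX η (Axes.sect 0) (k 0) * rr hX η (Axes.sect 1) (k 1) * (cst hX η (z 1))⁻¹
  refine ⟨z 1 * (z 0)⁻¹, ((θ_tw hX η hS _).cls_eq_iff hX η hx).2
    ⟨fun b => bif b then F else 1, fun j => ?_⟩⟩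
  have hsame : ∀ i, rr hX η (Axes.punct i) (rr hX η (Axes.sect i) (k i)) = c i := fun i => by
    rw [rr_punct, rr_rr hX η (Axes.sect i) (Axes.proj i), Axes.proj_comp_sect, rr_id, hk]
  have hne : ∀ i l : Fin 2, i ≠ l →
      rr hX η (Axes.punct l) (rr hX η (Axes.sect i) (k i)) = cst hX η (z i) := fun i l hil => by
    rw [rr_punct, rr_rr hX η (Axes.sect i) (Axes.proj l), Axes.proj_comp_sect_ne hil,
      ← rr_rr hX η Axes.zero₁]
    exact rr_cst hX η _ _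
  show c j * rr hX η _ 1 = rr hX η _ F * _
  simp only [F, map_mul, map_inv, map_one, rr_cst, mul_one]
  obtain rfl | rfl : j = (0 : Fin 2) ∨ j = (1 : Fin 2) := by revert j; decide
  · show c 0 = _ * _ * _ * 1
    rw [hsame, hne 1 0 (by decide), mul_inv_cancel_right, mul_one]
  · show c 1 = _ * _ * _ * (cst hX η (z 1) * (cst hX η (z 0))⁻¹)
    rw [hne 0 1 (by decide), hsame, ← mul_assoc, inv_mul_cancel_right, comm (cst hX η (z 0)),
      mul_inv_cancel_right]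

include hd in
theorem mul_θ_iff (hS : Stk.IsStack (AlgSp.J S) 𝒳) (hab : IsoNat.IsAutAbelian η)
    (s t u' : G hX η Zu.{u}) :
    Mul hX.1 (IsoNat.cls η) (IsoNat.cls (θ hX η hS s)) (IsoNat.cls (θ hX η hS t))
      (IsoNat.cls (θ hX η hS u')) ↔ u' = s * t := by
  have comm : ∀ {A : Type u} [CommRing A] (p q : G hX η A), p * q = q * p :=
    fun p q => G_comm hX η hab p q
  constructor
  · rintro ⟨Q, hQ, h0, h1, h2⟩
    obtain ⟨x, c, rfl, hx⟩ := exists_Tw_of_locTriv hX η hQ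
    have hk : ∀ i v, toLoop hX.1 i (IsoNat.cls x) = IsoNat.cls (θ hX η hS v) →
        ∃ k : G hX η (Axes.{u} (Fin 2)),
          c (loop i 0) = cst hX η 1 * rr hX η (Axes.punct 0) k ∧
          c (loop i 1) = cst hX η v * rr hX η (Axes.punct 1) k := by
      intro i v e
      obtain ⟨g, hg⟩ := (Tw.toLoop_eq_iff hX η i hx (θ_tw hX η hS v)).1 e
      refine ⟨(g true)⁻¹ * g false, ?_, ?_⟩
      · rw [map_mul, map_inv, map_one, one_mul, eq_inv_mul_iff_mul_eq]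
        simpa using (hg 0).symm
      · rw [map_mul, map_inv, ← mul_assoc, comm (cst hX η v), mul_assoc, eq_inv_mul_iff_mul_eq]
        simpa using (hg 1).symm
    obtain ⟨kA, hA0, hA1⟩ := hk 0 s h0
    obtain ⟨kB, hB0, hB1⟩ := hk 1 t h1
    obtain ⟨kC, hC0, hC1⟩ := hk 2 u' h2
    have e0 := rr_zero_eq hX η hd (0 : Fin 2) (0 : Fin 2) (hA0.symm.trans hC0)
    have e1 := rr_zero_eq hX η hd (1 : Fin 2) (0 : Fin 2) (hA1.symm.trans hB0)
    have e2 := rr_zero_eq hX η hd (1 : Fin 2) (1 : Fin 2) (hB1.symm.trans hC1)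
    rw [one_mul, one_mul] at e0
    rw [one_mul] at e1
    rw [← e1, ← e0, ← mul_assoc, comm t s] at e2
    exact (mul_right_cancel e2).symm
  · rintro rfl
    obtain ⟨x, hx⟩ := exists_Tw hX η hS ![1, cst hX η s, cst hX η (s * t)]
    refine ⟨IsoNat.cls x, Tw.locTriv hX η hx,
      (Tw.toLoop_eq_iff hX η 0 hx (θ_tw hX η hS s)).2 ⟨fun _ => 1, fun j => ?_⟩,
      (Tw.toLoop_eq_iff hX η 1 hx (θ_tw hX η hS t)).2
        ⟨fun b => bif b then (cst hX η s)⁻¹ else 1, fun j => ?_⟩,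
      (Tw.toLoop_eq_iff hX η 2 hx (θ_tw hX η hS (s * t))).2 ⟨fun _ => 1, fun j => ?_⟩⟩
    · rw [map_one, mul_one, one_mul]
      fin_cases j <;> rfl
    · show _ * rr hX η _ 1 = rr hX η _ (cst hX η s)⁻¹ * _
      rw [map_one, mul_one, map_inv, rr_cst]
      fin_cases j
      · show (1 : G hX η Lr.{u}) = _ * cst hX η s
        rw [inv_mul_cancel]
      · show cst hX η t = _ * cst hX η (s * t)
        rw [map_mul, inv_mul_cancel_left]
    · rw [map_one, mul_one, one_mul]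
      fin_cases j <;> rfl

include hd in
theorem exists_equiv_const (hS : Stk.IsStack (AlgSp.J S) 𝒳) (hab : IsoNat.IsAutAbelian η) :
    ∃ e : Aut η ≃ {a : IsoNat.IsoCl 𝒳 (AxDbl T (Fin 2)) // IsConst hX.1 (IsoNat.cls η) a},
      ∀ s t v, Mul hX.1 (IsoNat.cls η) (e s).1 (e t).1 (e v).1 ↔ v = s * t := by
  refine ⟨Equiv.ofBijective
    (fun s => ⟨IsoNat.cls (θ hX η hS (toG hX η s)), isConst_θ hX η hS _⟩)
    ⟨fun s t e => (toG_bijective hX η).injective
      (θ_injective hX η hd hS hab (congrArg Subtype.val e)), fun a => ?_⟩, fun s t v => ?_⟩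
  · obtain ⟨s, hs⟩ := θ_surjective hX η hd hS hab a.2
    obtain ⟨s, rfl⟩ := (toG_bijective hX η).surjective s
    exact ⟨s, Subtype.ext hs⟩
  · refine (mul_θ_iff hX η hd hS hab _ _ _).trans ?_
    rw [← map_mul]
    exact (toG_bijective hX η).injective.eq_iff

theorem isAutAbelian_iff (φ : IsoNat.FIso 𝒳 𝒴) (hSX : Stk.IsStack (AlgSp.J S) 𝒳)
    (hSY : Stk.IsStack (AlgSp.J S) 𝒴)
    (hdX : AlgSt.RepByAlgSpWith (AlgSp.IsSeparatedMor ⊓ AlgSp.IsQuasiCompactMor)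
      (FibCat.diag (FibCat.toSelf 𝒳)))
    (hdY : AlgSt.RepByAlgSpWith (AlgSp.IsSeparatedMor ⊓ AlgSp.IsQuasiCompactMor)
      (FibCat.diag (FibCat.toSelf 𝒴)))
    {T : Over S} (η : 𝒳.p.Fiber T) (η' : 𝒴.p.Fiber T)
    (hη : φ.toEquiv T (IsoNat.cls η) = IsoNat.cls η') :
    IsoNat.IsAutAbelian η ↔ IsoNat.IsAutAbelian η' := by
  have hX := Groth.StkBase.isPrestack_of_isStack hSX
  have hY := Groth.StkBase.isPrestack_of_isStack hSY
  have hcrit : Crit hX.1 (IsoNat.cls η) ↔ Crit hY.1 (IsoNat.cls η') := by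
    rw [← hη]
    exact (crit_iff φ hX.1 hY.1 _).symm
  exact ⟨fun h => isAutAbelian_of_crit hY η' hdY hSY (hcrit.1 (crit_of_isAutAbelian hX η hdX h)),
    fun h => isAutAbelian_of_crit hX η hdX hSX (hcrit.2 (crit_of_isAutAbelian hY η' hdY h))⟩

theorem nonempty_mulEquiv (φ : IsoNat.FIso 𝒳 𝒴) (hSX : Stk.IsStack (AlgSp.J S) 𝒳)
    (hSY : Stk.IsStack (AlgSp.J S) 𝒴)
    (hdX : AlgSt.RepByAlgSpWith (AlgSp.IsSeparatedMor ⊓ AlgSp.IsQuasiCompactMor)
      (FibCat.diag (FibCat.toSelf 𝒳)))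
    (hdY : AlgSt.RepByAlgSpWith (AlgSp.IsSeparatedMor ⊓ AlgSp.IsQuasiCompactMor)
      (FibCat.diag (FibCat.toSelf 𝒴)))
    {T : Over S} (η : 𝒳.p.Fiber T) (η' : 𝒴.p.Fiber T)
    (hη : φ.toEquiv T (IsoNat.cls η) = IsoNat.cls η') (hab : IsoNat.IsAutAbelian η) :
    Nonempty (Aut η ≃* Aut η') := by
  have hX := Groth.StkBase.isPrestack_of_isStack hSX
  have hY := Groth.StkBase.isPrestack_of_isStack hSY
  have hab' := (isAutAbelian_iff φ hSX hSY hdX hdY η η' hη).1 hab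
  obtain ⟨eX, heX⟩ := exists_equiv_const hX η hdX hSX hab
  obtain ⟨eY, heY⟩ := exists_equiv_const hY η' hdY hSY hab'
  let E : {a // IsConst hX.1 (IsoNat.cls η) a} ≃ {a // IsConst hY.1 (IsoNat.cls η') a} :=
    Equiv.subtypeEquiv (φ.toEquiv _) fun a => by
      rw [← hη]
      exact (isConst_iff φ hX.1 hY.1 _ a).symm
  refine ⟨MulEquiv.mk' (eX.trans (E.trans eY.symm)) fun s t => ?_⟩
  let ψ := eX.trans (E.trans eY.symm)
  have hψ : ∀ x, (eY (ψ x)).1 = φ.toEquiv _ (eX x).1 := fun x => by simp [ψ, E]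
  show ψ (s * t) = ψ s * ψ t
  rw [← heY, hψ, hψ, hψ, ← hη, mul_iff φ hX.1 hY.1, heX]

end Groth.Misc10.IsoNat
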