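import Groth.Agent.Misc10.IsoNat.Cover
import Groth.Agent.AlgStBasic.LocalLift
import Groth.Agent.AlgStBasic.SepRep
import Groth.Agent.AlgStBasic.StCompact

/-!
# Properties of representable functors checked on affine smooth charts of the target
-/

set_option autoImplicit false
set_option backward.isDefEq.respectTransparency false
set_option backward.isDefEq.respectTransparency.types false

universe u

open CategoryTheory CategoryTheory.Limits AlgebraicGeometry Opposite
open Groth.StkBase Groth.AlgStBasic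

namespace Groth.Misc10.IsoNat

variable {S : Scheme.{u}} {𝒳 𝒴 : AlgSt.Cat S} {P : MorphismProperty (AlgSp.Sp S)}

/-- A functor between categories of schemes over schemes is composition with a morphism. -/
theorem exists_overMap_iso {V U : Over S} (z : FibCat.overCat V ⥤ᵇ FibCat.overCat U) :
    ∃ k : V ⟶ U, Nonempty (z ≅ AlgSt.overMap k) := by
  obtain ⟨X, hX⟩ : ∃ X, X = z.obj (idObj V) := ⟨_, rfl⟩
  have hw : X.left = V := by rw [hX]; exact z.w_obj (idObj V)
  obtain ⟨L, o, q⟩ := X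
  change L = V at hw
  subst hw
  refine ⟨q, (nonempty_overIso_iff (isFibGrpd_overCat U) _ _).2 ⟨eqToHom ?_, isVert_eqToHom _⟩⟩
  rw [← hX]
  show _ = Over.mk (𝟙 _ ≫ q)
  rw [Category.id_comp]
  rfl

theorem nonempty_iso_overMap_comp {𝒲 : AlgSt.Cat S} {W V U : Over S} (a : W ⟶ V) (b : V ⟶ U)
    (w : FibCat.overCat U ⥤ᵇ 𝒲) :
    Nonempty (BasedFunctor.comp (AlgSt.overMap a) (BasedFunctor.comp (AlgSt.overMap b) w) ≅
      BasedFunctor.comp (AlgSt.overMap (a ≫ b)) w) :=
  ⟨whiskerRightIso (nonempty_overMap_comp_iso a b).some w⟩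

/-- Objects factor locally through affine smooth charts. -/
theorem exists_affineChart_lift (hY : AlgSt.IsAlgStack Scheme.fppfPrecoverage 𝒴) (U : Over S)
    (y : FibCat.overCat U ⥤ᵇ 𝒴) :
    ∃ R ∈ AlgSp.J S U, ∀ ⦃W : Over S⦄ (h : W ⟶ U), R.arrows h →
      ∃ (A : Over S) (_ : IsAffine A.left) (v : FibCat.overCat A ⥤ᵇ 𝒴)
        (_ : AlgSt.RepByAlgSpWith (AlgSp.LocP @Smooth) v) (k : W ⟶ A),
        Nonempty (BasedFunctor.comp (AlgSt.overMap k) v ≅ BasedFunctor.comp (AlgSt.overMap h) y) := by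
  obtain ⟨U₀, a, ha, has⟩ := hY.atlas
  obtain ⟨R₀, hR₀, hR₀'⟩ := exists_lift_of_fppf_surjective
    (repWith_locP_of_smooth (P := @Flat) (fun _ _ f (_ : Smooth f) => inferInstance) ha)
    (repWith_locP_of_smooth (P := @LocallyOfFinitePresentation) (fun _ _ f (_ : Smooth f) => inferInstance) ha)
    has U y
  have loc : ∀ ⦃V : Over S⦄ (h : V ⟶ U), R₀.arrows h → ∃ R ∈ AlgSp.J S V, ∀ ⦃W : Over S⦄ (l : W ⟶ V),
      R.arrows l → ∃ (A : Over S) (_ : IsAffine A.left) (v : FibCat.overCat A ⥤ᵇ 𝒴)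
        (_ : AlgSt.RepByAlgSpWith (AlgSp.LocP @Smooth) v) (k : W ⟶ A),
        Nonempty (BasedFunctor.comp (AlgSt.overMap k) v ≅
          BasedFunctor.comp (AlgSt.overMap (l ≫ h)) y) := by
    intro V h hh
    obtain ⟨z, ⟨α⟩⟩ := hR₀' h hh
    obtain ⟨k, ⟨β⟩⟩ := exists_overMap_iso z
    let 𝒰 := U₀.left.affineCover
    let A : 𝒰.I₀ → Over S := fun i => Over.mk (𝒰.f i ≫ U₀.hom)
    let j : ∀ i, A i ⟶ U₀ := fun i => Over.homMk (𝒰.f i) rfl
    let Wf : 𝒰.I₀ → Over S := fun i => Over.mk (pullback.fst k.left (𝒰.f i) ≫ V.hom)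
    let p : ∀ i, Wf i ⟶ V := fun i => Over.homMk (pullback.fst k.left (𝒰.f i)) rfl
    let q : ∀ i, Wf i ⟶ A i := fun i => Over.homMk (pullback.snd k.left (𝒰.f i)) (by
      show _ ≫ 𝒰.f i ≫ U₀.hom = _ ≫ V.hom
      rw [← Category.assoc, ← pullback.condition, Category.assoc, Over.w k])
    have hpq : ∀ i, p i ≫ k = q i ≫ j i := fun i => Over.OverMorphism.ext pullback.condition
    refine ⟨Sieve.ofArrows Wf p, ofArrows_mem p (fun i => inferInstanceAs
      (IsOpenImmersion (pullback.fst k.left (𝒰.f i)))) (fun v => ?_), ?_⟩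
    · obtain ⟨i, t, ht⟩ := 𝒰.exists_eq (k.left v)
      refine ⟨i, ?_⟩
      show v ∈ Set.range (pullback.fst k.left (𝒰.f i))
      rw [IsOpenImmersion.range_pullbackFst]
      exact ⟨t, ht⟩
    · intro W l hl
      obtain ⟨_, m, g, ⟨i⟩, rfl⟩ := hl
      refine ⟨A i, inferInstanceAs (IsAffine (𝒰.X i)), BasedFunctor.comp (AlgSt.overMap (j i)) a,
        ?_, m ≫ q i, ?_⟩
      · exact repWith_comp' (isFibGrpd_overCat _) (isFibGrpd_overCat _) stableBaseChange_locP
          stableComp_locP descendsAlongAtlas_locP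
          (repWith_overMap (j i) (inferInstanceAs (Smooth (𝒰.f i)))) ha
      · obtain ⟨e₁⟩ := nonempty_iso_overMap_comp (m ≫ q i) (j i) a
        obtain ⟨e₂⟩ := nonempty_iso_overMap_comp (m ≫ p i) k a
        obtain ⟨e₃⟩ := nonempty_iso_overMap_comp (m ≫ p i) h y
        exact ⟨(((e₁.trans (eqToIso (by rw [Category.assoc, Category.assoc, hpq]))).trans e₂.symm).trans
          (whiskerLeftIso (AlgSt.overMap (m ≫ p i)) ((whiskerRightIso β.symm a).trans α))).trans e₃⟩
  choose R hR hR' using loc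
  refine ⟨Sieve.bind R₀.arrows R, GrothendieckTopology.bind_covering _ hR₀ (fun V h hh => hR h hh),
    fun W g hg => ?_⟩
  obtain ⟨V, l, h, hh, hl, rfl⟩ := hg
  exact hR' h hh l hl

/-- A functor over a scheme representing a fibre product with property `P` has `P`. -/
theorem repWith_fpFst_of_prop (hb : StableBaseChange P) {f : 𝒳 ⥤ᵇ 𝒴} {V : Over S}
    (v : FibCat.overCat V ⥤ᵇ 𝒴) (F : AlgSp.Space S) (e : AlgSt.ofSp F.obj ⥤ᵇ FibCat.fp v f)
    (he : FibCat.IsEquivOver e)
    (h : P (AlgSt.spMapOfOver (BasedFunctor.comp e (FibCat.fpFst v f)))) :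
    AlgSt.RepByAlgSpWith P (FibCat.fpFst v f) := by
  obtain ⟨γ⟩ := exists_iso_ofSpMap_spMapOfOver (BasedFunctor.comp e (FibCat.fpFst v f))
  have h₁ := (repWith_postcomp_equiv _ (isEquivOver_toOverCat V)).2
    (repWith_of_iso γ.symm (repWith_ofPshMap_of_stable (G := ⟨_, AlgSp.IsAlgSpace.yon_obj V⟩) hb _ h))
  rw [comp_ofOverCat_toOverCat] at h₁
  exact (repWith_precomp_equiv he _).1 h₁

/-- A property local on the base is checked on affine smooth charts. -/
theorem repWith_of_affine_charts (hY : AlgSt.IsAlgStack Scheme.fppfPrecoverage 𝒴)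
    (hb : StableBaseChange P) (hP : AlgSp.IsLocalOnBase AlgSp.IsFppfCover P)
    {f : 𝒳 ⥤ᵇ 𝒴} (hf : AlgSt.RepByAlgSp1 f)
    (h : ∀ (A : Over S) [IsAffine A.left] (v : FibCat.overCat A ⥤ᵇ 𝒴),
      AlgSt.RepByAlgSpWith (AlgSp.LocP @Smooth) v → ∀ (F : AlgSp.Space S)
        (e : AlgSt.ofSp F.obj ⥤ᵇ FibCat.fp v f), FibCat.IsEquivOver e →
          P (AlgSt.spMapOfOver (BasedFunctor.comp e (FibCat.fpFst v f)))) :
    AlgSt.RepByAlgSpWith P f := by
  intro U y
  obtain ⟨F, e, he⟩ := hf U y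
  refine ⟨F, e, he, ?_⟩
  let π := AlgSt.spMapOfOver (BasedFunctor.comp e (FibCat.fpFst y f))
  obtain ⟨R, hR, hR'⟩ := exists_affineChart_lift hY U y
  obtain ⟨V, i, hi, hcov⟩ := exists_fppfCover_of_mem hR
  have := hb.respectsIso
  have key : ∀ x, RepFst (onSpaces P)
      (FibCat.fpFst (overMapOf ((AlgSp.pyon S).map (i x))) (Stk.ofPshMap π.hom)) := by
    intro x
    obtain ⟨A, _, v, hv, k, ⟨α⟩⟩ := hR' (i x) (hi x)
    let M := AlgSt.overMap (i x)
    let T := AlgSt.toOverCat U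
    let ξ := overMapOf ((AlgSp.pyon S).map (i x))
    obtain ⟨G, eG, heG⟩ := hf A v
    have h' : AlgSt.RepByAlgSpWith P (FibCat.fpFst v f) :=
      repWith_fpFst_of_prop hb v G eG heG (h A v hv G eG heG)
    have hy : RepFst (onSpaces P) (FibCat.fpFst (BasedFunctor.comp M y) f) := by
      refine RepFst.mono (fun _ _ _ hA hB hp => ⟨hA, hB, hp⟩) (P := P) ?_
      exact RepFst.of_equiv (isEquivOver_comp (isEquivOver_fpPaste (AlgSt.overMap k) v f)
        (isEquivOver_fpCongr α (Iso.refl f))) (Iso.refl _) (h' (V x) (AlgSt.overMap k))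
    have hT := isEquivOver_toOverCat U
    have := full_of_isEquivOver hT
    have := faithful_of_isEquivOver hT
    obtain ⟨β⟩ := nonempty_iso_pshMapOf
      (BasedFunctor.comp (BasedFunctor.comp e (FibCat.fpFst y f)) (AlgSt.ofOverCat U))
    have γ : BasedFunctor.comp (Stk.ofPshMap π.hom) T
        ≅ BasedFunctor.comp e (FibCat.fpFst y f) := by
      have γ' : Stk.ofPshMap π.hom
          ≅ BasedFunctor.comp (BasedFunctor.comp e (FibCat.fpFst y f)) (AlgSt.ofOverCat U) :=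
        (eqToIso (congrArg Stk.ofPshMap (spMapOfOver_hom_eq _))).trans β.symm
      exact whiskerRightIso γ' T
    obtain ⟨δ⟩ := nonempty_overMapOf_iso (i x)
    have hE : FibCat.IsEquivOver (BasedFunctor.comp (fpPost ξ (Stk.ofPshMap π.hom) T)
        (BasedFunctor.comp (fpCongr δ γ)
          (BasedFunctor.comp (fpPre (BasedFunctor.id _) e M (FibCat.fpFst y f)) (fpPaste M y f)))) :=
      isEquivOver_comp (isEquivOver_fpPost ξ _ T) (isEquivOver_comp (isEquivOver_fpCongr δ γ)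
        (isEquivOver_comp (isEquivOver_fpPre (isEquivOver_id _) he _ _) (isEquivOver_fpPaste M y f)))
    obtain ⟨E', hE', -, ⟨b⟩⟩ := isEquivOver_symm hE
    exact RepFst.of_equiv hE' (whiskerRightIso b (FibCat.fpFst _ _)) hy
  have hsh : ∀ x, AlgSp.IsAlgSpace (pullback π ((AlgSp.yon S).map (i x))) := fun x =>
    Groth.AlgSpBasic.isAlgSpace_of_isPullback (IsPullback.of_hasPullback _ _)
      (AlgSp.IsAlgSpace.yon_obj U).diag F.property (AlgSp.IsAlgSpace.yon_obj (V x))
  refine (hP (fun x => (AlgSp.yon S).obj (V x)) (fun x => (AlgSp.yon S).map (i x))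
    (AlgSp.IsAlgSpace.yon_obj U) (fun x => AlgSp.IsAlgSpace.yon_obj _) hcov π F.property
    (fun x => pullback π ((AlgSp.yon S).map (i x))) (fun x => pullback.snd _ _)
    (fun x => pullback.fst _ _) hsh (fun x => IsPullback.of_hasPullback _ _)).2 fun x => ?_
  exact (prop_snd_of_repFst
    ((IsPullback.of_hasPullback π ((AlgSp.yon S).map (i x))).map (sheafToPresheaf (AlgSp.J S) (Type (u + 1))))
    (pullback π ((AlgSp.yon S).map (i x))).property (key x)).2.2

end Groth.Misc10.IsoNat
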