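import Groth.Agent.Misc10.IsoNat.GlueHom
import Groth.Agent.AlgStBasic.Rep

/-!
# Automorphisms of pullbacks of an object, and their separatedness
-/

set_option autoImplicit false
set_option backward.isDefEq.respectTransparency false
set_option backward.isDefEq.respectTransparency.types false

universe u

open CategoryTheory CategoryTheory.Limits AlgebraicGeometry Opposite
open Groth.StkBase Groth.AlgStBasic

namespace Groth.Misc10.IsoNat

variable {S : Scheme.{u}} {𝒳 : AlgSt.Cat S}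
variable (hg : FibCat.IsFibGrpd 𝒳.p) {T : Over S} (η : 𝒳.p.Fiber T)

/-- The comparison morphism between chosen pullbacks. -/
noncomputable def obMap {W' W : Over S} {h : W ⟶ T} {h' : W' ⟶ T} (k : W' ⟶ W) (e : k ≫ h = h') :
    Lift k (pullObj hg h' η) (pullObj hg h η) :=
  fac hg (pullLift hg h η) (pullLift hg h' η) k e

theorem obMap_pullLift {W' W : Over S} {h : W ⟶ T} {h' : W' ⟶ T} (k : W' ⟶ W) (e : k ≫ h = h') :
    (obMap hg η k e).1 ≫ (pullLift hg h η).1 = (pullLift hg h' η).1 :=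
  fac_comp ..

theorem obMap_comp {W'' W' W : Over S} {h : W ⟶ T} {h' : W' ⟶ T} {h'' : W'' ⟶ T}
    (l : W'' ⟶ W') (k : W' ⟶ W) (e' : l ≫ h' = h'') (e : k ≫ h = h') :
    (obMap hg η l e').1 ≫ (obMap hg η k e).1 =
      (obMap hg η (l ≫ k) (by rw [Category.assoc, e, e'])).1 := by
  refine congrArg Subtype.val (Lift.hom_ext hg (pullLift hg h η)
    (χ := (obMap hg η l e').comp (obMap hg η k e) rfl) ?_)
  simp [obMap_pullLift]

theorem obMap_congr {W' W : Over S} {h : W ⟶ T} {h' : W' ⟶ T} {k k' : W' ⟶ W} (hk : k = k')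
    (e : k ≫ h = h') : (obMap hg η k e).1 = (obMap hg η k' (hk ▸ e)).1 := by
  subst hk
  rfl

/-- The restriction homomorphism between automorphism groups of pullbacks. -/
noncomputable def res {W' W : Over S} {h : W ⟶ T} {h' : W' ⟶ T} (k : W' ⟶ W) (e : k ≫ h = h')
    (g : Aut (pullObj hg h η)) : Aut (pullObj hg h' η) :=
  fiberIso hg (fac hg (obMap hg η k e)
    ((obMap hg η k e).comp (g.hom : Lift (𝟙 W) _ _) (Category.comp_id _)) (𝟙 W')
    (Category.id_comp _))

theorem res_spec {W' W : Over S} {h : W ⟶ T} {h' : W' ⟶ T} (k : W' ⟶ W) (e : k ≫ h = h')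
    (g : Aut (pullObj hg h η)) :
    (res hg η k e g).hom.1 ≫ (obMap hg η k e).1 = (obMap hg η k e).1 ≫ g.hom.1 :=
  fac_comp hg _ _ (𝟙 W') (Category.id_comp _)

theorem res_unique {W' W : Over S} {h : W ⟶ T} {h' : W' ⟶ T} (k : W' ⟶ W) (e : k ≫ h = h')
    (g : Aut (pullObj hg h η)) (g' : Aut (pullObj hg h' η))
    (hgg : g'.hom.1 ≫ (obMap hg η k e).1 = (obMap hg η k e).1 ≫ g.hom.1) :
    res hg η k e g = g' :=
  Iso.ext (fiber_hom_ext hg (obMap hg η k e) ((res_spec hg η k e g).trans hgg.symm))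

theorem res_mul {W' W : Over S} {h : W ⟶ T} {h' : W' ⟶ T} (k : W' ⟶ W) (e : k ≫ h = h')
    (g₁ g₂ : Aut (pullObj hg h η)) :
    res hg η k e (g₁ * g₂) = res hg η k e g₁ * res hg η k e g₂ := by
  apply res_unique
  show ((res hg η k e g₂).hom.1 ≫ (res hg η k e g₁).hom.1) ≫ _ = _ ≫ g₂.hom.1 ≫ g₁.hom.1
  rw [Category.assoc, res_spec, ← Category.assoc, res_spec, Category.assoc]

/-- Restriction as a group homomorphism. -/
noncomputable def resHom {W' W : Over S} {h : W ⟶ T} {h' : W' ⟶ T} (k : W' ⟶ W) (e : k ≫ h = h') :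
    Aut (pullObj hg h η) →* Aut (pullObj hg h' η) :=
  MonoidHom.mk' (res hg η k e) (res_mul hg η k e)

@[simp] theorem resHom_apply {W' W : Over S} {h : W ⟶ T} {h' : W' ⟶ T} (k : W' ⟶ W)
    (e : k ≫ h = h') (g : Aut (pullObj hg h η)) : resHom hg η k e g = res hg η k e g := rfl

theorem res_one {W' W : Over S} {h : W ⟶ T} {h' : W' ⟶ T} (k : W' ⟶ W) (e : k ≫ h = h') :
    res hg η k e 1 = 1 :=
  (resHom hg η k e).map_one

theorem res_inv {W' W : Over S} {h : W ⟶ T} {h' : W' ⟶ T} (k : W' ⟶ W) (e : k ≫ h = h')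
    (g : Aut (pullObj hg h η)) : res hg η k e g⁻¹ = (res hg η k e g)⁻¹ :=
  (resHom hg η k e).map_inv g

theorem res_res {W'' W' W : Over S} {h : W ⟶ T} {h' : W' ⟶ T} {h'' : W'' ⟶ T} (l : W'' ⟶ W')
    (k : W' ⟶ W) (e' : l ≫ h' = h'') (e : k ≫ h = h') (g : Aut (pullObj hg h η)) :
    res hg η l e' (res hg η k e g) =
      res hg η (l ≫ k) (by rw [Category.assoc, e, e']) g := by
  refine (res_unique hg η _ _ g _ ?_).symm
  rw [← obMap_comp hg η l k e' e, ← Category.assoc, res_spec, Category.assoc, res_spec,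
    Category.assoc]

theorem res_congr {W' W : Over S} {h : W ⟶ T} {h' : W' ⟶ T} {k k' : W' ⟶ W} (hk : k = k')
    (e : k ≫ h = h') (g : Aut (pullObj hg h η)) :
    res hg η k e g = res hg η k' (hk ▸ e) g := by
  subst hk
  rfl

theorem res_res_eq {W'' W' W : Over S} {h : W ⟶ T} {h' : W' ⟶ T} {h'' : W'' ⟶ T} (l : W'' ⟶ W')
    (k : W' ⟶ W) (m : W'' ⟶ W) (hm : l ≫ k = m) (e' : l ≫ h' = h'') (e : k ≫ h = h')
    (g : Aut (pullObj hg h η)) :
    res hg η l e' (res hg η k e g) =
      res hg η m (by rw [← hm, Category.assoc, e, e']) g := by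
  subst hm
  exact res_res hg η l k e' e g

theorem res_id {W : Over S} {h : W ⟶ T} (g : Aut (pullObj hg h η)) :
    res hg η (𝟙 W) (Category.id_comp h) g = g := by
  apply res_unique
  have h' : (obMap hg η (𝟙 W) (Category.id_comp h)).1 = 𝟙 (pullObj hg h η).1 :=
    congrArg Subtype.val (Lift.hom_ext hg (pullLift hg h η)
      (χ := obMap hg η (𝟙 W) (Category.id_comp h)) (χ' := Lift.id _)
      (by simp [obMap_pullLift, Lift.id]))
  rw [h', Category.comp_id, Category.id_comp]

section Separated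

variable (hd : AlgSt.RepByAlgSpWith (AlgSp.IsSeparatedMor ⊓ AlgSp.IsQuasiCompactMor)
  (FibCat.diag (FibCat.toSelf 𝒳)))

/-- The pair of pullback functors of `η`. -/
noncomputable def pairF : FibCat.overCat T ⥤ᵇ FibCat.fp (FibCat.toSelf 𝒳) (FibCat.toSelf 𝒳) :=
  FibCat.fpLift (overFunctor hg η.1 η.2) (overFunctor hg η.1 η.2) (Iso.refl _)

/-- The object of the isomorphism space given by an automorphism of a pullback. -/
noncomputable def autObj {W : Over S} (h : W ⟶ T) (g : Aut (pullObj hg h η)) :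
    (FibCat.fp (pairF hg η) (FibCat.diag (FibCat.toSelf 𝒳))).obj :=
  fpMk (Over.mk h) (pullObj hg h η).1
    (fpObjIso (x := (pairF hg η).obj (Over.mk h))
      (y := (FibCat.diag (FibCat.toSelf 𝒳)).obj (pullObj hg h η).1)
      ((Functor.Fiber.fiberInclusion).mapIso g) (Iso.refl _)
      (self_ext ((isVert_map (isVert_of_isHomLift g.hom.2)).comp (fp_isVert _))
        ((fp_isVert _).comp (isVert_map (isVert_id _)))))
    ((isVert_fp_iff _).2 (isVert_of_isHomLift g.hom.2))

/-- The morphism between these objects given by a restriction. -/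
noncomputable def autObjMap {W' W : Over S} {h : W ⟶ T} {h' : W' ⟶ T} (k : W' ⟶ W)
    (e : k ≫ h = h') (g : Aut (pullObj hg h η)) :
    autObj hg η h' (res hg η k e g) ⟶ autObj hg η h g :=
  fpHom (Over.homMk k e : Over.mk h' ⟶ Over.mk h) (obMap hg η k e).1 (by
    have hG : (overFunctor hg η.1 η.2).map (Over.homMk k e : Over.mk h' ⟶ Over.mk h) =
        (obMap hg η k e).1 := by
      have := overCat_isHomLift (Over.homMk k e : Over.mk h' ⟶ Over.mk h)
      refine congrArg Subtype.val (Lift.hom_ext hg (pullLift hg h η)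
        (χ := (⟨(overFunctor hg η.1 η.2).map (Over.homMk k e : Over.mk h' ⟶ Over.mk h),
          (overFunctor hg η.1 η.2).preserves_isHomLift (Over.homMk k e : Over.mk h' ⟶ Over.mk h).left
            (Over.homMk k e : Over.mk h' ⟶ Over.mk h)⟩ :
          Lift k (pullObj hg h' η) (pullObj hg h η))) ?_)
      rw [obMap_pullLift]
      exact overFunctor_map_pullLift hg η (Over.homMk k e : Over.mk h' ⟶ Over.mk h)
    apply fp_hom_ext
    · exact (congrArg (· ≫ g.hom.1) hG).trans (res_spec hg η k e g).symm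
    · exact (congrArg (· ≫ 𝟙 _) hG).trans ((Category.comp_id _).trans (Category.id_comp _).symm))

theorem autObj_injective {W : Over S} {h : W ⟶ T} {g g' : Aut (pullObj hg h η)}
    (ψ : autObj hg η h g ⟶ autObj hg η h g')
    (hψ : IsVert (FibCat.fp (pairF hg η) (FibCat.diag (FibCat.toSelf 𝒳))).p ψ) : g = g' := by
  have h1 : ψ.hom.fst = 𝟙 (Over.mk h) := (Over.forget T).map_injective ((hψ.map_eq).trans rfl)
  have w := ψ.hom.w
  rw [h1] at w
  have w1 := congrArg (fun t => t.hom.fst) w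
  have w2 := congrArg (fun t => t.hom.snd) w
  change (overFunctor hg η.1 η.2).map (𝟙 (Over.mk h)) ≫ g'.hom.1 = g.hom.1 ≫ ψ.hom.snd at w1
  change (overFunctor hg η.1 η.2).map (𝟙 (Over.mk h)) ≫ 𝟙 (pullObj hg h η).1 = 𝟙 (pullObj hg h η).1 ≫ ψ.hom.snd at w2
  simp only [CategoryTheory.Functor.map_id, Category.id_comp] at w1 w2
  erw [← w2] at w1
  exact Iso.ext (Subtype.ext (by
    refine (Eq.trans ?_ w1.symm)
    exact (Category.comp_id _).symm))

theorem overCat_vert_hom {U : Over S} {a b : Over U} (f : a ⟶ b)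
    (hf : IsVert (FibCat.overCat U).p f) : eqToHom hf.obj_eq ≫ b.hom = a.hom := by
  rw [← hf.map_eq]
  exact Over.w f

include hd in
/-- The locus where two automorphisms agree is a closed subscheme. -/
theorem exists_equalizer {Y : Over S} (h : Y ⟶ T) (g g' : Aut (pullObj hg h η)) :
    ∃ (E : Over S) (i : E ⟶ Y), IsClosedImmersion i.left ∧
      ∀ {W : Over S} (k : W ⟶ Y), res hg η k rfl g = res hg η k rfl g' ↔
        ∃ l : W ⟶ E, l ≫ i = k := by
  obtain ⟨F, e, ⟨K, ⟨e₁⟩, ⟨e₂⟩⟩, hP⟩ := hd T (pairF hg η)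
  have hsep : AlgSp.RepWith @IsClosedImmersion
      (pullback.diagonal (AlgSt.spMapOfOver (BasedFunctor.comp e (FibCat.fpFst (pairF hg η)
        (FibCat.diag (FibCat.toSelf 𝒳)))))) := hP.1
  let π := AlgSt.spMapOfOver (BasedFunctor.comp e (FibCat.fpFst (pairF hg η)
    (FibCat.diag (FibCat.toSelf 𝒳))))
  let σ : ∀ {W : Over S} (h : W ⟶ T), Aut (pullObj hg h η) → F.obj.obj.obj (op W) :=
    fun h g => secOf K (autObj hg η h g)
  have hnat : ∀ {W' W : Over S} {h : W ⟶ T} {h' : W' ⟶ T} (k : W' ⟶ W) (eh : k ≫ h = h')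
      (g : Aut (pullObj hg h η)), F.obj.obj.map k.op (σ h g) = σ h' (res hg η k eh g) :=
    fun k eh g => secOf_map K (autObjMap hg η k eh g)
  have hinj : ∀ {W : Over S} (h : W ⟶ T) (g g' : Aut (pullObj hg h η)),
      σ h g = σ h g' → g = g' := by
    intro W h g g' hs
    let A := autObj hg η h g
    let A' := autObj hg η h g'
    let ea : K.obj A ⟶ (⟨W, σ h g⟩ : (AlgSt.ofSp F.obj).obj) := eltHom (eqToHom (K.w_obj A)) (by
      change F.obj.obj.map _ (F.obj.obj.map _ (K.obj A).sec) = _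
      erw [← Functor.map_comp_apply, ← op_comp, eqToHom_trans, eqToHom_refl]
      simp)
    let eb : (⟨W, σ h g⟩ : (AlgSt.ofSp F.obj).obj) ⟶ K.obj A' :=
      eltHom (a := ⟨W, σ h g⟩) (b := K.obj A')
        (eqToHom (show W = (K.obj A').base from (K.w_obj A').symm)) hs.symm
    let ψ : A ⟶ A' := (isoApp e₂ A).inv ≫ e.map (ea ≫ eb) ≫ (isoApp e₂ A').hom
    refine autObj_injective hg η ψ (IsVert.comp (isVert_isoApp e₂ A).inv
      (IsVert.comp (isVert_map ?_) (isVert_isoApp e₂ A')))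
    exact IsVert.comp (φ := ea) (ψ := eb) ⟨K.w_obj A, rfl⟩ ⟨(K.w_obj A').symm, rfl⟩
  have hover : ∀ {W : Over S} (h : W ⟶ T) (g : Aut (pullObj hg h η)),
      π.hom.app (op W) (σ h g) = ⟨h⟩ := by
    intro W h g
    rw [AlgSt.spMapOfOver_app]
    apply ULift.ext
    let A := autObj hg η h g
    let ea : (⟨W, σ h g⟩ : (AlgSt.ofSp F.obj).obj) ⟶ K.obj A :=
      eltHom (eqToHom (K.w_obj A).symm) rfl
    let Φ := BasedFunctor.comp e (FibCat.fpFst (pairF hg η) (FibCat.diag (FibCat.toSelf 𝒳)))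
    let f : Φ.obj (⟨W, σ h g⟩ : (AlgSt.ofSp F.obj).obj) ⟶ A.obj.fst :=
      Φ.map ea ≫ (FibCat.fpFst (pairF hg η) (FibCat.diag (FibCat.toSelf 𝒳))).map (isoApp e₂ A).hom
    have hf : IsVert (FibCat.overCat T).p f :=
      IsVert.comp (isVert_map ⟨(K.w_obj A).symm, rfl⟩) (isVert_map (isVert_isoApp e₂ A))
    show eqToHom _ ≫ (Φ.obj (⟨W, σ h g⟩ : (AlgSt.ofSp F.obj).obj)).hom = h
    rw [← overCat_vert_hom f hf]
    show eqToHom _ ≫ eqToHom _ ≫ h = h
    rw [eqToHom_trans_assoc, eqToHom_refl, Category.id_comp]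
  let a := (AlgSp.J S).uliftYonedaEquiv.{u + 1}.symm (σ h g)
  let a' := (AlgSp.J S).uliftYonedaEquiv.{u + 1}.symm (σ h g')
  have haπ : a ≫ π = a' ≫ π := by
    rw [GrothendieckTopology.uliftYonedaEquiv_symm_naturality_right,
      GrothendieckTopology.uliftYonedaEquiv_symm_naturality_right, hover, hover]
  let d : (AlgSp.yon S).obj Y ⟶ pullback π π := pullback.lift a a' haπ
  obtain ⟨E, i, fst, sq⟩ := hsep.rep d
  refine ⟨E, i, hsep.property d fst i sq, fun {W} k => ?_⟩
  have hs : ∀ g : Aut (pullObj hg h η), (AlgSp.yon S).map k ≫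
      (AlgSp.J S).uliftYonedaEquiv.{u + 1}.symm (σ h g) =
        (AlgSp.J S).uliftYonedaEquiv.{u + 1}.symm (σ (k ≫ h) (res hg η k rfl g)) := fun g => by
    rw [← hnat k rfl g, GrothendieckTopology.uliftYonedaEquiv_symm_naturality_left]
  constructor
  · intro hk
    let b : (AlgSp.yon S).obj W ⟶ F.obj := (AlgSp.yon S).map k ≫ a
    have hb : b = (AlgSp.yon S).map k ≫ a' := by
      show (AlgSp.yon S).map k ≫ _ = _
      rw [hs g, hs g', hk]
    have hw : b ≫ pullback.diagonal π = (AlgSp.yon S).map k ≫ d := by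
      apply pullback.hom_ext
      · simp [d, b]
      · simp only [d, Category.assoc, pullback.diagonal_snd, Category.comp_id, pullback.lift_snd]
        exact hb
    obtain ⟨l, hl⟩ := (AlgSp.yon S).map_surjective (sq.lift b ((AlgSp.yon S).map k) hw)
    refine ⟨l, (AlgSp.yon S).map_injective ?_⟩
    rw [Functor.map_comp, hl, sq.lift_snd]
  · rintro ⟨l, rfl⟩
    apply hinj
    apply (AlgSp.J S).uliftYonedaEquiv.{u + 1}.symm.injective
    rw [← hs g, ← hs g', Functor.map_comp]
    have h1 : (AlgSp.yon S).map i ≫ a = fst := by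
      have := sq.w.symm =≫ pullback.fst _ _
      simp only [Category.assoc, pullback.diagonal_fst, Category.comp_id] at this
      exact (congrArg (_ ≫ ·) (pullback.lift_fst a a' haπ)).symm.trans this
    have h2 : (AlgSp.yon S).map i ≫ a' = fst := by
      have := sq.w.symm =≫ pullback.snd _ _
      simp only [Category.assoc, pullback.diagonal_snd, Category.comp_id] at this
      exact (congrArg (_ ≫ ·) (pullback.lift_snd a a' haπ)).symm.trans this
    show ((AlgSp.yon S).map l ≫ _) ≫ a = ((AlgSp.yon S).map l ≫ _) ≫ a'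
    rw [Category.assoc, Category.assoc, h1, h2]

/-- A morphism is schematically dominant if it factors through no proper closed subscheme. -/
def IsSchDominant {X₀ Y₀ : Scheme.{u}} (f : X₀ ⟶ Y₀) : Prop :=
  ∀ {E : Scheme.{u}} (i : E ⟶ Y₀) [IsClosedImmersion i], (∃ l, l ≫ i = f) → IsIso i

include hd in
/-- Restriction along a schematically dominant morphism is injective on automorphisms. -/
theorem res_injective {Y Y' : Over S} {h : Y ⟶ T} {h' : Y' ⟶ T} (k : Y' ⟶ Y) (e : k ≫ h = h')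
    (hk : IsSchDominant k.left) : Function.Injective (res hg η k e) := by
  intro g g' hgg
  obtain ⟨E, i, hi, huniv⟩ := exists_equalizer hg η hd h g g'
  subst e
  obtain ⟨l, hl⟩ := (huniv k).1 hgg
  have : IsIso i.left := hk i.left ⟨l.left, by rw [← Over.comp_left, hl]⟩
  have : IsIso ((Over.forget S).map i) := this
  have : IsIso i := isIso_of_reflects_iso i (Over.forget S)
  have := (huniv (𝟙 Y)).2 ⟨inv i, IsIso.inv_hom_id i⟩
  apply_fun res hg η (𝟙 Y) (h' := h) (h := 𝟙 Y ≫ h) (by rw [Category.id_comp, Category.id_comp]) at this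
  rw [res_res_eq hg η _ _ (𝟙 Y) (Category.id_comp _), res_res_eq hg η _ _ (𝟙 Y) (Category.id_comp _),
    res_id, res_id] at this
  exact this

end Separated

end Groth.Misc10.IsoNat
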