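import Groth.Agent.Misc10.IsoNat.Glue

/-!
# Twisted forms up to isomorphism, and their pullbacks along maps of data
-/

set_option autoImplicit false
set_option backward.isDefEq.respectTransparency false
set_option backward.isDefEq.respectTransparency.types false

universe u

open CategoryTheory CategoryTheory.Limits AlgebraicGeometry

noncomputable section

namespace Groth.Misc10.IsoNat

variable {S : Scheme.{u}}

namespace Datum

/-- A morphism of data. -/
structure Map (D' D : Datum S) where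
  /-- on indices -/
  σ : D'.κ → D.κ
  /-- on schemes -/
  f : D'.U ⟶ D.U
  /-- on pieces -/
  k : ∀ i, D'.W i ⟶ D.W (σ i)
  comm : ∀ i, k i ≫ D.j (σ i) = D'.j i ≫ f

variable {D' D : Datum S} (m : Map D' D)

theorem Map.range_subset : Set.range (D'.Vop.ι ≫ m.f.left) ⊆ Set.range D.Vop.ι := by
  rintro _ ⟨x, rfl⟩
  have hx : D'.Vop.ι x ∈ D'.Vop := by
    have := Set.mem_range_self (f := D'.Vop.ι) x
    rwa [Scheme.Opens.range_ι] at this
  obtain ⟨i, y, hy⟩ := TopologicalSpace.Opens.mem_iSup.1 hx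
  refine D.range_j_subset (m.σ i) ⟨(m.k i).left y, ?_⟩
  rw [← Scheme.Hom.comp_apply, ← Over.comp_left, m.comm i, Over.comp_left,
    Scheme.Hom.comp_apply, Scheme.Hom.comp_apply, hy]

/-- The induced map on doubled schemes. -/
def Map.dbl : D'.Dbl ⟶ D.Dbl :=
  Over.homMk (pushout.map D'.Vop.ι D'.Vop.ι D.Vop.ι D.Vop.ι m.f.left m.f.left
      (IsOpenImmersion.lift D.Vop.ι (D'.Vop.ι ≫ m.f.left) m.range_subset)
      (IsOpenImmersion.lift_fac _ _ _).symm (IsOpenImmersion.lift_fac _ _ _).symm) (by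
    apply pushout.hom_ext <;> simp)

theorem Map.inj_dbl (b : Bool) : D'.inj b ≫ m.dbl = m.f ≫ D.inj b := by
  ext : 1
  cases b
  · exact pushout.inl_desc _ _ _
  · exact pushout.inr_desc _ _ _

theorem Map.dbl_fold : m.dbl ≫ D.fold = D'.fold ≫ m.f := by
  ext : 1
  simp only [Over.comp_left, Map.dbl, fold, Over.homMk_left]
  apply pushout.hom_ext <;> simp

end Datum

variable {𝒳 : AlgSt.Cat S} (hX : Stk.IsPrestack (AlgSp.J S) 𝒳) {T : Over S} (η : 𝒳.p.Fiber T)

theorem IsTw.locTriv (D : Datum S) (h : D.U ⟶ T) {x : 𝒳.p.Fiber D.Dbl}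
    {c : ∀ i, Aut (pullObj hX.1 (D.j i ≫ h) η)} (hx : IsTw hX η D h x c) (b : Bool) :
    pullCls hX.1 (D.inj b) (IsoNat.cls x) = pullCls hX.1 h (IsoNat.cls η) := by
  obtain ⟨β, -⟩ := hx
  rw [pullCls_cls hX.1 (β b), pullCls_cls']

theorem exists_isTw_of_locTriv (D : Datum S) (h : D.U ⟶ T) {x : 𝒳.p.Fiber D.Dbl}
    (hx : ∀ b, pullCls hX.1 (D.inj b) (IsoNat.cls x) = pullCls hX.1 h (IsoNat.cls η)) :
    ∃ c, IsTw hX η D h x c := by
  have : ∀ b, Nonempty (Lift (D.inj b) (pullObj hX.1 h η) x) := fun b => by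
    have h' := hx b
    rw [pullCls_cls', pullCls_cls'] at h'
    obtain ⟨e⟩ := cls_eq_iff.1 h'.symm
    exact ⟨Lift.comp (e.hom : Lift (𝟙 _) _ _) (pullLift hX.1 _ x) (Category.id_comp _)⟩
  let β := fun b => (this b).some
  let J := fun i => obMap hX.1 η (h := h) (h' := D.j i ≫ h) (D.j i) rfl
  have e : ∀ i, D.j i ≫ D.inj true = D.j i ≫ D.inj false := fun i => by
    rw [← D.wV_vι i, Category.assoc, Category.assoc, D.vι_inj]
  refine ⟨fun i => fiberIso hX.1 (fac hX.1 ((J i).comp (β true) (e i)) ((J i).comp (β false) rfl)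
    (𝟙 _) (Category.id_comp _)), β, fun i => ?_⟩
  exact fac_comp hX.1 ((J i).comp (β true) (e i)) ((J i).comp (β false) rfl) (𝟙 _)
    (Category.id_comp _)

theorem isTw_one (D : Datum S) (h : D.U ⟶ T) :
    IsTw hX η D h (pullObj hX.1 (D.fold ≫ h) η) (fun _ => 1) := by
  refine ⟨fun b => obMap hX.1 η (D.inj b) (D.inj_fold_assoc b h), fun i => ?_⟩
  refine (Category.id_comp _).trans ((obMap_comp hX.1 η _ _ _ _).trans
    (Eq.trans (obMap_congr hX.1 η ?_ _) (obMap_comp hX.1 η _ _ _ _).symm))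
  rw [← D.wV_vι i, Category.assoc, Category.assoc, D.vι_inj]

theorem IsTw.iso (D : Datum S) (h : D.U ⟶ T) {x x' : 𝒳.p.Fiber D.Dbl}
    {c : ∀ i, Aut (pullObj hX.1 (D.j i ≫ h) η)} (hx : IsTw hX η D h x c)
    (hx' : IsTw hX η D h x' c) : IsoNat.cls x = IsoNat.cls x' :=
  cls_eq_iff.2 ((hom_iso_tw hX η D h hx hx').2
    ⟨fun _ => 1, fun i => by rw [res_one, mul_one, one_mul]⟩)

theorem IsTw.pull {D' D : Datum S} (m : Datum.Map D' D) (h : D.U ⟶ T) (h' : D'.U ⟶ T)
    (hh : m.f ≫ h = h') {x : 𝒳.p.Fiber D.Dbl}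
    {c : ∀ i, Aut (pullObj hX.1 (D.j i ≫ h) η)} (hx : IsTw hX η D h x c) :
    IsTw hX η D' h' (pullObj hX.1 m.dbl x)
      (fun i => res hX.1 η (m.k i) (by rw [← Category.assoc, m.comm i, Category.assoc, hh])
        (c (m.σ i))) := by
  obtain ⟨β, hβ⟩ := hx
  let F := obMap hX.1 η (h := h) (h' := h') m.f hh
  let β' := fun b => fac hX.1 (pullLift hX.1 m.dbl x) (F.comp (β b) rfl) (D'.inj b) (m.inj_dbl b)
  have hβ' : ∀ b, (β' b).1 ≫ (pullLift hX.1 m.dbl x).1 = F.1 ≫ (β b).1 := fun b => fac_comp ..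
  refine ⟨β', fun i => ?_⟩
  have e : D'.j i ≫ D'.inj true = D'.j i ≫ D'.inj false := by
    rw [← D'.wV_vι i, Category.assoc, Category.assoc, D'.vι_inj]
  let ci := res hX.1 η (h := D.j (m.σ i) ≫ h) (h' := D'.j i ≫ h') (m.k i)
    (by rw [← Category.assoc, m.comm i, Category.assoc, hh]) (c (m.σ i))
  refine congrArg Subtype.val (Lift.hom_ext hX.1 (pullLift hX.1 m.dbl x)
    (χ := Lift.comp (ci.hom : Lift (𝟙 _) _ _) ((obMap hX.1 η (h := h') (D'.j i) rfl).comp (β' true) e)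
      (Category.id_comp _)) (χ' := (obMap hX.1 η (h := h') (D'.j i) rfl).comp (β' false) rfl) ?_)
  simp only [Lift.comp_val, Category.assoc]
  rw [hβ', hβ']
  have hsq : (obMap hX.1 η (h := h') (D'.j i) rfl).1 ≫ F.1 =
      (obMap hX.1 η (h := D.j (m.σ i) ≫ h) (h' := D'.j i ≫ h') (m.k i)
        (by rw [← Category.assoc, m.comm i, Category.assoc, hh])).1 ≫
      (obMap hX.1 η (h := h) (D.j (m.σ i)) rfl).1 := by
    refine (obMap_comp hX.1 η _ _ _ _).trans (Eq.trans ?_ (obMap_comp hX.1 η _ _ _ _).symm)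
    exact obMap_congr hX.1 η (m.comm i).symm _
  rw [reassoc_of% hsq, reassoc_of% hsq, reassoc_of% (res_spec hX.1 η (m.k i) _ (c (m.σ i))), hβ]

end Groth.Misc10.IsoNat
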