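import Groth.Agent.Misc10.IsoNat.Model
import Groth.Agent.Misc10.IsoNat.Glue2

/-!
# Twisted forms on a point times the doubled union of axes
-/

set_option autoImplicit false
set_option backward.isDefEq.respectTransparency false
set_option backward.isDefEq.respectTransparency.types false

universe u

open CategoryTheory CategoryTheory.Limits AlgebraicGeometry

noncomputable section

namespace Groth.Misc10.IsoNat

variable {S : Scheme.{u}}

/-- The ring of Laurent polynomials. -/
abbrev Lr : Type u := LaurentPolynomial Zu.{u}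

theorem range_punct_subset {κ : Type} [DecidableEq κ] (i : κ) (T : Over S) :
    Set.range (prMap T (Axes.punct.{u} i)).left ⊆
      (prod.snd : T.left ⨯ Spec (.of (Axes.{u} κ)) ⟶ _) ⁻¹'
        Set.range (Spec.map (CommRingCat.ofHom (Axes.punct.{u} i).toRingHom)) := by
  rintro _ ⟨x, rfl⟩
  refine ⟨(prod.snd : T.left ⨯ Spec (.of Lr.{u}) ⟶ _) x, ?_⟩
  have e : (prMap T (Axes.punct.{u} i)).left ≫ prod.snd =
      prod.snd ≫ Spec.map (CommRingCat.ofHom (Axes.punct.{u} i).toRingHom) := prod.map_snd _ _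
  exact (congrArg (fun t : (Prd T (.of Lr.{u})).left ⟶ _ => t x) e).symm

theorem disjoint_punct {κ : Type} [DecidableEq κ] {i i' : κ} (h : i ≠ i') :
    Disjoint (Set.range (Spec.map (CommRingCat.ofHom (Axes.punct.{u} i).toRingHom)))
      (Set.range (Spec.map (CommRingCat.ofHom (Axes.punct.{u} i').toRingHom))) := by
  rw [Set.disjoint_left]
  rintro _ ⟨p, rfl⟩ ⟨q, hq⟩
  have h1 : (Axes.punct.{u} i).toRingHom (Axes.x i') ∈ p.asIdeal := by
    show Axes.punct.{u} i (Axes.x i') ∈ p.asIdeal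
    rw [Axes.punct_x_ne h.symm]
    exact p.asIdeal.zero_mem
  have h2 : (Axes.punct.{u} i').toRingHom (Axes.x i') ∈ q.asIdeal :=
    (SetLike.ext_iff.1 (congrArg PrimeSpectrum.asIdeal hq) (Axes.x i')).2 h1
  exact q.isPrime.ne_top (Ideal.eq_top_of_isUnit_mem _ h2
    (by
      show IsUnit (Axes.punct.{u} i' (Axes.x i'))
      rw [Axes.punct_x_self]; exact LaurentPolynomial.isUnit_T 1))

/-- The axes over `T`, with the punctured axes. -/
def axD (T : Over S) (κ : Type) [DecidableEq κ] : Datum S where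
  κ := κ
  U := Prd T (.of (Axes.{u} κ))
  W _ := Prd T (.of Lr.{u})
  j i := prMap T (Axes.punct i)
  isOpen i := isOpenImmersion_prMap T _ (by
    letI : Algebra (Axes.{u} κ) Lr.{u} := (Axes.punct i : Axes.{u} κ →+* Lr.{u}).toAlgebra
    have := Axes.isLocalization_punct.{u} i
    exact IsOpenImmersion.of_isLocalization (Axes.x.{u} i))
  disjoint i i' h :=
    ((disjoint_punct h).preimage _).mono (range_punct_subset i T) (range_punct_subset i' T)

/-- The map of axes data given by an injection of index sets. -/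
def axMap (T : Over S) {κ κ' : Type} [DecidableEq κ] [DecidableEq κ'] (σ : κ' → κ)
    (hσ : Function.Injective σ) : Datum.Map (axD T κ') (axD T κ) where
  σ := σ
  f := prMap T (Axes.restrictHom σ hσ)
  k _ := 𝟙 _
  comm i := (Category.id_comp _).trans (by
    show prMap T (Axes.punct (σ i)) = prMap T (Axes.punct i) ≫ prMap T (Axes.restrictHom σ hσ)
    rw [← prMap_comp, Axes.punct, Axes.punct, AlgHom.comp_assoc, Axes.proj_comp_restrictHom])

/-- Doubled axes over `T`. -/
abbrev AxDbl (T : Over S) (κ : Type) [DecidableEq κ] : Over S := (axD T κ).Dbl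

variable {𝒳 : AlgSt.Cat S} (hX : Stk.IsPrestack (AlgSp.J S) 𝒳) {T : Over S} (η : 𝒳.p.Fiber T)

/-- The automorphisms of the pullback of `η` to `T × Spec A`. -/
abbrev G (A : Type u) [CommRing A] := Aut (pullObj hX.1 (prH T (.of A)) η)

variable {A B C : Type u} [CommRing A] [CommRing B] [CommRing C]
  [Algebra Zu.{u} A] [Algebra Zu.{u} B] [Algebra Zu.{u} C]

/-- Restriction along a homomorphism of algebras. -/
def rr (φ : A →ₐ[Zu.{u}] B) : G hX η A →* G hX η B :=
  resHom hX.1 η (prMap T φ) (prMap_prH T φ)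

theorem rr_rr (φ : A →ₐ[Zu.{u}] B) (ψ : B →ₐ[Zu.{u}] C) (g : G hX η A) :
    rr hX η ψ (rr hX η φ g) = rr hX η (ψ.comp φ) g :=
  by
  simp only [rr, resHom_apply]
  exact res_res_eq hX.1 η (prMap T ψ) (prMap T φ) (prMap T (ψ.comp φ)) (prMap_comp T φ ψ).symm _ _ g

theorem res_eq_self {W : Over S} {h : W ⟶ T} {k : W ⟶ W} (hk : k = 𝟙 W) (e : k ≫ h = h)
    (g : Aut (pullObj hX.1 h η)) : res hX.1 η k e g = g := by
  subst hk
  exact res_id hX.1 η g

theorem rr_id (g : G hX η A) : rr hX η (AlgHom.id Zu.{u} A) g = g := by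
  simp only [rr, resHom_apply]
  exact res_eq_self hX η (prMap_id T) _ g

/-- The constants. -/
def cst : G hX η Zu.{u} →* G hX η A := rr hX η (Algebra.ofId Zu.{u} A)

theorem rr_cst (φ : A →ₐ[Zu.{u}] B) (g : G hX η Zu.{u}) :
    rr hX η φ (cst hX η g) = cst hX η g := by
  rw [cst, rr_rr]
  exact congrArg (fun t => rr hX η t g) (Subsingleton.elim _ _)

theorem cst_self (g : G hX η Zu.{u}) : cst hX η (A := Zu.{u}) g = g := by
  rw [cst, show Algebra.ofId Zu.{u} Zu.{u} = AlgHom.id Zu.{u} Zu.{u} from Subsingleton.elim _ _,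
    rr_id]

variable (hd : AlgSt.RepByAlgSpWith (AlgSp.IsSeparatedMor ⊓ AlgSp.IsQuasiCompactMor)
  (FibCat.diag (FibCat.toSelf 𝒳)))

include hd in
/-- An automorphism over a line is determined on the punctured line. -/
theorem rr_toLaurent_injective :
    Function.Injective (rr hX η (Polynomial.toLaurentAlg (R := Zu.{u}))) := by
  intro g g' e
  have hk : IsSchDominant (prMap T (Polynomial.toLaurentAlg (R := Zu.{u}))).left :=
    isSchDominant_prMap T _ truncLin fun a => by rw [Polynomial.toLaurentAlg_apply]; exact truncLin_toLaurent a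
  have he := prMap_prH T (Polynomial.toLaurentAlg (R := Zu.{u}))
  have key := res_injective hX.1 η hd (h := prH T (.of (Polynomial Zu.{u}))) (h' := prH T (.of Lr.{u})) (prMap T (Polynomial.toLaurentAlg (R := Zu.{u}))) he hk
  simp only [rr, resHom_apply] at e
  exact key e

variable {κ κ' : Type} [DecidableEq κ] [DecidableEq κ']

/-- Transfer of automorphisms on a punctured axis to the form used by `IsTw`. -/
def toW (i : κ) : G hX η Lr.{u} →*
    Aut (pullObj hX.1 ((axD T κ).j i ≫ prH T (.of (Axes.{u} κ))) η) :=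
  resHom hX.1 η (𝟙 (Prd T (.of Lr.{u})))
    ((Category.id_comp _).trans (prMap_prH T (Axes.punct i)).symm)

theorem toW_bijective (i : κ) : Function.Bijective (toW hX η i) := by
  refine Function.bijective_iff_has_inverse.2
    ⟨res hX.1 η (h := (axD T κ).j i ≫ prH T (.of (Axes.{u} κ))) (h' := prH T (.of Lr.{u}))
      (𝟙 (Prd T (.of Lr.{u}))) ((Category.id_comp _).trans (prMap_prH T (Axes.punct i))),
      fun g => ?_, fun g => ?_⟩
  · exact (res_res_eq hX.1 η _ _ _ (Category.id_comp _) _ _ g).trans (res_id hX.1 η g)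
  · exact (res_res_eq hX.1 η _ _ _ (Category.id_comp _) _ _ g).trans (res_id hX.1 η g)

theorem res_j_eq (i : κ) (g : G hX η (Axes.{u} κ)) :
    res hX.1 η ((axD T κ).j i) rfl g = toW hX η i (rr hX η (Axes.punct i) g) :=
  (res_res_eq hX.1 η _ _ _ (Category.id_comp _) _ _ g).symm

theorem toW_rel (i : κ) (x y : G hX η Lr.{u}) (gF gT : G hX η (Axes.{u} κ)) :
    toW hX η i y * res hX.1 η ((axD T κ).j i) rfl gF =
      res hX.1 η ((axD T κ).j i) rfl gT * toW hX η i x ↔
    y * rr hX η (Axes.punct i) gF = rr hX η (Axes.punct i) gT * x := by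
  have h1 := res_j_eq hX η i gF
  have h2 := res_j_eq hX η i gT
  have m1 := (toW hX η i).map_mul y (rr hX η (Axes.punct i) gF)
  have m2 := (toW hX η i).map_mul (rr hX η (Axes.punct i) gT) x
  constructor
  · intro e
    apply (toW_bijective hX η i).injective
    exact m1.trans ((congrArg (toW hX η i y * ·) h1.symm).trans
      (e.trans ((congrArg (· * toW hX η i x) h2).trans m2.symm)))
  · intro e
    exact (congrArg (toW hX η i y * ·) h1).trans (m1.symm.trans
      ((congrArg (toW hX η i) e).trans (m2.trans (congrArg (· * toW hX η i x) h2.symm))))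

/-- The twisted form with transition automorphisms `c`. -/
def Tw (κ : Type) [DecidableEq κ] (x : 𝒳.p.Fiber (AxDbl T κ)) (c : κ → G hX η Lr.{u}) : Prop :=
  IsTw hX η (axD T κ) (prH T (.of (Axes.{u} κ))) x (fun i => toW hX η i (c i))

theorem exists_Tw (hS : Stk.IsStack (AlgSp.J S) 𝒳) (c : κ → G hX η Lr.{u}) :
    ∃ x, Tw hX η κ x c :=
  exists_tw hX η _ _ hS _

theorem Tw_one : Tw hX η κ
    (pullObj hX.1 ((axD T κ).fold ≫ prH T (.of (Axes.{u} κ))) η) (fun _ => 1) := by
  unfold Tw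
  convert isTw_one hX η (axD T κ) (prH T (.of (Axes.{u} κ))) using 2
  exact (toW hX η _).map_one

theorem Tw.cls_eq_iff {x x' : 𝒳.p.Fiber (AxDbl T κ)} {c c' : κ → G hX η Lr.{u}}
    (hx : Tw hX η κ x c) (hx' : Tw hX η κ x' c') :
    IsoNat.cls x = IsoNat.cls x' ↔ ∃ g : Bool → G hX η (Axes.{u} κ), ∀ i,
      c' i * rr hX η (Axes.punct i) (g false) = rr hX η (Axes.punct i) (g true) * c i := by
  refine (Groth.Misc10.IsoNat.cls_eq_iff).trans
    ((hom_iso_tw hX η (axD T κ) (prH T (.of (Axes.{u} κ))) (c := fun i => toW hX η i (c i))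
      (c' := fun i => toW hX η i (c' i)) hx hx').trans ?_)
  exact exists_congr fun g => forall_congr' fun i =>
    toW_rel hX η i (c i) (c' i) (g false) (g true)

/-- A class is locally trivial when it restricts to the class of `η` on both copies of the axes. -/
def LocTriv (hg : FibCat.IsFibGrpd 𝒳.p) (κ : Type) [DecidableEq κ] (c₀ : IsoNat.IsoCl 𝒳 T)
    (a : IsoNat.IsoCl 𝒳 (AxDbl T κ)) : Prop :=
  ∀ b, pullCls hg ((axD T κ).inj b) a = pullCls hg (prH T (.of (Axes.{u} κ))) c₀

theorem Tw.locTriv {x : 𝒳.p.Fiber (AxDbl T κ)} {c : κ → G hX η Lr.{u}} (hx : Tw hX η κ x c) :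
    LocTriv hX.1 κ (IsoNat.cls η) (IsoNat.cls x) :=
  IsTw.locTriv hX η _ _ hx

theorem exists_Tw_of_locTriv {a : IsoNat.IsoCl 𝒳 (AxDbl T κ)}
    (ha : LocTriv hX.1 κ (IsoNat.cls η) a) :
    ∃ x c, IsoNat.cls x = a ∧ Tw hX η κ x c := by
  obtain ⟨x, rfl⟩ := exists_cls a
  obtain ⟨c, hc⟩ := exists_isTw_of_locTriv hX η (axD T κ) _ ha
  choose c' hc' using fun i => (toW_bijective hX η i).surjective (c i)
  refine ⟨x, c', rfl, ?_⟩
  unfold Tw
  rwa [show (fun i => toW hX η i (c' i)) = c from funext hc']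

theorem Tw.pull (σ : κ' → κ) (hσ : Function.Injective σ) {x : 𝒳.p.Fiber (AxDbl T κ)}
    {c : κ → G hX η Lr.{u}} (hx : Tw hX η κ x c) :
    Tw hX η κ' (pullObj hX.1 (axMap T σ hσ).dbl x) (c ∘ σ) := by
  have h := IsTw.pull hX η (axMap T σ hσ) (prH T (.of (Axes.{u} κ)))
    (prH T (.of (Axes.{u} κ'))) (prMap_prH T _) hx
  unfold Tw
  convert h using 2
  exact (res_res_eq hX.1 η _ _ _ (Category.id_comp _) _ _ (c (σ _))).symm

theorem Tw.pullCls_eq_iff (σ : κ' → κ) (hσ : Function.Injective σ)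
    {x : 𝒳.p.Fiber (AxDbl T κ)} {c : κ → G hX η Lr.{u}} (hx : Tw hX η κ x c)
    {y : 𝒳.p.Fiber (AxDbl T κ')} {d : κ' → G hX η Lr.{u}} (hy : Tw hX η κ' y d) :
    pullCls hX.1 (axMap T σ hσ).dbl (IsoNat.cls x) = IsoNat.cls y ↔
      ∃ g : Bool → G hX η (Axes.{u} κ'), ∀ i,
        d i * rr hX η (Axes.punct i) (g false) = rr hX η (Axes.punct i) (g true) * c (σ i) := by
  rw [pullCls_cls']
  exact (hx.pull hX η σ hσ).cls_eq_iff hX η hy

end Groth.Misc10.IsoNat
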