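import Groth.Agent.Misc10.IsoNat.Separation
import Groth.Agent.QuotStk.QuotStStack
import Groth.Agent.AlgGrp2.Basic

/-!
# The functor from torsors to a stack given by an action on an object over the final scheme
-/

set_option autoImplicit false
set_option backward.isDefEq.respectTransparency false
set_option backward.isDefEq.respectTransparency.types false

universe u

open CategoryTheory CategoryTheory.Limits MonoidalCategory CartesianMonoidalCategory MonObj GrpObj
open AlgebraicGeometry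
open Groth.StkBase

noncomputable section

namespace Groth.Misc10.IsoNat

variable {S : Scheme.{u}} {G : Over S} [GrpObj G]

/-- Torsors. -/
abbrev TObj (G : Over S) [GrpObj G] : Type (u + 1) :=
  AlgSt.QuotObj Scheme.fppfPrecoverage G (AlgSt.trivAction G)

section Div

variable {A : TObj G}

/-- The element of the group which carries one point of a torsor to another. -/
def dv {V : Over S} (s s' : V ⟶ A.P) (h : s' ≫ A.π = s ≫ A.π) : V ⟶ G :=
  A.cart.lift s' s h ≫ fst G A.P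

theorem dv_act {V : Over S} (s s' : V ⟶ A.P) (h : s' ≫ A.π = s ≫ A.π) :
    lift (dv s s' h) s ≫ A.act.act = s' := by
  have e : lift (dv s s' h) s = A.cart.lift s' s h := by
    apply CartesianMonoidalCategory.hom_ext
    · simp [dv]
    · simpa using (A.cart.lift_snd s' s h).symm
  rw [e]
  exact A.cart.lift_fst s' s h

theorem lift_act_π {V : Over S} (g : V ⟶ G) (s : V ⟶ A.P) :
    (lift g s ≫ A.act.act) ≫ A.π = s ≫ A.π := by
  rw [Category.assoc, A.cart.w, lift_snd_assoc]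

theorem dv_eq {V : Over S} (s s' : V ⟶ A.P) (h : s' ≫ A.π = s ≫ A.π) (g : V ⟶ G)
    (hg : lift g s ≫ A.act.act = s') : dv s s' h = g := by
  have e : A.cart.lift s' s h = lift g s := by
    apply A.cart.hom_ext
    · rw [A.cart.lift_fst, hg]
    · rw [A.cart.lift_snd, lift_snd]
  rw [dv, e, lift_fst]

theorem dv_congr {V : Over S} {s t s' t' : V ⟶ A.P} (e : s = t) (e' : s' = t')
    (h : s' ≫ A.π = s ≫ A.π) : dv s s' h = dv t t' (by rw [← e, ← e', h]) := by
  subst e e'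
  rfl

theorem dv_self {V : Over S} (s : V ⟶ A.P) : dv s s rfl = 1 :=
  dv_eq _ _ _ _ (Groth.AlgGrp2.lift_one_act A.act s)

theorem dv_comp {V : Over S} (a b c : V ⟶ A.P) (h₁ : b ≫ A.π = a ≫ A.π) (h₂ : c ≫ A.π = b ≫ A.π) :
    dv b c h₂ * dv a b h₁ = dv a c (h₂.trans h₁) := by
  symm
  apply dv_eq
  have e := Groth.AlgGrp2.lift_mul_act A.act (dv b c h₂) (dv a b h₁) a
  rw [e, dv_act, dv_act]

theorem dv_pull {V' V : Over S} (k : V' ⟶ V) (s s' : V ⟶ A.P) (h : s' ≫ A.π = s ≫ A.π) :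
    dv (k ≫ s) (k ≫ s') (by rw [Category.assoc, Category.assoc, h]) = k ≫ dv s s' h := by
  apply dv_eq
  rw [← comp_lift, Category.assoc, dv_act]

theorem dv_map {B : TObj G} (φ : A ⟶ B) {V : Over S} (s s' : V ⟶ A.P) (h : s' ≫ A.π = s ≫ A.π) :
    dv (s ≫ φ.top) (s' ≫ φ.top)
      (by rw [Category.assoc, Category.assoc, φ.cart.w, ← Category.assoc, ← Category.assoc, h]) =
      dv s s' h := by
  apply dv_eq
  conv_rhs => rw [← dv_act s s' h]
  rw [Category.assoc, φ.eqv, lift_whiskerLeft_assoc]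

theorem secSieve_mem (A : TObj G) :
    ∃ R ∈ AlgSp.J S A.base, ∀ ⦃V : Over S⦄ (f : V ⟶ A.base), R f → ∃ s : V ⟶ A.P, s ≫ A.π = f := by
  refine ⟨_, Groth.QuotStk.secSieve_mem_of_hasSecLoc
    ((Groth.QuotStk.hasSecLoc_emb_iff  A.π).2 A.loc), fun V f hf => ?_⟩
  obtain ⟨s, hs⟩ := hf
  obtain ⟨s, rfl⟩ := (AlgSp.yon S).map_surjective s
  rw [← Functor.map_comp] at hs
  exact ⟨s, (AlgSp.yon S).map_injective hs⟩

/-- The sieve of the morphisms along which a torsor acquires a point. -/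
def secR (A : TObj G) : Sieve A.base where
  arrows V f := ∃ s : V ⟶ A.P, s ≫ A.π = f
  downward_closed := by
    rintro V V' f ⟨s, hs⟩ k
    exact ⟨k ≫ s, by rw [Category.assoc, hs]⟩

theorem secR_mem (A : TObj G) : secR A ∈ AlgSp.J S A.base := by
  obtain ⟨R, hR, h⟩ := secSieve_mem A
  exact GrothendieckTopology.superset_covering _ (fun V f hf => h f hf) hR

theorem ofArrows_sec_mem (A : TObj G) :
    Sieve.ofArrows (fun i : Σ V : Over S, (V ⟶ A.P) => i.1) (fun i => i.2 ≫ A.π) ∈ AlgSp.J S A.base := by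
  refine GrothendieckTopology.superset_covering _ ?_ (secR_mem A)
  rintro V f ⟨s, hs⟩
  exact ⟨V, 𝟙 V, s ≫ A.π, ⟨(⟨V, s⟩ : Σ V : Over S, (V ⟶ A.P))⟩, (Category.id_comp _).trans hs⟩

end Div

variable {𝒴 : AlgSt.Cat S} (hY : Stk.IsPrestack (AlgSp.J S) 𝒴) (y : 𝒴.p.Fiber (𝟙_ (Over S)))

/-- The pullbacks of the object over the final scheme. -/
abbrev yv (V : Over S) : 𝒴.p.Fiber V := pullObj hY.1 (toUnit V) y

/-- The comparison of the pullbacks. -/
def ob {V' V : Over S} (k : V' ⟶ V) : Lift k (yv hY y V') (yv hY y V) :=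
  obMap hY.1 y k (toUnit_unique _ _)

theorem ob_comp {V'' V' V : Over S} (l : V'' ⟶ V') (k : V' ⟶ V) :
    (ob hY y l).1 ≫ (ob hY y k).1 = (ob hY y (l ≫ k)).1 :=
  obMap_comp hY.1 y l k _ _

theorem ob_id (V : Over S) : (ob hY y (𝟙 V)).1 = 𝟙 (yv hY y V).1 :=
  congrArg Subtype.val (Lift.hom_ext hY.1 (pullLift hY.1 (toUnit V) y) (χ := ob hY y (𝟙 V))
    (χ' := Lift.id _) (by simp [ob, obMap_pullLift, Lift.id]))

variable (α : ∀ V : Over S, (V ⟶ G) →* Aut (yv hY y V))
  (hα : ∀ {V' V : Over S} (k : V' ⟶ V) (g : V ⟶ G),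
    (α V' (k ≫ g)).hom.1 ≫ (ob hY y k).1 = (ob hY y k).1 ≫ (α V g).hom.1)

include hα in
theorem ob_α {V' V : Over S} (k : V' ⟶ V) (g : V ⟶ G) {W : 𝒴.obj} (r : (yv hY y V).1 ⟶ W) :
    (ob hY y k).1 ≫ (α V g).hom.1 ≫ r = (α V' (k ≫ g)).hom.1 ≫ (ob hY y k).1 ≫ r := by
  rw [reassoc_of% (hα k g)]

theorem α_comp [IsCommMonObj G] (V : Over S) (g h : V ⟶ G) {W : 𝒴.obj} (r : (yv hY y V).1 ⟶ W) :
    (α V g).hom.1 ≫ (α V h).hom.1 ≫ r = (α V (g * h)).hom.1 ≫ r := by
  rw [_root_.mul_comm g h, map_mul]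
  exact (Category.assoc _ _ _).symm

theorem α_one (V : Over S) {W : 𝒴.obj} (r : (yv hY y V).1 ⟶ W) : (α V 1).hom.1 ≫ r = r := by
  rw [map_one]
  exact Category.id_comp r

include hα in
/-- The object attached to a torsor, with its trivialisations. -/
theorem exists_extObj [IsCommMonObj G] (hS : Stk.IsStack (AlgSp.J S) 𝒴) (A : TObj G) :
    ∃ (E : 𝒴.p.Fiber A.base) (e : ∀ {V : Over S} (s : V ⟶ A.P), Lift (s ≫ A.π) (yv hY y V) E),
      (∀ {V' V : Over S} (k : V' ⟶ V) (s : V ⟶ A.P), (ob hY y k).1 ≫ (e s).1 = (e (k ≫ s)).1) ∧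
      ∀ {V : Over S} (s s' : V ⟶ A.P) (h : s' ≫ A.π = s ≫ A.π),
        (e s').1 = (α V (dv s s' h)).hom.1 ≫ (e s).1 := by
  let R := secR A
  have hex : ∀ a : (Stk.sieveCat R).obj, ∃ s : a.obj.left ⟶ A.P, s ≫ A.π = a.obj.hom := fun a =>
    a.property
  choose σ hσ using hex
  have hk : ∀ {a' a : (Stk.sieveCat R).obj} (f : a' ⟶ a),
      (f.hom.left ≫ σ a) ≫ A.π = σ a' ≫ A.π := fun {a' a} f => by
    rw [Category.assoc, hσ, hσ]; exact Over.w f.hom
  let F₀ : Stk.sieveCat R ⥤ᵇ 𝒴 :=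
    { toFunctor :=
        { obj := fun a => (yv hY y a.obj.left).1
          map := fun {a' a} f =>
            (α a'.obj.left (dv (f.hom.left ≫ σ a) (σ a') (hk f).symm)).hom.1 ≫
              (ob hY y f.hom.left).1
          map_id := fun a => by
            show (α _ (dv (𝟙 a.obj.left ≫ σ a) (σ a) _)).hom.1 ≫ (ob hY y (𝟙 a.obj.left)).1 = 𝟙 _
            rw [ob_id, Category.comp_id]
            have : dv (𝟙 a.obj.left ≫ σ a) (σ a) (by simp) = (1 : a.obj.left ⟶ G) := by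
              simp only [Category.id_comp]
              exact dv_self _
            rw [this, map_one]
            rfl
          map_comp := fun {a'' a' a} f g => by
            show (α _ (dv ((f.hom.left ≫ g.hom.left) ≫ σ a) (σ a'') _)).hom.1 ≫
                (ob hY y (f.hom.left ≫ g.hom.left)).1 =
              ((α _ (dv (f.hom.left ≫ σ a') (σ a'') _)).hom.1 ≫ (ob hY y f.hom.left).1) ≫
                (α _ (dv (g.hom.left ≫ σ a) (σ a') _)).hom.1 ≫ (ob hY y g.hom.left).1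
            refine Eq.trans ?_ (Category.assoc _ _ _).symm
            rw [ob_α hY y α hα, α_comp, ob_comp, ← dv_pull f.hom.left]
            congr 3
            exact congrArg (α _) ((dv_congr (Category.assoc _ _ _) rfl _).trans
              (dv_comp (f.hom.left ≫ g.hom.left ≫ σ a) (f.hom.left ≫ σ a') (σ a'')
                (by simp only [Category.assoc] at hk ⊢; rw [hk g]) (hk f).symm).symm) }
      w := CategoryTheory.Functor.ext
        (fun a => (yv hY y a.obj.left).2)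
        (fun a' a f => (Lift.comp ((α a'.obj.left (dv (f.hom.left ≫ σ a) (σ a') (hk f).symm)).hom :
          Lift (𝟙 _) _ _) (ob hY y f.hom.left) (Category.id_comp _)).map_eq) }
  have : (Stk.resSieve R 𝒴).IsEquivalence := hS.2 R (secR_mem A)
  obtain ⟨P, ⟨θ⟩⟩ : ∃ P, Nonempty ((Stk.resSieve R 𝒴).obj P ≅ F₀) :=
    ⟨(Stk.resSieve R 𝒴).objPreimage F₀, ⟨(Stk.resSieve R 𝒴).objObjPreimageIso F₀⟩⟩
  let E : 𝒴.p.Fiber A.base := ⟨P.obj (idObj A.base), P.w_obj _⟩
  let q : ∀ (g : Over A.base), Lift g.hom (⟨P.obj g, P.w_obj g⟩ : 𝒴.p.Fiber g.left) E := fun g =>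
    ⟨P.map (toId g), by
      have := overCat_isHomLift (toId g)
      exact P.preserves_isHomLift (toId g).left (toId g)⟩
  let ei : ∀ a : (Stk.sieveCat R).obj,
      Lift (𝟙 _) (yv hY y a.obj.left) (⟨P.obj a.obj, P.w_obj _⟩ : 𝒴.p.Fiber a.obj.left) :=
    fun a => ⟨θ.inv.toNatTrans.app a, θ.inv.isHomLift' a⟩
  have hnat : ∀ {a' a : (Stk.sieveCat R).obj} (f : a' ⟶ a),
      (α a'.obj.left (dv (f.hom.left ≫ σ a) (σ a') (hk f).symm)).hom.1 ≫
          (ob hY y f.hom.left).1 ≫ (ei a).1 ≫ (q a.obj).1 =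
        (ei a').1 ≫ (q a'.obj).1 := fun {a' a} f => by
    have hn := θ.inv.toNatTrans.naturality f
    change ((α a'.obj.left _).hom.1 ≫ (ob hY y f.hom.left).1) ≫ (ei a).1 =
      (ei a').1 ≫ P.map f.hom at hn
    have hP : P.map f.hom ≫ (q a.obj).1 = (q a'.obj).1 := by
      show P.map f.hom ≫ P.map _ = P.map _
      rw [← P.toFunctor.map_comp]
      congr 1
      apply Over.OverMorphism.ext
      exact Over.w f.hom
    rw [← hP, ← reassoc_of% hn]
  let mk : ∀ {V : Over S} (s : V ⟶ A.P), (Stk.sieveCat R).obj :=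
    fun {V} s => ⟨Over.mk (s ≫ A.π), s, rfl⟩
  let e' : ∀ (a : (Stk.sieveCat R).obj) (s : a.obj.left ⟶ A.P), s ≫ A.π = a.obj.hom →
      ((yv hY y a.obj.left).1 ⟶ E.1) := fun a s hs =>
    (α a.obj.left (dv (σ a) s (hs.trans (hσ a).symm))).hom.1 ≫ (ei a).1 ≫ (q a.obj).1
  have he' : ∀ {a' a : (Stk.sieveCat R).obj} (f : a' ⟶ a) (s : a.obj.left ⟶ A.P)
      (hs : s ≫ A.π = a.obj.hom) (s' : a'.obj.left ⟶ A.P) (hs' : s' ≫ A.π = a'.obj.hom)
      (_ : f.hom.left ≫ s = s'),
      (ob hY y f.hom.left).1 ≫ e' a s hs = e' a' s' hs' := by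
    rintro a' a f s hs s' hs' rfl
    simp only [e']
    rw [ob_α hY y α hα, ← hnat f, α_comp, ← dv_pull f.hom.left]
    congr 3
    have hu := hσ a'
    exact congrArg (α _) (dv_comp (f.hom.left ≫ σ a) (σ a') (f.hom.left ≫ s) (hk f).symm
      (hs'.trans hu.symm)).symm
  refine ⟨E, fun {V} s => ⟨e' (mk s) s rfl, ?_⟩, fun {V' V} k s => ?_, fun {V} s s' h => ?_⟩
  · exact (Lift.comp ((α V (dv (σ (mk s)) s (hσ (mk s)).symm)).hom : Lift (𝟙 V) _ _)
      ((ei (mk s)).comp (q (mk s).obj) (Category.id_comp _)) (Category.id_comp _) :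
        Lift (s ≫ A.π) (yv hY y V) E).2
  · exact he' (a' := mk (k ≫ s)) (a := mk s)
      (ObjectProperty.homMk (Over.homMk k (Category.assoc _ _ _).symm)) s rfl (k ≫ s) rfl rfl
  · have key : ∀ (a : (Stk.sieveCat R).obj) (t t' : a.obj.left ⟶ A.P) (ht : t ≫ A.π = a.obj.hom)
        (ht' : t' ≫ A.π = a.obj.hom),
        e' a t' ht' = (α a.obj.left (dv t t' (ht'.trans ht.symm))).hom.1 ≫ e' a t ht := by
      intro a t t' ht ht'
      simp only [e']
      rw [α_comp, dv_comp]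
    have hcast : ∀ (a b : (Stk.sieveCat R).obj) (hab : a = b) (hl : a.obj.left = b.obj.left)
        (t : a.obj.left ⟶ A.P) (t' : b.obj.left ⟶ A.P) (ht : t ≫ A.π = a.obj.hom)
        (ht' : t' ≫ A.π = b.obj.hom), eqToHom hl ≫ t' = t →
        e' a t ht = eqToHom (by rw [hab]) ≫ e' b t' ht' := by
      rintro a b rfl hl t t' ht ht' rfl
      simp
    show e' (mk s') s' rfl = (α V (dv s s' h)).hom.1 ≫ e' (mk s) s rfl
    have hm : mk s' = mk s := by simp only [mk, h]
    rw [hcast (mk s') (mk s) hm rfl s' s' rfl h (Category.id_comp _), key (mk s) s s' rfl h]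
    exact Category.id_comp _

section Functor

variable [IsCommMonObj G] (hS : Stk.IsStack (AlgSp.J S) 𝒴)

/-- The object attached to a torsor. -/
def extObj (A : TObj G) : 𝒴.p.Fiber A.base := (exists_extObj hY y α hα hS A).choose

/-- The trivialisation given by a point of the torsor. -/
def triv (A : TObj G) {V : Over S} (s : V ⟶ A.P) :
    Lift (s ≫ A.π) (yv hY y V) (extObj hY y α hα hS A) :=
  (exists_extObj hY y α hα hS A).choose_spec.choose s

theorem ob_triv (A : TObj G) {V' V : Over S} (k : V' ⟶ V) (s : V ⟶ A.P) :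
    (ob hY y k).1 ≫ (triv hY y α hα hS A s).1 = (triv hY y α hα hS A (k ≫ s)).1 :=
  (exists_extObj hY y α hα hS A).choose_spec.choose_spec.1 k s

theorem triv_dv (A : TObj G) {V : Over S} (s s' : V ⟶ A.P) (h : s' ≫ A.π = s ≫ A.π) :
    (triv hY y α hα hS A s').1 = (α V (dv s s' h)).hom.1 ≫ (triv hY y α hα hS A s).1 :=
  (exists_extObj hY y α hα hS A).choose_spec.choose_spec.2 s s' h

theorem triv_congr (A : TObj G) {V : Over S} {s t : V ⟶ A.P} (e : s = t) :
    (triv hY y α hα hS A s).1 = (triv hY y α hα hS A t).1 := by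
  subst e
  rfl

theorem ext_lift_ext {A : TObj G} {Y : Over S} {k : A.base ⟶ Y} {w : 𝒴.p.Fiber Y}
    {a b : Lift k (extObj hY y α hα hS A) w}
    (h : ∀ {V : Over S} (s : V ⟶ A.P),
      (triv hY y α hα hS A s).1 ≫ a.1 = (triv hY y α hα hS A s).1 ≫ b.1) : a = b :=
  lift_ext_cover hY (ofArrows_sec_mem A) (fun i => triv hY y α hα hS A i.2) fun i => h i.2

theorem exists_extMap {A B : TObj G} (φ : A ⟶ B) :
    ∃ m : Lift φ.base (extObj hY y α hα hS A) (extObj hY y α hα hS B), ∀ {V : Over S} (s : V ⟶ A.P),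
      (triv hY y α hα hS A s).1 ≫ m.1 = (triv hY y α hα hS B (s ≫ φ.top)).1 := by
  have hb : ∀ {V : Over S} (s : V ⟶ A.P), (s ≫ A.π) ≫ φ.base = (s ≫ φ.top) ≫ B.π := fun s => by
    rw [Category.assoc, Category.assoc, φ.cart.w]
  let x' := pullObj hY.1 φ.base (extObj hY y α hα hS B)
  let gm : ∀ i : Σ V : Over S, (V ⟶ A.P), Lift (i.2 ≫ A.π) (yv hY y i.1) x' := fun i =>
    fac hY.1 (pullLift hY.1 φ.base (extObj hY y α hα hS B)) (triv hY y α hα hS B (i.2 ≫ φ.top))
      (i.2 ≫ A.π) (hb i.2)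
  have hgm : ∀ i, (gm i).1 ≫ (pullLift hY.1 φ.base (extObj hY y α hα hS B)).1 =
      (triv hY y α hα hS B (i.2 ≫ φ.top)).1 := fun i => fac_comp ..
  obtain ⟨ψ, hψ⟩ := exists_glue_hom hY (ofArrows_sec_mem A) (fun i => triv hY y α hα hS A i.2) gm (by
    intro Z z i i' l l' m m' e
    have hl : (l ≫ i.2) ≫ A.π = (l' ≫ i'.2) ≫ A.π := by
      simpa only [Category.assoc] using Lift.base_unique (m.comp (triv hY y α hα hS A i.2) rfl)
        (m'.comp (triv hY y α hα hS A i'.2) rfl) e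
    let m₀ := fac hY.1 (ob hY y l) m (𝟙 Z) (Category.id_comp _)
    have hm₀ : m₀.1 ≫ (ob hY y l).1 = m.1 := fac_comp ..
    let m₁ := fac hY.1 (ob hY y l') m' (𝟙 Z) (Category.id_comp _)
    have hm₁ : m₁.1 ≫ (ob hY y l').1 = m'.1 := fac_comp ..
    let d := dv (l ≫ i.2) (l' ≫ i'.2) hl.symm
    rw [← hm₀, ← hm₁, Category.assoc, Category.assoc, ob_triv, ob_triv,
      triv_dv hY y α hα hS A (l ≫ i.2) (l' ≫ i'.2) hl.symm] at e
    have key : m₀ = m₁.comp ((α Z d).hom : Lift (𝟙 Z) _ _) (Category.id_comp _) :=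
      Lift.hom_ext hY.1 (triv hY y α hα hS A (l ≫ i.2)) (e.trans (Category.assoc _ _ _).symm)
    refine congrArg Subtype.val (Lift.hom_ext hY.1 (pullLift hY.1 φ.base (extObj hY y α hα hS B))
      (χ := m.comp (gm i) rfl)
      (χ' := m'.comp (gm i') (by simpa only [Category.assoc] using hl.symm)) ?_)
    simp only [Lift.comp_val, Category.assoc, hgm]
    rw [← hm₀, ← hm₁, Category.assoc m₀.1, Category.assoc m₁.1, ob_triv, ob_triv, key, Lift.comp_val,
      Category.assoc m₁.1]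
    refine congrArg (m₁.1 ≫ ·) ?_
    show (α Z d).hom.1 ≫ _ = _
    have ht := triv_dv hY y α hα hS B ((l ≫ i.2) ≫ φ.top) ((l' ≫ i'.2) ≫ φ.top)
      (by rw [← hb, ← hb, hl])
    rw [dv_map φ (l ≫ i.2) (l' ≫ i'.2) hl.symm] at ht
    rw [triv_congr hY y α hα hS B (Category.assoc l i.2 φ.top),
      triv_congr hY y α hα hS B (Category.assoc l' i'.2 φ.top)] at ht
    exact ht.symm)
  refine ⟨Lift.comp (ψ : Lift (𝟙 _) _ _) (pullLift hY.1 φ.base (extObj hY y α hα hS B))
    (Category.id_comp _), fun {V} s => ?_⟩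
  rw [Lift.comp_val, ← Category.assoc]
  exact (congrArg (· ≫ _) (hψ ⟨V, s⟩)).trans (hgm ⟨V, s⟩)

/-- The morphism attached to a morphism of torsors. -/
def extMap {A B : TObj G} (φ : A ⟶ B) :
    Lift φ.base (extObj hY y α hα hS A) (extObj hY y α hα hS B) :=
  (exists_extMap hY y α hα hS φ).choose

theorem triv_extMap {A B : TObj G} (φ : A ⟶ B) {V : Over S} (s : V ⟶ A.P) :
    (triv hY y α hα hS A s).1 ≫ (extMap hY y α hα hS φ).1 =
      (triv hY y α hα hS B (s ≫ φ.top)).1 :=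
  (exists_extMap hY y α hα hS φ).choose_spec s

/-- The functor from torsors given by the action. -/
def extFun : AlgSt.BG Scheme.fppfPrecoverage G ⥤ᵇ 𝒴 where
  toFunctor :=
    { obj := fun A => (extObj hY y α hα hS A).1
      map := fun φ => (extMap hY y α hα hS φ).1
      map_id := fun A => congrArg Subtype.val (ext_lift_ext hY y α hα hS
        (a := extMap hY y α hα hS (𝟙 A)) (b := Lift.id _) (fun s => by
          rw [triv_extMap]
          simp only [AlgSt.QuotObj.id_top]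
          exact (Category.comp_id _).symm))
      map_comp := fun {A B C} φ ψ => congrArg Subtype.val (ext_lift_ext hY y α hα hS
        (a := extMap hY y α hα hS (φ ≫ ψ))
        (b := (extMap hY y α hα hS φ).comp (extMap hY y α hα hS ψ) rfl) (fun s => by
          rw [triv_extMap, Lift.comp_val, reassoc_of% (triv_extMap hY y α hα hS φ s), triv_extMap]
          exact triv_congr hY y α hα hS C (Category.assoc _ _ _).symm)) }
  w := CategoryTheory.Functor.ext (fun A => (extObj hY y α hα hS A).2)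
    (fun A B φ => (extMap hY y α hα hS φ).map_eq)

theorem extFun_map {A B : TObj G} (φ : A ⟶ B) :
    (extFun hY y α hα hS).map φ = (extMap hY y α hα hS φ).1 := rfl

end Functor

end Groth.Misc10.IsoNat
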