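import Groth.Agent.Misc10.IsoNat.Theta
import Groth.Agent.Misc10.IsoNat.TorsorExt
import Groth.Agent.StkGerb.Gerbe
import Groth.Agent.QuotStk.QuotFib
import Groth.Agent.StkGerb.QuotFin.TrivTorsor

/-!
# The classifying stack of a commutative group is determined by its presheaf of isomorphism classes
-/

set_option autoImplicit false
set_option backward.isDefEq.respectTransparency false
set_option backward.isDefEq.respectTransparency.types false

universe u

open CategoryTheory CategoryTheory.Limits MonoidalCategory CartesianMonoidalCategory MonObj GrpObj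
open AlgebraicGeometry
open Groth.StkBase

noncomputable section

namespace Groth.Misc10.IsoNat

variable {S : Scheme.{u}} {G : Over S} [GrpObj G]

open Groth.StkGerb.QuotFin

/-- The trivial torsor. -/
abbrev ξt (G : Over S) [GrpObj G] (V : Over S) :
    (AlgSt.BG Scheme.fppfPrecoverage G).p.Fiber V :=
  trivObj Scheme.fppfPrecoverage (AlgSt.trivAction G) (toUnit V)

/-- Multiplication by a point, as an automorphism of the trivial torsor. -/
def gIso {V : Over S} (g : V ⟶ G) : Aut (ξt G V) :=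
  trivIso (toUnit V) (toUnit V) g (toUnit_unique _ _)

theorem gIso_top {V : Over S} (g : V ⟶ G) : (gIso g).hom.1.top = (rmul G g).hom := rfl

theorem gIso_base {V : Over S} (g : V ⟶ G) : (gIso g).hom.1.base = 𝟙 V := by
  show eqToHom (rfl : V = V) = _
  rfl

theorem gIso_mul [IsCommMonObj G] {V : Over S} (g h : V ⟶ G) : gIso (g * h) = gIso g * gIso h := by
  refine Iso.ext (Subtype.ext (AlgSt.QuotObj.hom_ext ?_ ?_))
  · show (gIso (g * h)).hom.1.base = (gIso h).hom.1.base ≫ (gIso g).hom.1.base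
    simp only [gIso_base]
    exact (Category.comp_id _).symm
  · show (rmul G (g * h)).hom = (rmul G h).hom ≫ (rmul G g).hom
    ext1
    · simp [rmul, comp_mul]
      rw [_root_.mul_comm (snd G V ≫ g) (snd G V ≫ h), ← _root_.mul_assoc]
    · simp [rmul]

theorem gIso_bijective (V : Over S) : Function.Bijective (gIso (G := G) (V := V)) := by
  let e := autEquiv Scheme.fppfPrecoverage (AlgSt.trivAction G) (toUnit V)
  constructor
  · intro g h eq
    exact congrArg Subtype.val (e.symm.injective (a₁ := ⟨g, toUnit_unique _ _⟩)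
      (a₂ := ⟨h, toUnit_unique _ _⟩) eq)
  · intro a
    exact ⟨(e a).1, e.symm_apply_apply a⟩

/-- The morphism of trivial torsors over a morphism of bases. -/
def tl {V' V : Over S} (k : V' ⟶ V) : Lift k (ξt G V') (ξt G V) :=
  ⟨{ base := k
     top := G ◁ k
     eqv := by
      show (AlgSt.leftMul G V').act ≫ (G ◁ k) = (G ◁ (G ◁ k)) ≫ (AlgSt.leftMul G V).act
      ext1 <;> simp [AlgSt.leftMul, comp_mul]
     cart := AlgSt.isPullback_whiskerLeft k
     wφ := toUnit_unique _ _ },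
    IsHomLift.of_fac' _ _ _ rfl rfl ((Category.id_comp _).trans (Category.comp_id _)).symm⟩

theorem gIso_tl {V' V : Over S} (k : V' ⟶ V) (g : V ⟶ G) :
    (gIso (k ≫ g)).hom.1 ≫ (tl (G := G) k).1 = (tl (G := G) k).1 ≫ (gIso g).hom.1 := by
  refine AlgSt.QuotObj.hom_ext ?_ ?_
  · show (gIso (k ≫ g)).hom.1.base ≫ k = k ≫ (gIso g).hom.1.base
    simp only [gIso_base]
    exact (Category.id_comp _).trans (Category.comp_id _).symm
  · show (rmul G (k ≫ g)).hom ≫ (G ◁ k) = (G ◁ k) ≫ (rmul G g).hom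
    ext1 <;> simp [rmul, comp_mul]

theorem isAutAbelian_ξt [IsCommMonObj G] (hX : FibCat.IsFibGrpd (AlgSt.BG Scheme.fppfPrecoverage G).p)
    (V : Over S) : IsoNat.IsAutAbelian (ξt G V) := by
  intro T' x a s t
  obtain ⟨k, hk⟩ : ∃ k : T' ⟶ V,
      (AlgSt.BG Scheme.fppfPrecoverage G).p.map a = eqToHom x.2 ≫ k ≫ eqToHom (ξt G V).2.symm :=
    ⟨eqToHom x.2.symm ≫ (AlgSt.BG Scheme.fppfPrecoverage G).p.map a ≫ eqToHom (ξt G V).2, by simp⟩
  obtain ⟨i, -⟩ := iso_of_lifts hX (k := k) ⟨a, IsHomLift.of_fac' _ _ _ x.2 (ξt G V).2 hk⟩ (tl k)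
  apply i.conjAut.injective
  obtain ⟨g, hg⟩ := (gIso_bijective T').2 (i.conjAut s)
  obtain ⟨h, hh⟩ := (gIso_bijective T').2 (i.conjAut t)
  rw [map_mul, map_mul, ← hg, ← hh, ← gIso_mul, ← gIso_mul, _root_.mul_comm g h]

section Center

variable [IsCommMonObj G] {𝒴 : AlgSt.Cat S} (hY : Stk.IsPrestack (AlgSp.J S) 𝒴)
  (y : 𝒴.p.Fiber (𝟙_ (Over S))) (α : ∀ V : Over S, (V ⟶ G) →* Aut (yv hY y V))
  (hα : ∀ {V' V : Over S} (k : V' ⟶ V) (g : V ⟶ G),
    (α V' (k ≫ g)).hom.1 ≫ (ob hY y k).1 = (ob hY y k).1 ≫ (α V g).hom.1)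
  (hS : Stk.IsStack (AlgSp.J S) 𝒴)

omit [IsCommMonObj G] in
theorem base_eq_of_vert {A : TObj G}
    (β : Gerb.AutO (𝒳 := AlgSt.BG Scheme.fppfPrecoverage G) A) : β.hom.1.base = 𝟙 A.base := by
  have := β.hom.2
  have h : (AlgSt.BG Scheme.fppfPrecoverage G).p.map β.hom.1 = _ :=
    IsHomLift.fac' (AlgSt.BG Scheme.fppfPrecoverage G).p
      (𝟙 ((AlgSt.BG Scheme.fppfPrecoverage G).p.obj A)) β.hom.1
  exact h.trans ((Category.id_comp _).trans (Category.id_comp _))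

omit [IsCommMonObj G] in
theorem exists_section_of_hom {A : TObj G} (d : A ⟶ (ξt G (𝟙_ (Over S))).1) :
    ∃ σ : A.base ⟶ A.P, σ ≫ A.π = 𝟙 _ :=
  ⟨d.cart.lift (toUnit A.base ≫ lift (toUnit _ ≫ η[G]) (𝟙 _)) (𝟙 _) (toUnit_unique _ _),
    d.cart.lift_snd _ _ _⟩

omit [IsCommMonObj G] in
theorem top_ext {A : TObj G} (σ : A.base ⟶ A.P) (hσ : σ ≫ A.π = 𝟙 _) {β β' : A ⟶ A}
    (h : σ ≫ β.top = σ ≫ β'.top) : β.top = β'.top := by
  have h₀ : 𝟙 A.P ≫ A.π = (A.π ≫ σ) ≫ A.π := by rw [Category.assoc, hσ]; simp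
  have e : lift (dv (A.π ≫ σ) (𝟙 A.P) h₀) (A.π ≫ σ) ≫ A.act.act = 𝟙 A.P := dv_act _ _ _
  rw [← Category.id_comp β.top, ← Category.id_comp β'.top, ← e, Category.assoc, Category.assoc,
    β.eqv, β'.eqv, lift_whiskerLeft_assoc, lift_whiskerLeft_assoc, Category.assoc, Category.assoc, h]

/-- Translation of a torsor by a point of the group over its base, as a morphism. -/
def tr (A : TObj G) (g : A.base ⟶ G) : A ⟶ A where
  base := 𝟙 _
  top := lift (A.π ≫ g) (𝟙 A.P) ≫ A.act.act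
  eqv := by
    have e : A.act.act ≫ lift (A.π ≫ g) (𝟙 A.P) =
        lift ((snd G A.P ≫ A.π) ≫ g) A.act.act := by
      rw [comp_lift, ← Category.assoc, A.cart.w, Category.comp_id]
    rw [← Category.assoc, e, MonoidalCategory.whiskerLeft_comp, Category.assoc]
    have e₁ : A.act.act = lift (fst G A.P) (snd G A.P) ≫ A.act.act := by
      rw [lift_fst_snd, Category.id_comp]
    have e₂ : G ◁ (lift (A.π ≫ g) (𝟙 A.P)) =
        lift (fst G A.P) (lift ((snd G A.P ≫ A.π) ≫ g) (snd G A.P)) := by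
      apply CartesianMonoidalCategory.hom_ext <;> simp [Category.assoc]
    have e₃ : lift (fst G A.P) (lift ((snd G A.P ≫ A.π) ≫ g) (snd G A.P)) ≫ (G ◁ A.act.act) =
        lift (fst G A.P) (lift ((snd G A.P ≫ A.π) ≫ g) (snd G A.P) ≫ A.act.act) :=
      lift_whiskerLeft _ _ _
    rw [e₂, e₃]
    conv_lhs => arg 1; arg 2; rw [e₁]
    rw [← Groth.AlgGrp2.lift_mul_act A.act, ← Groth.AlgGrp2.lift_mul_act A.act,
      _root_.mul_comm (fst G A.P), Category.assoc (snd G A.P)]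
  cart := by
    have w : ∀ h : A.base ⟶ G, (lift (A.π ≫ h) (𝟙 A.P) ≫ A.act.act) ≫ A.π = A.π := fun h => by
      rw [lift_act_π, Category.id_comp]
    have hc : ∀ h h' : A.base ⟶ G, h' * h = 1 →
        (lift (A.π ≫ h) (𝟙 A.P) ≫ A.act.act) ≫ lift (A.π ≫ h') (𝟙 A.P) ≫ A.act.act = 𝟙 _ := by
      intro h h' e
      rw [← Category.assoc, comp_lift, Category.comp_id, ← Category.assoc _ A.π, w,
        ← Groth.AlgGrp2.lift_mul_act A.act, ← comp_mul, e, comp_one, Groth.AlgGrp2.lift_one_act]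
    have : IsIso (lift (A.π ≫ g) (𝟙 A.P) ≫ A.act.act) :=
      ⟨lift (A.π ≫ g⁻¹) (𝟙 A.P) ≫ A.act.act, hc g g⁻¹ (inv_mul_cancel g),
        hc g⁻¹ g (mul_inv_cancel g)⟩
    exact IsPullback.of_horiz_isIso ⟨(w g).trans (Category.comp_id _).symm⟩
  wφ := toUnit_unique _ _

theorem autMap_bijective (hbij : ∀ V, Function.Bijective (α V)) (A : TObj G)
    (d : A ⟶ (ξt G (𝟙_ (Over S))).1) :
    Function.Bijective (Gerb.autMap (extFun hY y α hα hS) A) := by
  obtain ⟨σ, hσ⟩ := exists_section_of_hom d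
  let E := extObj hY y α hα hS A
  let t : Lift (σ ≫ A.π) (yv hY y A.base) E := triv hY y α hα hS A σ
  have key : ∀ (β : Gerb.AutO (𝒳 := AlgSt.BG Scheme.fppfPrecoverage G) A),
      ∃ h : (σ ≫ β.hom.1.top) ≫ A.π = σ ≫ A.π,
      t.1 ≫ (Gerb.autMap (extFun hY y α hα hS) A β).hom.1 =
        (α A.base (dv σ (σ ≫ β.hom.1.top) h)).hom.1 ≫ t.1 := fun β => by
    have h : (σ ≫ β.hom.1.top) ≫ A.π = σ ≫ A.π := by
      rw [Category.assoc, β.hom.1.cart.w, base_eq_of_vert β, Category.comp_id]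
    refine ⟨h, ?_⟩
    rw [← triv_dv hY y α hα hS A σ (σ ≫ β.hom.1.top) h]
    exact triv_extMap hY y α hα hS β.hom.1 σ
  constructor
  · intro β β' e
    obtain ⟨h, hβ⟩ := key β
    obtain ⟨h', hβ'⟩ := key β'
    rw [e] at hβ
    have e₁ : ((α A.base (dv σ (σ ≫ β.hom.1.top) h)).hom : yv hY y A.base ⟶ yv hY y A.base) =
        (α A.base (dv σ (σ ≫ β'.hom.1.top) h')).hom :=
      fiber_hom_ext hY.1 t (hβ.symm.trans hβ')
    have e₂ := (hbij A.base).1 (Iso.ext e₁)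
    have e₃ : σ ≫ β.hom.1.top = σ ≫ β'.hom.1.top := by
      rw [← dv_act σ (σ ≫ β.hom.1.top) h, ← dv_act σ (σ ≫ β'.hom.1.top) h', e₂]
    exact Iso.ext (Subtype.ext (AlgSt.QuotObj.hom_ext
      ((base_eq_of_vert β).trans (base_eq_of_vert β').symm) (top_ext σ hσ e₃)))
  · intro gm
    let F := extFun hY y α hα hS
    let E' : 𝒴.p.Fiber A.base := E
    let gm₀ : Lift (𝟙 A.base) E' E' := ⟨gm.hom.1, by
      have hbase : 𝒴.p.obj (F.obj A) = A.base := F.w_obj A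
      have := gm.hom.2
      exact IsHomLift.of_fac' _ _ _ hbase hbase
        ((IsHomLift.fac' 𝒴.p (𝟙 (𝒴.p.obj (F.obj A))) gm.hom.1).trans (by simp; rfl))⟩
    have hm : (𝟙 A.base) ≫ σ ≫ A.π = σ ≫ A.π := Category.id_comp _
    let c : Lift (𝟙 A.base) (yv hY y A.base) (yv hY y A.base) :=
      fac hY.1 t (t.comp gm₀ (Category.comp_id _)) (𝟙 _) hm
    have hc : c.1 ≫ t.1 = t.1 ≫ gm.hom.1 := fac_comp hY.1 t (t.comp gm₀ (Category.comp_id _)) (𝟙 _) hm
    obtain ⟨g, hg⟩ := (hbij A.base).2 (fiberIso hY.1 (c : yv hY y A.base ⟶ yv hY y A.base))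
    let β₀ := tr A g
    obtain ⟨β, hβ⟩ : ∃ β : Gerb.AutO (𝒳 := AlgSt.BG Scheme.fppfPrecoverage G) A,
        β.hom.1 = β₀ :=
      Groth.StkGerb.exists_autO (Groth.QuotStk.isFibGrpd_quotSt (AlgSt.trivAction G)) β₀
        ⟨rfl, rfl⟩
    refine ⟨β, ?_⟩
    obtain ⟨h, hk⟩ := key β
    have e : dv σ (σ ≫ β.hom.1.top) h = g := dv_eq _ _ _ _ (by
      rw [hβ]
      show _ = σ ≫ lift (A.π ≫ g) (𝟙 A.P) ≫ A.act.act
      rw [comp_lift_assoc, Category.comp_id, ← Category.assoc, hσ, Category.id_comp])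
    rw [e, hg] at hk
    have hk' : t.1 ≫ (Gerb.autMap F A β).hom.1 = t.1 ≫ gm.hom.1 := hk.trans hc
    have : IsIso t.1 := Groth.StkBase.isIso_of_isIso_map hY.1 _ (by
      rw [t.map_eq, hσ]; infer_instance)
    exact Iso.ext (Subtype.ext ((cancel_epi t.1).1 hk'))

end Center

/-- The morphism from the trivial torsor given by a point of a torsor. -/
def ptHom {V : Over S} (A : TObj G) (s : V ⟶ A.P) : (ξt G V).1 ⟶ A :=
  eqToHom (congrArg (Groth.QuotStk.trivT (AlgSt.trivAction G)) (toUnit_unique (toUnit V) (s ≫ A.φ))) ≫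
    Groth.QuotStk.homOfPt A s

theorem trivT_eqToHom_base {V : Over S} {x x' : V ⟶ 𝟙_ (Over S)} (e : x = x') :
    (eqToHom (congrArg (Groth.QuotStk.trivT (AlgSt.trivAction G)) e) :
      Groth.QuotStk.trivT (AlgSt.trivAction G) x ⟶ Groth.QuotStk.trivT (AlgSt.trivAction G) x').base =
        𝟙 V := by
  subst e
  rfl

theorem ptHom_base {V : Over S} (A : TObj G) (s : V ⟶ A.P) : (ptHom A s).base = s ≫ A.π := by
  rw [ptHom, AlgSt.QuotObj.comp_base,
    trivT_eqToHom_base (toUnit_unique (toUnit V) (s ≫ A.φ))]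
  exact Category.id_comp _

theorem isGerbe_bg [IsAffineHom G.hom] :
    Gerb.IsGerbe (AlgSp.J S) (AlgSt.BG Scheme.fppfPrecoverage G) := by
  refine ⟨Groth.QuotStk.isStack_quotSt (AlgSt.trivAction G), fun U => ?_, fun A B b hb => ?_⟩
  · refine ⟨⊤, (AlgSp.J S).top_mem _, fun V f _ => ⟨(ξt G V).1, f, ?_⟩⟩
    exact IsHomLift.map (𝟭 (Over S)) f
  · have hbase : B.base = A.base := (IsHomLift.codomain_eq (FibCat.selfOver (Over S)).p
      (𝟙 ((AlgSt.BG Scheme.fppfPrecoverage G).p.obj A)) b :)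
    have := hb
    have hb' := IsHomLift.fac' (FibCat.selfOver (Over S)).p (𝟙 ((AlgSt.BG Scheme.fppfPrecoverage G).p.obj A)) b
    refine ⟨secR A ⊓ (secR B).pullback (eqToHom hbase.symm),
      (AlgSp.J S).intersection_covering (secR_mem A) ((AlgSp.J S).pullback_stable _ (secR_mem B)),
      fun V f hf => ?_⟩
    obtain ⟨⟨s, hs⟩, ⟨t, ht⟩⟩ := hf
    let φ : (ξt G V).1 ⟶ A := ptHom A s
    let ψ : (ξt G V).1 ⟶ B := ptHom B t
    have hφ : φ.base = f := (ptHom_base A s).trans hs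
    have hψ : ψ.base = f ≫ eqToHom hbase.symm := (ptHom_base B t).trans ht
    refine ⟨(ξt G V).1, φ, ψ, IsHomLift.of_fac' _ _ _ rfl rfl ?_,
      IsHomLift.of_fac' _ _ _ rfl hbase ?_, ?_⟩
    · show φ.base = _
      rw [hφ]
      exact ((Category.id_comp _).trans (Category.comp_id _)).symm
    · show ψ.base = _
      rw [hψ]
      exact (Category.id_comp _).symm
    · show φ.base ≫ b = ψ.base
      rw [hφ, hψ]
      refine congrArg (f ≫ ·) ?_
      exact hb'.trans (by simp)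

theorem isGerbe_of_fIso [IsAffineHom G.hom] {𝒴 : AlgSt.Cat S} (hS : Stk.IsStack (AlgSp.J S) 𝒴)
    (φ : IsoNat.FIso (AlgSt.BG Scheme.fppfPrecoverage G) 𝒴) :
    Gerb.IsGerbe (AlgSp.J S) 𝒴 := by
  have hY := isPrestack_of_isStack hS
  have hX := Groth.QuotStk.isFibGrpd_quotSt (AlgSt.trivAction G)
  have hc : ∀ {V : Over S} (z : 𝒴.p.Fiber V) (A : TObj G) (hA : A.base = V)
      (_ : φ.toEquiv V (IsoNat.cls ⟨A, hA⟩) = IsoNat.cls z) {W : Over S} (f : W ⟶ V)
      (_ : (secR A).pullback (eqToHom hA.symm) f),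
      pullCls hY.1 f (IsoNat.cls z) = φ.toEquiv W (IsoNat.cls (ξt G W)) := by
    intro V z A hA e W f hf
    subst hA
    obtain ⟨s, hs⟩ := hf
    rw [← e, ← toEquiv_pullCls φ hX hY.1]
    congr 1
    refine pullCls_cls hX ⟨ptHom A s, IsHomLift.of_fac' _ _ _ rfl rfl ?_⟩
    show (ptHom A s).base = _
    rw [ptHom_base]
    exact (hs.trans (Category.comp_id _)).trans
      ((Category.id_comp _).trans (Category.comp_id _)).symm
  refine ⟨hS, fun U => ?_, fun a b m hm => ?_⟩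
  · obtain ⟨z, -⟩ := exists_cls (φ.toEquiv U (IsoNat.cls (ξt G U)))
    refine ⟨⊤, (AlgSp.J S).top_mem _, fun V f _ => ⟨(pullObj hY.1 f z).1,
      eqToHom (pullObj hY.1 f z).2 ≫ f, ?_⟩⟩
    exact IsHomLift.of_fac' (𝟭 (Over S)) f _ (pullObj hY.1 f z).2 rfl (by simp)
  · have hab : 𝒴.p.obj b = 𝒴.p.obj a := (IsHomLift.codomain_eq (FibCat.selfOver (Over S)).p (𝟙 (𝒴.p.obj a)) m :)
    have := hm
    have hm' := IsHomLift.fac' (FibCat.selfOver (Over S)).p (𝟙 (𝒴.p.obj a)) m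
    let za : 𝒴.p.Fiber (𝒴.p.obj a) := ⟨a, rfl⟩
    let zb : 𝒴.p.Fiber (𝒴.p.obj a) := ⟨b, hab⟩
    obtain ⟨⟨A, hA⟩, eA⟩ := exists_cls ((φ.toEquiv _).symm (IsoNat.cls za))
    obtain ⟨⟨B, hB⟩, eB⟩ := exists_cls ((φ.toEquiv _).symm (IsoNat.cls zb))
    refine ⟨(secR A).pullback (eqToHom hA.symm) ⊓ (secR B).pullback (eqToHom hB.symm),
      (AlgSp.J S).intersection_covering ((AlgSp.J S).pullback_stable _ (secR_mem A))
        ((AlgSp.J S).pullback_stable _ (secR_mem B)), fun V f hf => ?_⟩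
    have ea := hc za A hA (by rw [eA, Equiv.apply_symm_apply]) f hf.1
    have eb := hc zb B hB (by rw [eB, Equiv.apply_symm_apply]) f hf.2
    rw [pullCls_cls'] at ea eb
    obtain ⟨i⟩ := cls_eq_iff.1 (ea.trans eb.symm)
    let φa := pullLift hY.1 f za
    let φb : Lift f (pullObj hY.1 f za) zb :=
      Lift.comp (i.hom : Lift (𝟙 _) _ _) (pullLift hY.1 f zb) (Category.id_comp _)
    refine ⟨(pullObj hY.1 f za).1, φa.1, φb.1, φa.2, φb.2, ?_⟩
    show 𝒴.p.map φa.1 ≫ m = 𝒴.p.map φb.1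
    rw [φa.map_eq, φb.map_eq, Category.assoc, Category.assoc]
    congr 2

theorem bg_exists_equiv_of_fIso [IsCommMonObj G] [IsAffineHom G.hom]
    (hBd : AlgSt.RepByAlgSpWith (AlgSp.IsSeparatedMor ⊓ AlgSp.IsQuasiCompactMor)
      (FibCat.diag (FibCat.toSelf (AlgSt.BG Scheme.fppfPrecoverage G))))
    {𝒴 : AlgSt.Cat S} (hS : Stk.IsStack (AlgSp.J S) 𝒴)
    (hd : AlgSt.RepByAlgSpWith (AlgSp.IsSeparatedMor ⊓ AlgSp.IsQuasiCompactMor)
      (FibCat.diag (FibCat.toSelf 𝒴)))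
    (φ : IsoNat.FIso (AlgSt.BG Scheme.fppfPrecoverage G) 𝒴) :
    ∃ e : AlgSt.BG Scheme.fppfPrecoverage G ⥤ᵇ 𝒴, FibCat.IsEquivOver e := by
  have hB : Stk.IsStack (AlgSp.J S) (AlgSt.BG Scheme.fppfPrecoverage G) :=
    Groth.QuotStk.isStack_quotSt (AlgSt.trivAction G)
  have hX := (isPrestack_of_isStack hB).1
  have hY := isPrestack_of_isStack hS
  obtain ⟨y, hy⟩ := exists_cls (φ.toEquiv _ (IsoNat.cls (ξt G (𝟙_ (Over S)))))
  have hcl : ∀ V, φ.toEquiv V (IsoNat.cls (ξt G V)) = IsoNat.cls (yv hY y V) := fun V => by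
    rw [← pullCls_cls hX (tl (G := G) (toUnit V)), toEquiv_pullCls φ hX hY.1, ← hy]
    rfl
  let gH : ∀ V : Over S, (V ⟶ G) →* Aut (ξt G V) := fun V => MonoidHom.mk' gIso gIso_mul
  let α : ∀ V : Over S, (V ⟶ G) →* Aut (yv hY y V) := fun V =>
    (autEquivOfCls hB hS hBd hd (hcl V) (isAutAbelian_ξt hX V)).toMonoidHom.comp (gH V)
  have hα : ∀ {V' V : Over S} (k : V' ⟶ V) (g : V ⟶ G),
      (α V' (k ≫ g)).hom.1 ≫ (ob hY y k).1 = (ob hY y k).1 ≫ (α V g).hom.1 := fun {V' V} k g =>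
    autEquivOfCls_natural hB hS hBd hd (tl k) (ob hY y k) (hcl V') (hcl V) (isAutAbelian_ξt hX V')
      (isAutAbelian_ξt hX V) (gIso_tl k g)
  refine ⟨extFun hY y α hα hS, Groth.StkGerb.isEquivOver_of_bijective_center (isGerbe_bg (G := G))
    (isGerbe_of_fIso hS φ) _ (ξt G (𝟙_ (Over S))).1 isTerminalTensorUnit fun A d =>
      autMap_bijective hY y α hα hS (fun V => ?_) A d⟩
  exact (autEquivOfCls hB hS hBd hd (hcl V) (isAutAbelian_ξt hX V)).bijective.comp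
    (gIso_bijective (G := G) V)

end Groth.Misc10.IsoNat
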