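import Groth.Agent.Misc10.IsoNat.Points
import Groth.Agent.AlgStBasic.LocalLift

/-!
# Sections of a fibre product with a chart as isomorphism classes
-/

set_option autoImplicit false
set_option backward.isDefEq.respectTransparency false
set_option backward.isDefEq.respectTransparency.types false

universe u

open CategoryTheory CategoryTheory.Limits AlgebraicGeometry Opposite
open Groth.StkBase

noncomputable section

namespace Groth.Misc10.IsoNat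

variable {S : Scheme.{u}} {𝒳 𝒴 : AlgSt.Cat S}

theorem mapCls_cls (f : 𝒳 ⥤ᵇ 𝒴) {T : Over S} (x : 𝒳.p.Fiber T) :
    IsoNat.mapCls f T (IsoNat.cls x) = IsoNat.cls ((IsoNat.fibFun f T).obj x) := rfl

theorem mapCls_eq_of_iso (hY : FibCat.IsFibGrpd 𝒴.p) {f f' : 𝒳 ⥤ᵇ 𝒴} (α : f ≅ f') {T : Over S}
    (c : IsoNat.IsoCl 𝒳 T) : IsoNat.mapCls f T c = IsoNat.mapCls f' T c := by
  obtain ⟨x, rfl⟩ := exists_cls c
  exact cls_eq_iff.2 ⟨fiberIso hY ⟨(isoApp α x.1).hom,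
    (isVert_isoApp α x.1).isHomLift ((f.w_obj x.1).trans x.2)⟩⟩

theorem mapCls_pullCls (hX : FibCat.IsFibGrpd 𝒳.p) (hY : FibCat.IsFibGrpd 𝒴.p) (f : 𝒳 ⥤ᵇ 𝒴)
    {T' T : Over S} (k : T' ⟶ T) (c : IsoNat.IsoCl 𝒳 T) :
    IsoNat.mapCls f T' (pullCls hX k c) = pullCls hY k (IsoNat.mapCls f T c) := by
  obtain ⟨x, rfl⟩ := exists_cls c
  refine (pullCls_cls hY (x' := (IsoNat.fibFun f T').obj (pullObj hX k x))
    (x := (IsoNat.fibFun f T).obj x) ⟨f.map (pullLift hX k x).1, ?_⟩).symm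
  exact (BasedFunctor.isHomLift_iff f _ _).2 (pullLift hX k x).2

theorem mapCls_bijective (hX : FibCat.IsFibGrpd 𝒳.p) (hY : FibCat.IsFibGrpd 𝒴.p) {f : 𝒳 ⥤ᵇ 𝒴}
    (hf : FibCat.IsEquivOver f) (T : Over S) : Function.Bijective (IsoNat.mapCls f T) := by
  obtain ⟨G, ⟨a⟩, ⟨b⟩⟩ := hf
  refine Function.bijective_iff_has_inverse.2 ⟨IsoNat.mapCls G T, fun c => ?_, fun c => ?_⟩
  · have := mapCls_eq_of_iso hX a c
    obtain ⟨x, rfl⟩ := exists_cls c
    exact this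
  · have := mapCls_eq_of_iso hY b c
    obtain ⟨x, rfl⟩ := exists_cls c
    exact this

section Sections

variable {𝒵 : AlgSt.Cat S} {F : AlgSp.Sp S} (e : AlgSt.ofSp F ⥤ᵇ 𝒵)

/-- The fibre object of a section. -/
def secFib {T : Over S} (r : (AlgSp.yon S).obj T ⟶ F) : (AlgSt.ofSp F).p.Fiber T :=
  ⟨⟨T, Groth.AlgSpBasic.yEquiv r⟩, rfl⟩

/-- The class attached to a section. -/
def secCls {T : Over S} (r : (AlgSp.yon S).obj T ⟶ F) : IsoNat.IsoCl 𝒵 T :=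
  IsoNat.mapCls e T (IsoNat.cls (secFib r))

theorem secCls_bijective (hZ : FibCat.IsFibGrpd 𝒵.p) (he : FibCat.IsEquivOver e) (T : Over S) :
    Function.Bijective (secCls e (T := T)) := by
  have h₁ : Function.Bijective fun r : (AlgSp.yon S).obj T ⟶ F =>
      IsoNat.cls (secFib r) := by
    constructor
    · intro r r' h
      obtain ⟨i⟩ := cls_eq_iff.1 h
      apply Groth.AlgSpBasic.yEquiv.injective
      have hi := (isVert_of_isHomLift (p := (AlgSt.ofSp F).p) i.hom.2).map_eq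
      have hs := i.hom.1.map_sec
      change i.hom.1.hom = eqToHom _ at hi
      rw [hi] at hs
      exact (hs.symm.trans (map_op_id F.obj _ (eqToHom_refl _ _) _))
    · intro c
      obtain ⟨⟨⟨T', s⟩, hT⟩, rfl⟩ := exists_cls c
      change T' = T at hT
      subst hT
      refine ⟨Groth.AlgSpBasic.yEquiv.symm s, ?_⟩
      show IsoNat.cls (⟨⟨T', Groth.AlgSpBasic.yEquiv (Groth.AlgSpBasic.yEquiv.symm s)⟩, rfl⟩ :
        (AlgSt.ofSp F).p.Fiber T') = _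
      rw [Equiv.apply_symm_apply]
  exact (mapCls_bijective (Stk.isFibGrpd_ofPsh _) hZ he T).comp h₁

theorem yEquiv_comp {T' T : Over S} (k : T' ⟶ T) (r : (AlgSp.yon S).obj T ⟶ F) :
    Groth.AlgSpBasic.yEquiv ((AlgSp.yon S).map k ≫ r) = F.obj.map k.op (Groth.AlgSpBasic.yEquiv r) :=
  GrothendieckTopology.uliftYonedaEquiv_naturality.{u + 1} (AlgSp.J S) r k |>.symm

theorem pullCls_secCls (hZ : FibCat.IsFibGrpd 𝒵.p) {T' T : Over S} (k : T' ⟶ T)
    (r : (AlgSp.yon S).obj T ⟶ F) :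
    pullCls hZ k (secCls e r) = secCls e ((AlgSp.yon S).map k ≫ r) := by
  rw [secCls, ← mapCls_pullCls (Stk.isFibGrpd_ofPsh _) hZ]
  refine congrArg (IsoNat.mapCls e T') ?_
  let l : (secFib ((AlgSp.yon S).map k ≫ r)).1 ⟶ (secFib r).1 := eltHom k (yEquiv_comp k r).symm
  exact pullCls_cls _ (x' := secFib ((AlgSp.yon S).map k ≫ r))
    ⟨l, IsHomLift.of_fac' (AlgSt.ofSp F).p k l rfl rfl (by simp [l, eltHom, secFib])⟩

end Sections

section Triples

variable {V : Over S} {f : 𝒳 ⥤ᵇ 𝒴} {v : FibCat.overCat V ⥤ᵇ 𝒴}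

/-- The base point of an object of a fibre product with a chart. -/
def baseFib {T : Over S} (z : (FibCat.fp v f).p.Fiber T) : T ⟶ V :=
  eqToHom z.2.symm ≫ z.1.obj.fst.hom

/-- The base point of a class. -/
def clsBase {T : Over S} : IsoNat.IsoCl (FibCat.fp v f) T → (T ⟶ V) :=
  Quotient.lift baseFib fun z z' ⟨i⟩ => by
    have hi := (isVert_of_isHomLift (p := (FibCat.fp v f).p) i.hom.2).map_eq
    change i.hom.1.hom.fst.left = eqToHom _ at hi
    have hw := Over.w i.hom.1.hom.fst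
    rw [hi] at hw
    simp only [baseFib]
    rw [← hw]
    exact eqToHom_trans_assoc _ _ _

theorem secCls_clsBase {F : AlgSp.Sp S} (e : AlgSt.ofSp F ⥤ᵇ FibCat.fp v f) {T : Over S}
    (r : (AlgSp.yon S).obj T ⟶ F) :
    r ≫ AlgSt.spMapOfOver (BasedFunctor.comp e (FibCat.fpFst v f)) =
      (AlgSp.yon S).map (clsBase (secCls e r)) := by
  apply Groth.AlgSpBasic.yEquiv.injective
  simp only [Groth.AlgSpBasic.yEquiv, GrothendieckTopology.uliftYonedaEquiv_comp]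
  change (⟨baseFib ((IsoNat.fibFun e T).obj (secFib r))⟩ : ULift.{u + 1} (T ⟶ V)) = _
  exact (congrArg ULift.up (Category.id_comp _)).symm

/-- The class of a triple. -/
def mkPt {T : Over S} (c : T ⟶ V) (x : 𝒳.p.Fiber T)
    (a : chartObj v c ≅ (IsoNat.fibFun f T).obj x) : IsoNat.IsoCl (FibCat.fp v f) T :=
  IsoNat.cls ⟨fpMk (F := v) (G := f) (Over.mk c) x.1 (Functor.Fiber.fiberInclusion.mapIso a)
    (isVert_of_isHomLift a.hom.2), rfl⟩

theorem clsBase_mkPt {T : Over S} (c : T ⟶ V) (x : 𝒳.p.Fiber T)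
    (a : chartObj v c ≅ (IsoNat.fibFun f T).obj x) : clsBase (mkPt c x a) = c :=
  Category.id_comp c

theorem exists_mkPt (hY : FibCat.IsFibGrpd 𝒴.p) (hX : FibCat.IsFibGrpd 𝒳.p) {T : Over S}
    (z : IsoNat.IsoCl (FibCat.fp v f) T) :
    ∃ (x : 𝒳.p.Fiber T) (a : chartObj v (clsBase z) ≅ (IsoNat.fibFun f T).obj x),
      mkPt (clsBase z) x a = z := by
  obtain ⟨⟨o, ho⟩, rfl⟩ := exists_cls z
  have hx : 𝒳.p.obj o.obj.snd = T := by
    have := (fp_isVert o).obj_eq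
    exact (f.w_obj _).symm.trans (this.symm.trans ((v.w_obj _).trans ho))
  let x : 𝒳.p.Fiber T := ⟨o.obj.snd, hx⟩
  change o.obj.fst.left = T at ho
  let c : T ⟶ V := eqToHom ho.symm ≫ o.obj.fst.hom
  have hc : clsBase (IsoNat.cls (⟨o, ho⟩ : (FibCat.fp v f).p.Fiber T)) = c := rfl
  let j : Over.mk c ≅ o.obj.fst := Over.isoMk (eqToIso ho.symm) (by simp [c])
  have vj : IsVert (FibCat.overCat V).p j.hom := ⟨ho.symm, rfl⟩
  let A : v.obj (Over.mk c) ≅ f.obj o.obj.snd := v.toFunctor.mapIso j ≪≫ o.obj.iso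
  have vA : IsVert 𝒴.p A.hom := (isVert_map vj).comp (fp_isVert o)
  let a : chartObj v c ≅ (IsoNat.fibFun f T).obj x :=
    fiberIso hY (x := chartObj v c) ⟨A.hom, vA.isHomLift (v.w_obj _)⟩
  refine ⟨x, a, cls_eq_iff.2 ⟨?_⟩⟩
  have hF := isFibGrpd_fp (F := v) (G := f) (isFibGrpd_overCat V) hX hY
  refine fiberIso hF ⟨(fpObjIso (F := v) (G := f)
    (x := fpMk (F := v) (G := f) (Over.mk c) x.1 (Functor.Fiber.fiberInclusion.mapIso a)
      (isVert_of_isHomLift a.hom.2)) (y := o) j (Iso.refl o.obj.snd) ?_).hom, ?_⟩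
  · show v.map j.hom ≫ o.obj.iso.hom = A.hom ≫ f.map (𝟙 o.obj.snd)
    simp [A]
  · exact IsVert.isHomLift (((isVert_fp_iff _).2 vj)) rfl

theorem mkPt_inj {T : Over S} {c : T ⟶ V} {x : 𝒳.p.Fiber T}
    {c' : T ⟶ V} {x' : 𝒳.p.Fiber T} {a : chartObj v c ≅ (IsoNat.fibFun f T).obj x}
    {a' : chartObj v c' ≅ (IsoNat.fibFun f T).obj x'} (h : mkPt c x a = mkPt c' x' a') :
    ∃ (_ : c = c') (i : x ≅ x'), ∀ (hc : chartObj v c = chartObj v c'),
      eqToHom (congrArg Subtype.val hc) ≫ a'.hom.1 = a.hom.1 ≫ f.map i.hom.1 := by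
  have hc : c = c' := (clsBase_mkPt c x a).symm.trans ((congrArg clsBase h).trans (clsBase_mkPt c' x' a'))
  subst hc
  obtain ⟨i⟩ := cls_eq_iff.1 h
  have hv := isVert_of_isHomLift (p := (FibCat.fp v f).p) i.hom.2
  have hfst : i.hom.1.hom.fst = 𝟙 (Over.mk c) := Over.OverMorphism.ext hv.map_eq
  have hl : 𝒳.p.IsHomLift (𝟙 T) i.hom.1.hom.snd := by
    have := i.hom.2
    exact (BasedFunctor.isHomLift_iff (FibCat.fpSnd v f) _ _).2 this
  have hl' : 𝒳.p.IsHomLift (𝟙 T) i.inv.1.hom.snd := by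
    have := i.inv.2
    exact (BasedFunctor.isHomLift_iff (FibCat.fpSnd v f) _ _).2 this
  refine ⟨rfl, ⟨⟨_, hl⟩, ⟨_, hl'⟩,
    Subtype.ext (congrArg (fun k => k.1.hom.snd) i.hom_inv_id),
    Subtype.ext (congrArg (fun k => k.1.hom.snd) i.inv_hom_id)⟩, fun hh => ?_⟩
  have hw : v.map i.hom.1.hom.fst ≫ a'.hom.1 = a.hom.1 ≫ f.map i.hom.1.hom.snd := i.hom.1.hom.w
  rw [hfst] at hw
  refine Eq.trans ?_ hw
  rw [eqToHom_refl]
  exact congrArg (· ≫ a'.hom.1) (v.toFunctor.map_id _).symm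

theorem mkPt_congr {T : Over S} {c : T ⟶ V} {x x' : 𝒳.p.Fiber T}
    {a : chartObj v c ≅ (IsoNat.fibFun f T).obj x}
    {a' : chartObj v c ≅ (IsoNat.fibFun f T).obj x'} (hY : FibCat.IsFibGrpd 𝒴.p)
    (hX : FibCat.IsFibGrpd 𝒳.p) (i : x ≅ x') (hi : a.hom.1 ≫ f.map i.hom.1 = a'.hom.1) :
    mkPt c x a = mkPt c x' a' := by
  refine cls_eq_iff.2 ⟨fiberIso (isFibGrpd_fp (F := v) (G := f) (isFibGrpd_overCat V) hX hY)
    ⟨(fpObjIso (F := v) (G := f)
      (x := fpMk (F := v) (G := f) (Over.mk c) x.1 (Functor.Fiber.fiberInclusion.mapIso a)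
        (isVert_of_isHomLift a.hom.2))
      (y := fpMk (F := v) (G := f) (Over.mk c) x'.1 (Functor.Fiber.fiberInclusion.mapIso a')
        (isVert_of_isHomLift a'.hom.2))
      (Iso.refl _) (Functor.Fiber.fiberInclusion.mapIso i) ?_).hom, ?_⟩⟩
  · show v.map (𝟙 _) ≫ a'.hom.1 = a.hom.1 ≫ f.map i.hom.1
    rw [hi, v.toFunctor.map_id, Category.id_comp]
  · exact IsVert.isHomLift (((isVert_fp_iff _).2 (isVert_id _))) rfl

/-- The structural lift between chart objects. -/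
def chartPull {T' T : Over S} (k : T' ⟶ T) (c : T ⟶ V) :
    Lift k (chartObj v (k ≫ c)) (chartObj v c) :=
  ⟨v.map (Over.homMk k rfl : Over.mk (k ≫ c) ⟶ Over.mk c),
    (BasedFunctor.isHomLift_iff v _ _).2 (IsHomLift.map (FibCat.overCat V).p
      (Over.homMk k rfl : Over.mk (k ≫ c) ⟶ Over.mk c))⟩

/-- The image of a lift. -/
def mapLift {T' T : Over S} {k : T' ⟶ T} {x' : 𝒳.p.Fiber T'} {x : 𝒳.p.Fiber T} (f : 𝒳 ⥤ᵇ 𝒴)
    (l : Lift k x' x) : Lift k ((IsoNat.fibFun f T').obj x') ((IsoNat.fibFun f T).obj x) :=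
  ⟨f.map l.1, (BasedFunctor.isHomLift_iff f _ _).2 l.2⟩

theorem pullCls_mkPt (hX : FibCat.IsFibGrpd 𝒳.p) (hY : FibCat.IsFibGrpd 𝒴.p) {T' T : Over S}
    (k : T' ⟶ T) {c : T ⟶ V} {x : 𝒳.p.Fiber T} {a : chartObj v c ≅ (IsoNat.fibFun f T).obj x}
    {x' : 𝒳.p.Fiber T'} (l : Lift k x' x) {a' : chartObj v (k ≫ c) ≅ (IsoNat.fibFun f T').obj x'}
    (h : (chartPull k c).1 ≫ a.hom.1 = a'.hom.1 ≫ f.map l.1) :
    pullCls (isFibGrpd_fp (F := v) (G := f) (isFibGrpd_overCat V) hX hY) k (mkPt c x a) =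
      mkPt (k ≫ c) x' a' := by
  refine pullCls_cls _ ⟨fpHom (F := v) (G := f) (Over.homMk k rfl) l.1 h, ?_⟩
  exact IsHomLift.of_fac' (FibCat.fp v f).p k _ rfl rfl (by simp; rfl)

/-- The comparison isomorphism of the restricted triple. -/
def restrIso (hY : FibCat.IsFibGrpd 𝒴.p) {T' T : Over S} {k : T' ⟶ T} {c : T ⟶ V}
    {x : 𝒳.p.Fiber T} (a : chartObj v c ≅ (IsoNat.fibFun f T).obj x)
    {x' : 𝒳.p.Fiber T'} (l : Lift k x' x) : chartObj v (k ≫ c) ≅ (IsoNat.fibFun f T').obj x' :=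
  fiberIso hY (fac hY (mapLift f l) ((chartPull k c).comp (a.hom : Lift (𝟙 T) _ _)
    (Category.comp_id k)) (𝟙 T') (Category.id_comp k))

theorem restrIso_spec (hY : FibCat.IsFibGrpd 𝒴.p) {T' T : Over S} {k : T' ⟶ T} {c : T ⟶ V}
    {x : 𝒳.p.Fiber T} (a : chartObj v c ≅ (IsoNat.fibFun f T).obj x)
    {x' : 𝒳.p.Fiber T'} (l : Lift k x' x) :
    (chartPull k c).1 ≫ a.hom.1 = (restrIso hY a l).hom.1 ≫ f.map l.1 :=
  (fac_comp hY (mapLift f l) ((chartPull k c).comp (a.hom : Lift (𝟙 T) _ _) (Category.comp_id k))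
    (𝟙 T') (Category.id_comp k)).symm

end Triples

end Groth.Misc10.IsoNat
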