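import Groth.Agent.Misc10.IsoNat.ChartPts
import Groth.Prelude.Def_AlgSpInf
import Mathlib.RingTheory.Ideal.Quotient.Operations

/-!
# Infinitesimal lifting is detected by the presheaves of isomorphism classes

The trick: a lift exists up to an automorphism on the closed subscheme; testing on the fibre product
of one copy of the thickening for each automorphism, all automorphisms are achieved at once.
-/

set_option autoImplicit false
set_option backward.isDefEq.respectTransparency false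
set_option backward.isDefEq.respectTransparency.types false

universe u

open CategoryTheory CategoryTheory.Limits AlgebraicGeometry Opposite
open Groth.StkBase

noncomputable section

namespace Groth.Misc10.IsoNat

variable {S : Scheme.{u}}

/-- The test scheme of a ring and a structure morphism. -/
abbrev Pt {A : Type u} [CommRing A] (str : Spec (.of A) ⟶ S) : Over S := Over.mk str

/-- The closed subscheme of a test scheme. -/
abbrev Pt₀ {A : Type u} [CommRing A] (I : Ideal A) (str : Spec (.of A) ⟶ S) : Over S :=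
  Over.mk (Spec.map (CommRingCat.ofHom (Ideal.Quotient.mk I)) ≫ str)

/-- The closed immersion. -/
abbrev thickHom {A : Type u} [CommRing A] (I : Ideal A) (str : Spec (.of A) ⟶ S) :
    Pt₀ I str ⟶ Pt str :=
  Over.homMk (Spec.map (CommRingCat.ofHom (Ideal.Quotient.mk I))) rfl

variable {𝒳 𝒴 𝒳' 𝒴' : AlgSt.Cat S}

section Basics

variable {V : Over S} {f : 𝒳 ⥤ᵇ 𝒴} {v : FibCat.overCat V ⥤ᵇ 𝒴}

/-- The lift between chart objects over a commuting triangle. -/
def chartTo (v : FibCat.overCat V ⥤ᵇ 𝒴) {T' T : Over S} (k : T' ⟶ T) (c : T ⟶ V) (c' : T' ⟶ V)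
    (h : k ≫ c = c') : Lift k (chartObj v c') (chartObj v c) :=
  ⟨v.map (Over.homMk k h : Over.mk c' ⟶ Over.mk c),
    (BasedFunctor.isHomLift_iff v _ _).2 (IsHomLift.map (FibCat.overCat V).p
      (Over.homMk k h : Over.mk c' ⟶ Over.mk c))⟩

theorem chartTo_comp {T'' T' T : Over S} {l : T'' ⟶ T'} {k : T' ⟶ T} {m : T'' ⟶ T} {c : T ⟶ V}
    {c' : T' ⟶ V} {c'' : T'' ⟶ V} (h' : l ≫ c' = c'') (h : k ≫ c = c') (hm : m ≫ c = c'')
    (e : l ≫ k = m) :
    (chartTo v l c' c'' h').1 ≫ (chartTo v k c c' h).1 = (chartTo v m c c'' hm).1 :=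
  (v.toFunctor.map_comp _ _).symm.trans (congrArg v.map (Over.OverMorphism.ext e))

theorem clsBase_pullCls (hX : FibCat.IsFibGrpd 𝒳.p) (hY : FibCat.IsFibGrpd 𝒴.p) {T' T : Over S}
    (k : T' ⟶ T) (z : IsoNat.IsoCl (FibCat.fp v f) T) :
    clsBase (pullCls (isFibGrpd_fp (F := v) (G := f) (isFibGrpd_overCat V) hX hY) k z) =
      k ≫ clsBase z := by
  obtain ⟨x, a, ha⟩ := exists_mkPt hY hX z
  conv_lhs => rw [← ha]
  rw [pullCls_mkPt hX hY k (pullLift hX k x) (restrIso_spec hY a _), clsBase_mkPt]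

theorem pullCls_mkPt' (hX : FibCat.IsFibGrpd 𝒳.p) (hY : FibCat.IsFibGrpd 𝒴.p) {T' T : Over S}
    (k : T' ⟶ T) {c : T ⟶ V} {c' : T' ⟶ V} (hc : k ≫ c = c') {x : 𝒳.p.Fiber T}
    {a : chartObj v c ≅ (IsoNat.fibFun f T).obj x} {x' : 𝒳.p.Fiber T'} (l : Lift k x' x)
    {a' : chartObj v c' ≅ (IsoNat.fibFun f T').obj x'}
    (h : (chartTo v k c c' hc).1 ≫ a.hom.1 = a'.hom.1 ≫ f.map l.1) :
    pullCls (isFibGrpd_fp (F := v) (G := f) (isFibGrpd_overCat V) hX hY) k (mkPt c x a) =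
      mkPt c' x' a' := by
  subst hc
  exact pullCls_mkPt hX hY k l h

theorem exists_lift_of_pullCls (hX : FibCat.IsFibGrpd 𝒳.p) {T' T : Over S} {k : T' ⟶ T}
    {x : 𝒳.p.Fiber T} {x' : 𝒳.p.Fiber T'} (h : pullCls hX k (IsoNat.cls x) = IsoNat.cls x') :
    Nonempty (Lift k x' x) := by
  rw [pullCls_cls'] at h
  obtain ⟨e⟩ := cls_eq_iff.1 h.symm
  exact ⟨Lift.comp (e.hom : Lift (𝟙 _) _ _) (pullLift hX k x) (Category.id_comp _)⟩

/-- Lifting of classes of a fibre product with a chart along a thickening. -/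
def LiftsCls (hX : FibCat.IsFibGrpd 𝒳.p) (hY : FibCat.IsFibGrpd 𝒴.p) (v : FibCat.overCat V ⥤ᵇ 𝒴)
    (f : 𝒳 ⥤ᵇ 𝒴) : Prop :=
  ∀ (A : Type u) [CommRing A] (I : Ideal A), I ^ 2 = ⊥ → ∀ (str : Spec (.of A) ⟶ S)
    (c : Pt str ⟶ V) (z₀ : IsoNat.IsoCl (FibCat.fp v f) (Pt₀ I str)),
    clsBase z₀ = thickHom I str ≫ c →
      ∃ z : IsoNat.IsoCl (FibCat.fp v f) (Pt str), clsBase z = c ∧
        pullCls (isFibGrpd_fp (F := v) (G := f) (isFibGrpd_overCat V) hX hY) (thickHom I str) z = z₀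

variable (hX : FibCat.IsFibGrpd 𝒳.p) (hY : FibCat.IsFibGrpd 𝒴.p)
  {F : AlgSp.Sp S} (e : AlgSt.ofSp F ⥤ᵇ FibCat.fp v f)

theorem liftsCls_of_formallySmooth (he : FibCat.IsEquivOver e)
    (hq : AlgSp.IsFormallySmoothMor (AlgSt.spMapOfOver (BasedFunctor.comp e (FibCat.fpFst v f)))) :
    LiftsCls hX hY v f := by
  intro A _ I hI str c z₀ hz₀
  have hF := isFibGrpd_fp (F := v) (G := f) (isFibGrpd_overCat V) hX hY
  obtain ⟨r₀, rfl⟩ := (secCls_bijective e hF he _).2 z₀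
  obtain ⟨l, h₁, h₂⟩ := hq
    { A := A, I := I, sq_zero := hI, str := str, top := r₀, bot := (AlgSp.yon S).map c
      comm := by rw [secCls_clsBase, hz₀, Functor.map_comp] }
  refine ⟨secCls e l, (AlgSp.yon S).map_injective ((secCls_clsBase e l).symm.trans h₂), ?_⟩
  rw [pullCls_secCls]
  exact congrArg (secCls e) h₁

theorem formallySmooth_of_liftsCls (he : FibCat.IsEquivOver e) (h : LiftsCls hX hY v f) :
    AlgSp.IsFormallySmoothMor (AlgSt.spMapOfOver (BasedFunctor.comp e (FibCat.fpFst v f))) := by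
  intro sq
  have hF := isFibGrpd_fp (F := v) (G := f) (isFibGrpd_overCat V) hX hY
  obtain ⟨c, hc⟩ := (AlgSp.yon S).map_surjective sq.bot
  have h₀ : clsBase (secCls e sq.top) = thickHom sq.I sq.str ≫ c := by
    apply (AlgSp.yon S).map_injective
    rw [← secCls_clsBase, sq.comm, ← hc, Functor.map_comp]
  obtain ⟨z, hz₁, hz₂⟩ := h sq.A sq.I sq.sq_zero sq.str c (secCls e sq.top) h₀
  obtain ⟨l, rfl⟩ := (secCls_bijective e hF he _).2 z
  refine ⟨l, (secCls_bijective e hF he _).1 ?_, ?_⟩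
  · rw [← pullCls_secCls e hF]
    exact hz₂
  · rw [secCls_clsBase, hz₁, hc]

end Basics

section Weak

variable {V : Over S} {f : 𝒳 ⥤ᵇ 𝒴} {f' : 𝒳' ⥤ᵇ 𝒴'} (φ : IsoNat.FIsoSq f f')

/-- Lifting of a class with the correct image, with no control of the comparison isomorphism. -/
theorem exists_weakLift (hX : FibCat.IsFibGrpd 𝒳.p) (hY : FibCat.IsFibGrpd 𝒴.p)
    (hX' : FibCat.IsFibGrpd 𝒳'.p) (hY' : FibCat.IsFibGrpd 𝒴'.p)
    {v : FibCat.overCat V ⥤ᵇ 𝒴'} {w : FibCat.overCat V ⥤ᵇ 𝒴}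
    (hw : φ.tgt.toEquiv V (IsoNat.objCls w) = IsoNat.objCls v) (hl : LiftsCls hX hY w f)
    {A : Type u} [CommRing A] (I : Ideal A) (hI : I ^ 2 = ⊥) (str : Spec (.of A) ⟶ S)
    (c : Pt str ⟶ V) (b₀ : IsoNat.IsoCl 𝒳' (Pt₀ I str))
    (hb₀ : IsoNat.cls (chartObj v (thickHom I str ≫ c)) = IsoNat.mapCls f' _ b₀) :
    ∃ b : IsoNat.IsoCl 𝒳' (Pt str), IsoNat.cls (chartObj v c) = IsoNat.mapCls f' _ b ∧
      pullCls hX' (thickHom I str) b = b₀ := by
  obtain ⟨b₁, rfl⟩ := (φ.src.toEquiv _).surjective b₀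
  obtain ⟨x₀, rfl⟩ := exists_cls b₁
  have hcl : ∀ {T : Over S} (d : T ⟶ V), φ.tgt.toEquiv T (IsoNat.cls (chartObj w d)) =
      IsoNat.cls (chartObj v d) := fun d => cls_chartObj_eq φ.tgt hY hY' hw d
  have h₀ : IsoNat.cls (chartObj w (thickHom I str ≫ c)) = IsoNat.mapCls f _ (IsoNat.cls x₀) := by
    apply (φ.tgt.toEquiv _).injective
    rw [hcl, φ.comm, hb₀]
  obtain ⟨a₀⟩ := cls_eq_iff.1 (h₀.trans (mapCls_cls f x₀))
  obtain ⟨z, hz₁, hz₂⟩ := hl A I hI str c (mkPt _ x₀ a₀) (clsBase_mkPt ..)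
  obtain ⟨x, a, ha⟩ := exists_mkPt hY hX z
  subst hz₁
  have hz₃ := ((pullCls_mkPt hX hY (thickHom I str) (pullLift hX (thickHom I str) x)
    (restrIso_spec hY a _)).symm.trans (congrArg (pullCls _ _) ha)).trans hz₂
  obtain ⟨-, i, -⟩ := mkPt_inj hz₃
  refine ⟨φ.src.toEquiv _ (IsoNat.cls x), ?_, ?_⟩
  · rw [← hcl, cls_eq_iff.2 ⟨a⟩, ← φ.comm]
    rfl
  · rw [← toEquiv_pullCls φ.src hX hX', pullCls_cls']
    exact congrArg _ (cls_eq_iff.2 ⟨i⟩)

end Weak

section Self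

variable {V : Over S} {v : FibCat.overCat V ⥤ᵇ 𝒴}

/-- An automorphism on the closed subscheme extends to an isomorphism with another chart point. -/
theorem exists_autLift (hY : FibCat.IsFibGrpd 𝒴.p) (hv : LiftsCls (isFibGrpd_overCat V) hY v v)
    {A : Type u} [CommRing A] (I : Ideal A) (hI : I ^ 2 = ⊥) (str : Spec (.of A) ⟶ S)
    (c : Pt str ⟶ V) (c₀ : Pt₀ I str ⟶ V) (hc : thickHom I str ≫ c = c₀)
    (γ : chartObj v c₀ ≅ chartObj v c₀) :
    ∃ (c' : Pt str ⟶ V) (hc' : thickHom I str ≫ c' = c₀) (ε : chartObj v c ≅ chartObj v c'),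
      (chartTo v (thickHom I str) c c₀ hc).1 ≫ ε.hom.1 =
        γ.hom.1 ≫ (chartTo v (thickHom I str) c' c₀ hc').1 := by
  subst hc
  let x₀ : (FibCat.overCat V).p.Fiber (Pt₀ I str) := ⟨Over.mk (thickHom I str ≫ c), rfl⟩
  let γ' : chartObj v (thickHom I str ≫ c) ≅ (IsoNat.fibFun v _).obj x₀ := γ
  obtain ⟨z, hz₁, hz₂⟩ := hv A I hI str c (mkPt (thickHom I str ≫ c) x₀ γ') (clsBase_mkPt ..)
  obtain ⟨x, a, ha⟩ := exists_mkPt hY (isFibGrpd_overCat V) z
  subst hz₁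
  obtain ⟨⟨T', o, q⟩, hx⟩ := x
  change T' = Pt str at hx
  subst hx
  let x' : (FibCat.overCat V).p.Fiber (Pt₀ I str) := ⟨Over.mk (thickHom I str ≫ q), rfl⟩
  let l : Lift (thickHom I str) x' (⟨⟨Pt str, o, q⟩, rfl⟩ : (FibCat.overCat V).p.Fiber (Pt str)) :=
    ⟨Over.homMk (thickHom I str) rfl, IsHomLift.map (FibCat.overCat V).p
      (Over.homMk (thickHom I str) rfl : Over.mk (thickHom I str ≫ q) ⟶ (⟨Pt str, o, q⟩ : Over V))⟩
  have hz₃ := ((pullCls_mkPt (isFibGrpd_overCat V) hY (thickHom I str) l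
    (restrIso_spec hY a l)).symm.trans (congrArg (pullCls _ _) ha)).trans hz₂
  obtain ⟨-, i, hi⟩ := mkPt_inj hz₃
  have hil : i.hom.1.left = 𝟙 (Pt₀ I str) := by
    have := (isVert_of_isHomLift (p := (FibCat.overCat V).p) i.hom.2).map_eq
    exact this
  have hq : thickHom I str ≫ q = thickHom I str ≫ clsBase z := by
    have hw := Over.w i.hom.1
    rw [hil] at hw
    exact hw.symm.trans (Category.id_comp _)
  refine ⟨q, hq, a, ?_⟩
  have h := hi rfl
  rw [eqToHom_refl, Category.id_comp] at h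
  have e : (i.hom.1 : Over.mk (thickHom I str ≫ q) ⟶ Over.mk (thickHom I str ≫ clsBase z)) ≫
      (Over.homMk (thickHom I str) hq : Over.mk (thickHom I str ≫ clsBase z) ⟶ Over.mk q) = (Over.homMk (thickHom I str) rfl :
        Over.mk (thickHom I str ≫ q) ⟶ Over.mk q) :=
    Over.OverMorphism.ext (by
      show i.hom.1.left ≫ thickHom I str = thickHom I str
      exact (congrArg (· ≫ thickHom I str) hil).trans (Category.id_comp _))
  refine (restrIso_spec hY a l).trans ?_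
  show (restrIso hY a l).hom.1 ≫ v.map (Over.homMk (thickHom I str) rfl :
    Over.mk (thickHom I str ≫ q) ⟶ Over.mk q) = γ'.hom.1 ≫ _
  rw [h, ← e, v.toFunctor.map_comp]
  exact (Category.assoc _ _ _).symm

end Self

end Groth.Misc10.IsoNat
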