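import Groth.Agent.Misc10.IsoNat.Cls
import Groth.Agent.AlgStBasic.Atlas
import Groth.Prelude.Def_AlgSt3

/-!
# Open substacks cut out by open conditions on objects
-/

set_option autoImplicit false
set_option backward.isDefEq.respectTransparency false
set_option backward.isDefEq.respectTransparency.types false

universe u

open CategoryTheory AlgebraicGeometry
open Groth.StkBase Groth.AlgStBasic

namespace Groth.Misc10.IsoNat

variable {S : Scheme.{u}} {𝒳 : AlgSt.Cat S}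

theorem exists_equivOver_subIncl (Q : 𝒳.obj → Prop)
    (hpull : ∀ ⦃η' η : 𝒳.obj⦄ (_ : η' ⟶ η), Q η → Q η') {U : Over S}
    (y : FibCat.overCat U ⥤ᵇ 𝒳) (V : U.left.Opens)
    (hV : ∀ g : Over U, Q (y.obj g) ↔ ∃ g' : g.left.left ⟶ ↑V, g' ≫ V.ι = g.hom.left) :
    ∃ E : FibCat.overCat (Over.mk (V.ι ≫ U.hom)) ⥤ᵇ FibCat.fp y (AlgSt.subIncl 𝒳 Q),
      FibCat.IsEquivOver E ∧ Nonempty (BasedFunctor.comp E (FibCat.fpFst y (AlgSt.subIncl 𝒳 Q)) ≅
        AlgSt.overMap (Over.homMk V.ι rfl : Over.mk (V.ι ≫ U.hom) ⟶ U)) := by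
  let V' : Over S := Over.mk (V.ι ≫ U.hom)
  let ι : V' ⟶ U := Over.homMk V.ι rfl
  have : Mono ι := by
    have : Mono ((Over.forget S).map ι) := inferInstanceAs (Mono V.ι)
    exact (Over.forget S).mono_of_mono_map this
  have hQ : ∀ g : (FibCat.overCat V').obj, Q (y.obj ((AlgSt.overMap ι).obj g)) := fun g =>
    (hV _).2 ⟨g.hom.left, rfl⟩
  let b : FibCat.overCat V' ⥤ᵇ AlgSt.fullSub 𝒳 Q :=
    { toFunctor := ObjectProperty.lift Q ((AlgSt.overMap ι).toFunctor ⋙ y.toFunctor) hQ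
      w := (BasedFunctor.comp (AlgSt.overMap ι) y).w }
  let E : FibCat.overCat V' ⥤ᵇ FibCat.fp y (AlgSt.subIncl 𝒳 Q) :=
    FibCat.fpLift (AlgSt.overMap ι) b
      (Iso.refl (BasedFunctor.comp (AlgSt.overMap ι) y))
  have hfull : E.toFunctor.Full := by
    refine ⟨fun {g g'} m => ?_⟩
    let a : (Over.map ι).obj g ⟶ (Over.map ι).obj g' := m.hom.fst
    have hw : a.left ≫ g'.hom = g.hom := by
      rw [← cancel_mono ι, Category.assoc]
      exact Over.w a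
    refine ⟨Over.homMk a.left hw, fp_hom_ext (Over.OverMorphism.ext rfl) ?_⟩
    have e₁ : (Over.map ι).map (Over.homMk a.left hw : g ⟶ g') = a := Over.OverMorphism.ext rfl
    have hm : y.map m.hom.fst ≫ 𝟙 (y.obj ((Over.map ι).obj g')) =
        𝟙 (y.obj ((Over.map ι).obj g)) ≫ (AlgSt.subIncl 𝒳 Q).map m.hom.snd := m.hom.w
    refine ObjectProperty.hom_ext _ ?_
    refine Eq.trans ?_ (((Category.comp_id _).symm.trans hm).trans (Category.id_comp _))
    show y.map ((Over.map ι).map (Over.homMk a.left hw : g ⟶ g')) = y.map a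
    rw [e₁]
  have hfaith : E.toFunctor.Faithful := by
    refine ⟨fun {g g'} f f' h => ?_⟩
    have := congrArg (fun k => k.hom.fst.left) h
    exact Over.OverMorphism.ext this
  have hE : FibCat.IsEquivOver E := by
    refine isEquivOver_of_fullyFaithful E hfull hfaith fun z => ?_
    let g : Over U := z.obj.fst
    let η := z.obj.snd
    have hQg : Q (y.obj g) := hpull z.obj.iso.hom η.property
    obtain ⟨k, hk⟩ := (hV g).1 hQg
    let k' : g.left ⟶ V' := Over.homMk k (by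
      show k ≫ V.ι ≫ U.hom = g.left.hom
      rw [← Category.assoc, hk]
      exact Over.w g.hom)
    have hk' : k' ≫ ι = g.hom := Over.OverMorphism.ext hk
    let i : (Over.map ι).obj (Over.mk k') ≅ g := Over.isoMk (Iso.refl _) (by simp [hk'])
    let j : y.obj ((Over.map ι).obj (Over.mk k')) ≅ η.obj := y.toFunctor.mapIso i ≪≫ z.obj.iso
    refine ⟨Over.mk k', fpObjIso i ((ObjectProperty.fullyFaithfulι Q).preimageIso j) ?_, ?_⟩
    · show y.map i.hom ≫ z.obj.iso.hom = 𝟙 _ ≫ j.hom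
      simp [j]
    · refine (isVert_fp_iff _).2 ⟨rfl, ?_⟩
      show 𝟙 g.left = eqToHom rfl
      simp
  exact ⟨E, hE, ⟨Iso.refl _⟩⟩

/-- A property of the inclusions of the loci gives one of the inclusion of the substack. -/
theorem repWith_subIncl {P : MorphismProperty (AlgSp.Sp S)} [P.RespectsIso] (Q : 𝒳.obj → Prop)
    (hpull : ∀ ⦃η' η : 𝒳.obj⦄ (_ : η' ⟶ η), Q η → Q η')
    (hopen : ∀ (U : Over S) (y : FibCat.overCat U ⥤ᵇ 𝒳), ∃ V : U.left.Opens,
      (∀ g : Over U, Q (y.obj g) ↔ ∃ g' : g.left.left ⟶ ↑V, g' ≫ V.ι = g.hom.left) ∧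
        P ((AlgSp.yon S).map (Over.homMk V.ι rfl : Over.mk (V.ι ≫ U.hom) ⟶ U))) :
    AlgSt.RepByAlgSpWith P (AlgSt.subIncl 𝒳 Q) := by
  intro U y
  obtain ⟨V, hV, hP⟩ := hopen U y
  obtain ⟨E, hE, ⟨i⟩⟩ := exists_equivOver_subIncl Q hpull y V hV
  let ι : Over.mk (V.ι ≫ U.hom) ⟶ U := Over.homMk V.ι rfl
  have hι : RepFst P (AlgSt.overMap ι) := by
    refine ⟨(AlgSp.ofScheme S).obj _, AlgSt.toOverCat _, isEquivOver_toOverCat _, ?_⟩
    have h := hP
    rw [← spMapOfOver_toOverCat ι] at h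
    exact h
  exact RepFst.of_equiv hE i hι

theorem isOpenImm_subIncl (Q : 𝒳.obj → Prop)
    (hpull : ∀ ⦃η' η : 𝒳.obj⦄ (_ : η' ⟶ η), Q η → Q η')
    (hopen : ∀ (U : Over S) (y : FibCat.overCat U ⥤ᵇ 𝒳), ∃ V : U.left.Opens,
      ∀ g : Over U, Q (y.obj g) ↔ ∃ g' : g.left.left ⟶ ↑V, g' ≫ V.ι = g.hom.left) :
    AlgSt.IsOpenImm (AlgSt.subIncl 𝒳 Q) :=
  repWith_subIncl Q hpull fun U y => by
    obtain ⟨V, hV⟩ := hopen U y
    exact ⟨V, hV, (AlgSp.repWith_yon_map_iff (@IsOpenImmersion) _).2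
      (inferInstanceAs (IsOpenImmersion V.ι))⟩

theorem isFibGrpd_fullSub (hX : FibCat.IsFibGrpd 𝒳.p) (Q : 𝒳.obj → Prop)
    (hpull : ∀ ⦃η' η : 𝒳.obj⦄ (_ : η' ⟶ η), Q η → Q η') :
    FibCat.IsFibGrpd (AlgSt.fullSub 𝒳 Q).p := by
  have : (AlgSt.subIncl 𝒳 Q).toFunctor.Full := inferInstanceAs (ObjectProperty.ι Q).Full
  have : (AlgSt.subIncl 𝒳 Q).toFunctor.Faithful := inferInstanceAs (ObjectProperty.ι Q).Faithful
  exact isFibGrpd_of_fullyFaithful hX (AlgSt.subIncl 𝒳 Q) fun η' x l =>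
    ⟨⟨η', hpull l x.property⟩, Iso.refl _, isVert_id _⟩

/-- An open condition on objects which is stable under pullback cuts out an open substack. -/
theorem isOpenSubstack_of_open (hX : AlgSt.IsAlgStack Scheme.fppfPrecoverage 𝒳) (Q : 𝒳.obj → Prop)
    (hpull : ∀ ⦃η' η : 𝒳.obj⦄ (_ : η' ⟶ η), Q η → Q η')
    (hopen : ∀ (U : Over S) (y : FibCat.overCat U ⥤ᵇ 𝒳), ∃ V : U.left.Opens,
      ∀ g : Over U, Q (y.obj g) ↔ ∃ g' : g.left.left ⟶ ↑V, g' ≫ V.ι = g.hom.left) :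
    AlgSt.IsOpenSubstack 𝒳 Q Scheme.fppfPrecoverage := by
  have hi := isOpenImm_subIncl Q hpull hopen
  exact ⟨⟨fun e h => hpull e.inv h⟩,
    isAlgStack_of_repByAlgSp1 (isFibGrpd_fullSub hX.isStack.1 Q hpull) hX (AlgSt.subIncl 𝒳 Q)
      (repWith_repByAlgSp1 hi), hi⟩

end Groth.Misc10.IsoNat
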