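import Groth.Agent.Misc10.IsoNat.CleanCore
import Groth.Agent.Misc10.IsoNat.OpenSub
import Groth.Agent.Misc10.IsoNat.ChartPts
import Groth.Agent.Misc10.IsoNat.Lifting
import Groth.Agent.CategoryFibred.Functors

/-!
# The clean locus of a stack with proper inertia
-/

set_option autoImplicit false
set_option backward.isDefEq.respectTransparency false
set_option backward.isDefEq.respectTransparency.types false

universe u

open CategoryTheory CategoryTheory.Limits AlgebraicGeometry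
open Groth.StkBase Groth.AlgStBasic Groth.AlgSpBasic

noncomputable section

namespace Groth.Misc10.IsoNat

variable {S : Scheme.{u}} {𝒳 : AlgSt.Cat S}

theorem isClean_of_hom ⦃η' η : 𝒳.obj⦄ (a : η' ⟶ η) (h : IsoNat.IsClean η) : IsoNat.IsClean η' :=
  fun x m s hs => h x (m ≫ a) s hs

/-- An object over a chart is clean exactly when the inertia over it is trivial. -/
theorem isClean_iff_trivOn (hX : FibCat.IsFibGrpd 𝒳.p) {U : Over S} (y : FibCat.overCat U ⥤ᵇ 𝒳)
    {F : AlgSp.Sp S} (e : AlgSt.ofSp F ⥤ᵇ FibCat.fp y (FibCat.inertiaToBase (FibCat.toSelf 𝒳)))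
    (he : FibCat.IsEquivOver e) :
    ∃ ε : (AlgSp.yon S).obj U ⟶ F,
      ε ≫ AlgSt.spMapOfOver (BasedFunctor.comp e
        (FibCat.fpFst y (FibCat.inertiaToBase (FibCat.toSelf 𝒳)))) = 𝟙 _ ∧
      ∀ {T : Over S} (g : T ⟶ U), IsoNat.IsClean (y.obj (Over.mk g)) ↔
        CleanCore.TrivOn (AlgSt.spMapOfOver (BasedFunctor.comp e
          (FibCat.fpFst y (FibCat.inertiaToBase (FibCat.toSelf 𝒳))))) ε g := by
  let ι := FibCat.inertiaToBase (FibCat.toSelf 𝒳)
  have hI : FibCat.IsFibGrpd (FibCat.inertia (FibCat.toSelf 𝒳)).p :=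
    Groth.CatFib.isFibGrpd_inertia _ hX isFibGrpd_selfOver
  have hF := isFibGrpd_fp (F := y) (G := ι) (isFibGrpd_overCat U) hI hX
  let n : FibCat.overCat U ⥤ᵇ FibCat.fp y ι :=
    FibCat.fpLift (BasedFunctor.id _) (BasedFunctor.comp y (FibCat.inertiaNeutral (FibCat.toSelf 𝒳)))
      (Iso.refl y)
  obtain ⟨ε, hε⟩ := (secCls_bijective e hF he U).2 (IsoNat.objCls n)
  have hn : ∀ {T : Over S} (c : T ⟶ U),
      secCls e ((AlgSp.yon S).map c ≫ ε) = IsoNat.cls (chartObj n c) := fun c => by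
    rw [← pullCls_secCls e hF, hε, cls_chartObj hF]
  have hb : clsBase (secCls e ε) = 𝟙 U := by
    rw [hε]
    exact Category.id_comp _
  refine ⟨ε, (secCls_clsBase e ε).trans (by rw [hb, CategoryTheory.Functor.map_id]), fun {T} g => ?_⟩
  constructor
  · intro h T' t s hs
    apply (secCls_bijective e hF he T').1
    rw [hn]
    obtain ⟨σo, a, hz⟩ := exists_mkPt hX hI (secCls e s)
    rw [← hz]
    have hc : clsBase (secCls e s) = t ≫ g :=
      (AlgSp.yon S).map_injective ((secCls_clsBase e s).symm.trans hs)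
    revert a hz
    rw [hc]
    intro a hz
    have ha : σo.1.aut.hom = 𝟙 σo.1.pt :=
      h σo.1.pt (a.inv.1 ≫ y.map (Over.homMk t rfl : Over.mk (t ≫ g) ⟶ Over.mk g)) σo.1.aut.hom
        σo.1.map_aut
    let i : (chartObj n (t ≫ g)).1.obj.snd ≅ σo.1 :=
      { hom := ⟨a.hom.1, by
          show 𝟙 _ ≫ a.hom.1 = a.hom.1 ≫ σo.1.aut.hom
          rw [ha, Category.id_comp]
          exact (Category.comp_id _).symm⟩
        inv := ⟨a.inv.1, by
          show σo.1.aut.hom ≫ a.inv.1 = a.inv.1 ≫ 𝟙 _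
          rw [ha, Category.comp_id]
          exact Category.id_comp _⟩
        hom_inv_id := FibCat.InertiaObj.hom_ext (congrArg Subtype.val a.hom_inv_id)
        inv_hom_id := FibCat.InertiaObj.hom_ext (congrArg Subtype.val a.inv_hom_id) }
    refine (cls_eq_iff.2 ⟨fiberIso hF ⟨(fpObjIso (F := y) (G := ι)
      (x := (chartObj n (t ≫ g)).1)
      (y := fpMk (F := y) (G := ι) (Over.mk (t ≫ g)) σo.1 (Functor.Fiber.fiberInclusion.mapIso a)
        (isVert_of_isHomLift a.hom.2))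
      (Iso.refl _) i ?_).hom, ?_⟩⟩).symm
    · show y.map (𝟙 _) ≫ a.hom.1 = 𝟙 _ ≫ a.hom.1
      rw [y.toFunctor.map_id]
      rfl
    · exact IsVert.isHomLift (((isVert_fp_iff _).2 (isVert_id _))) rfl
  · intro h x m s hs
    let T' : Over S := 𝒳.p.obj x
    let t : T' ⟶ T := 𝒳.p.map m ≫ eqToHom (y.w_obj (Over.mk g))
    have hm : 𝒳.p.IsHomLift t m :=
      IsHomLift.of_fac' 𝒳.p t m rfl (y.w_obj (Over.mk g)) (by simp [t])
    have hsv : IsVert 𝒳.p s := ⟨rfl, by simpa using hs⟩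
    have := hsv.isIso hX
    let x' : 𝒳.p.Fiber T' := ⟨x, rfl⟩
    obtain ⟨i, -⟩ := iso_of_lifts hX (y := x') (x := chartObj y g) ⟨m, hm⟩ (chartTo y t g (t ≫ g) rfl)
    let w : (FibCat.inertia (FibCat.toSelf 𝒳)).p.Fiber T' := ⟨⟨x, asIso s, hs⟩, rfl⟩
    let a : chartObj y (t ≫ g) ≅ (IsoNat.fibFun ι T').obj w := i.symm
    obtain ⟨r, hr⟩ := (secCls_bijective e hF he T').2 (mkPt (t ≫ g) w a)
    have e₁ := h T' t r ((secCls_clsBase e r).trans (by rw [hr, clsBase_mkPt]))
    rw [e₁, hn] at hr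
    obtain ⟨j⟩ := cls_eq_iff.1 hr
    have hj : (𝟙 _ : y.obj (Over.mk (t ≫ g)) ⟶ _) ≫ j.hom.1.hom.snd.hom = j.hom.1.hom.snd.hom ≫ s :=
      j.hom.1.hom.snd.comm
    have hv : IsVert (FibCat.fp y ι).p j.hom.1 := isVert_of_isHomLift j.hom.2
    have : IsIso j.hom.1 := hv.isIso hF
    have : IsIso j.hom.1.hom.snd := by
      show IsIso ((FibCat.fpSnd y ι).map j.hom.1)
      infer_instance
    have : IsIso j.hom.1.hom.snd.hom := by
      show IsIso (FibCat.InertiaObj.forget.map j.hom.1.hom.snd)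
      infer_instance
    rw [← cancel_epi j.hom.1.hom.snd.hom, ← hj]
    exact (Category.id_comp _).trans (Category.comp_id _).symm

/-- The clean locus of a stack with proper inertia, on a chart. -/
theorem exists_cleanOpen (hX : FibCat.IsFibGrpd 𝒳.p)
    (hlfp : AlgSt.RepByAlgSpWith (AlgSp.LocP @LocallyOfFinitePresentation)
      (FibCat.inertiaToBase (FibCat.toSelf 𝒳)))
    (hpr : AlgSt.RepByAlgSpWith AlgSp.IsProperMor (FibCat.inertiaToBase (FibCat.toSelf 𝒳)))
    (U : Over S) (y : FibCat.overCat U ⥤ᵇ 𝒳) :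
    ∃ V : U.left.Opens,
      (∀ g : Over U, IsoNat.IsClean (y.obj g) ↔ ∃ g' : g.left.left ⟶ ↑V, g' ≫ V.ι = g.hom.left) ∧
        (IsAffine U.left → IsCompact (V : Set U.left)) := by
  obtain ⟨F, e, he, hsep, hft, hucl⟩ := hpr U y
  obtain ⟨ε, hε, hclean⟩ := isClean_iff_trivOn hX y e he
  let q := AlgSt.spMapOfOver (BasedFunctor.comp e
    (FibCat.fpFst y (FibCat.inertiaToBase (FibCat.toSelf 𝒳))))
  have hq : AlgSp.LocP @LocallyOfFinitePresentation q :=
    prop_of_repWith_fp stableBaseChange_locP hlfp y F e he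
  have hcl : IsClosedMap (AlgSp.Points.map q) :=
    hucl (AlgSp.IsAlgSpace.yon_obj U) (𝟙 _) (𝟙 _) q (IsPullback.of_horiz_isIso ⟨by simp [q]⟩)
  obtain ⟨P, r, hr, hrs⟩ := F.property.atlas
  obtain ⟨C, rfl⟩ := CleanCore.exists_chart q ε hε hsep hq r hr hrs
  let V : U.left.Opens := ⟨(CleanCore.Bad C)ᶜ, (CleanCore.isClosed_Bad C hε hcl).isOpen_compl⟩
  refine ⟨V, fun g => ?_, fun hU => ?_⟩
  · obtain ⟨T, o, g⟩ := g
    refine ((hclean g).trans (CleanCore.trivOn_iff C hε g)).trans ⟨fun h => ?_, ?_⟩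
    · exact ⟨IsOpenImmersion.lift V.ι g.left (by
        rw [Scheme.Opens.range_ι]
        rintro _ ⟨t, rfl⟩
        exact h t), IsOpenImmersion.lift_fac ..⟩
    · rintro ⟨g', hg'⟩ t
      show g.left t ∈ V
      rw [← hg']
      exact (g' t).2
  · have : CompactSpace U.left := inferInstance
    have hF : AlgSp.IsQuasiCompactSp F.obj :=
      hft.2 (AlgSp.IsAlgSpace.yon_obj U) ((isQuasiCompactSp_yon_iff U).2 inferInstance) (𝟙 _) (𝟙 _) q
        (IsPullback.of_horiz_isIso ⟨by simp [q]⟩)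
    obtain ⟨P', r', hP', hr', hrs'⟩ := exists_affine_chart F.property hF
    obtain ⟨C', hC'⟩ := CleanCore.exists_chart q ε hε hsep hq r' hr' hrs'
    subst hC'
    have h := CleanCore.isCompact_compl_Bad C' hε hcl
    convert h using 1
    ext u
    let T : Over S := Over.mk (U.left.fromSpecResidueField u ≫ U.hom)
    let g : T ⟶ U := Over.homMk (U.left.fromSpecResidueField u) rfl
    have hmem : ∀ t : T.left, g.left t = u := Scheme.fromSpecResidueField_apply u
    have t₀ : T.left := IsLocalRing.closedPoint _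
    show u ∉ CleanCore.Bad C ↔ u ∉ CleanCore.Bad C'
    constructor
    · intro hu
      rw [← hmem t₀]
      exact CleanCore.forall_of_trivOn C' hε g
        (CleanCore.trivOn_of_forall C hε g fun t => by rw [hmem]; exact hu) t₀
    · intro hu
      rw [← hmem t₀]
      exact CleanCore.forall_of_trivOn C hε g
        (CleanCore.trivOn_of_forall C' hε g fun t => by rw [hmem]; exact hu) t₀

theorem quasiCompact_cleanOpen_ι (hX : FibCat.IsFibGrpd 𝒳.p)
    (hlfp : AlgSt.RepByAlgSpWith (AlgSp.LocP @LocallyOfFinitePresentation)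
      (FibCat.inertiaToBase (FibCat.toSelf 𝒳)))
    (hpr : AlgSt.RepByAlgSpWith AlgSp.IsProperMor (FibCat.inertiaToBase (FibCat.toSelf 𝒳)))
    (U : Over S) (y : FibCat.overCat U ⥤ᵇ 𝒳) (V : U.left.Opens)
    (hV : ∀ g : Over U, IsoNat.IsClean (y.obj g) ↔ ∃ g' : g.left.left ⟶ ↑V, g' ≫ V.ι = g.hom.left) :
    QuasiCompact V.ι := by
  rw [quasiCompact_iff_forall_isAffineOpen]
  intro K hK
  let UK : Over S := Over.mk (K.ι ≫ U.hom)
  let jK : UK ⟶ U := Over.homMk K.ι rfl
  obtain ⟨VK, hVK, hcK⟩ := exists_cleanOpen hX hlfp hpr UK (BasedFunctor.comp (AlgSt.overMap jK) y)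
  have hc := hcK (show IsAffine K.toScheme from hK)
  have e : (VK : Set UK.left) = K.ι ⁻¹' (V : Set U.left) := by
    ext k
    let T : Over S := Over.mk (UK.left.fromSpecResidueField k ≫ UK.hom)
    let g : T ⟶ UK := Over.homMk (UK.left.fromSpecResidueField k) rfl
    have hmem : ∀ t : T.left, g.left t = k := Scheme.fromSpecResidueField_apply k
    have t₀ : T.left := IsLocalRing.closedPoint _
    constructor
    · intro hk
      obtain ⟨g', hg'⟩ := (hV ((Over.map jK).obj (Over.mk g))).1 ((hVK (Over.mk g)).2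
        ⟨IsOpenImmersion.lift VK.ι g.left (by
          rw [Scheme.Opens.range_ι]; rintro _ ⟨t, rfl⟩
          exact (congrArg (· ∈ (VK : Set UK.left)) (hmem t)).mpr hk),
          IsOpenImmersion.lift_fac ..⟩)
      show K.ι k ∈ V
      refine (congrArg (fun a => K.ι a ∈ (V : Set U.left)) (hmem t₀)).mp ?_
      refine (congrArg (· ∈ (V : Set U.left)) (congrArg (fun f : T.left ⟶ U.left => f t₀) hg')).mp ?_
      exact (g' t₀).2
    · intro hk
      obtain ⟨g', hg'⟩ := (hVK (Over.mk g)).1 ((hV ((Over.map jK).obj (Over.mk g))).2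
        ⟨IsOpenImmersion.lift V.ι (g.left ≫ K.ι) (by
          rw [Scheme.Opens.range_ι]; rintro _ ⟨t, rfl⟩
          show K.ι (g.left t) ∈ V
          exact (congrArg (fun a => K.ι a ∈ (V : Set U.left)) (hmem t)).mpr hk), IsOpenImmersion.lift_fac ..⟩)
      show k ∈ VK
      refine (congrArg (· ∈ (VK : Set UK.left)) (hmem t₀)).mp ?_
      refine (congrArg (· ∈ (VK : Set UK.left)) (congrArg (fun f : T.left ⟶ UK.left => f t₀) hg')).mp ?_
      exact (g' t₀).2
  rw [e] at hc
  have h₁ : IsCompact ((V : Set U.left) ∩ K) := by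
    have := hc.image K.ι.continuous
    rwa [Set.image_preimage_eq_inter_range, Scheme.Opens.range_ι] at this
  have := h₁
  rw [← Scheme.Opens.range_ι V] at h₁
  rw [V.ι.isOpenEmbedding.isInducing.isCompact_iff]
  convert h₁ using 1
  show V.ι '' (V.ι ⁻¹' (K : Set U.left)) = _
  rw [Set.image_preimage_eq_inter_range, Set.inter_comm]

end Groth.Misc10.IsoNat
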