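import Groth.Agent.AlgSpBasic.Compact
import Groth.Agent.AlgSpBasic.LocPInst
import Groth.Agent.AlgSpBasic.QComp
import Groth.Agent.AlgSp2.InfGlue
import Groth.Agent.S9697
import Groth.Agent.S2575
import Groth.Agent.S8344
import Mathlib.AlgebraicGeometry.Morphisms.FlatMono
import Mathlib.AlgebraicGeometry.Morphisms.Etale

/-!
# The locus where a proper algebraic space with a section is trivial

For `q : G ⟶ h_U` proper, locally of finite presentation, with a section `ε`, the locus over which
`ε` is the only local section is open, and compact when `U` is affine.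
-/

set_option autoImplicit false
set_option backward.isDefEq.respectTransparency false
set_option backward.isDefEq.respectTransparency.types false

universe u

open CategoryTheory CategoryTheory.Limits AlgebraicGeometry Opposite AlgSp
open Groth.AlgSpBasic

noncomputable section

namespace Groth.Misc10.IsoNat.CleanCore

variable {S : Scheme.{u}} {U : Over S} {G : Sp S}

/-- The base change to `T` has no sections other than the given one. -/
def TrivOn (q : G ⟶ (yon S).obj U) (ε : (yon S).obj U ⟶ G) {T : Over S} (g : T ⟶ U) : Prop :=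
  ∀ (T' : Over S) (t : T' ⟶ T) (s : (yon S).obj T' ⟶ G),
    s ≫ q = (yon S).map (t ≫ g) → s = (yon S).map (t ≫ g) ≫ ε

/-- The part of a scheme where a morphism is formally unramified. -/
def unramOpen {X Y : Scheme.{u}} (f : X ⟶ Y) : X.Opens :=
  ⟨{x | ∃ V : X.Opens, x ∈ V ∧ FormallyUnramified (V.ι ≫ f)}, by
    rw [isOpen_iff_forall_mem_open]
    rintro x ⟨V, hx, hV⟩
    exact ⟨V, fun y hy => ⟨V, hy, hV⟩, V.isOpen, hx⟩⟩

theorem formallyUnramified_unramOpen {X Y : Scheme.{u}} (f : X ⟶ Y) :
    FormallyUnramified ((unramOpen f).ι ≫ f) := by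
  have key : ∀ x : (unramOpen f).toScheme, ∃ V : (unramOpen f).toScheme.Opens, x ∈ V ∧
      FormallyUnramified (V.ι ≫ (unramOpen f).ι ≫ f) := by
    intro x
    obtain ⟨V, hx, hV⟩ := x.2
    let V' : (unramOpen f).toScheme.Opens := (unramOpen f).ι ⁻¹ᵁ V
    refine ⟨V', hx, ?_⟩
    let j : V'.toScheme ⟶ V.toScheme := IsOpenImmersion.lift V.ι (V'.ι ≫ (unramOpen f).ι) (by
      rintro _ ⟨y, rfl⟩
      rw [Scheme.Opens.range_ι]
      exact y.2)
    have hj : j ≫ V.ι = V'.ι ≫ (unramOpen f).ι := IsOpenImmersion.lift_fac ..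
    have : IsOpenImmersion (j ≫ V.ι) := by rw [hj]; infer_instance
    have : IsOpenImmersion j := IsOpenImmersion.of_comp j V.ι
    rw [← Category.assoc, ← hj, Category.assoc]
    exact MorphismProperty.comp_mem @FormallyUnramified j _ inferInstance hV
  choose V hxV hV using key
  refine IsZariskiLocalAtSource.of_iSup_eq_top (P := @FormallyUnramified) V ?_ hV
  rw [eq_top_iff]
  exact fun x _ => TopologicalSpace.Opens.mem_iSup.2 ⟨x, hxV x⟩

variable (q : G ⟶ (yon S).obj U) (ε : (yon S).obj U ⟶ G)

/-- A chart of `G` with the base change of the section. -/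
structure Chart where
  /-- the source -/
  P : Over S
  /-- the chart -/
  r : (yon S).obj P ⟶ G
  etale : RepWith @Etale r
  surj : RepWith @Surjective r
  /-- its map to the base -/
  π : P ⟶ U
  map_π : (yon S).map π = r ≫ q
  lfp : LocallyOfFinitePresentation π.left
  /-- the base change of the section -/
  E : Over S
  /-- its inclusion -/
  e : E ⟶ P
  /-- its map to the base -/
  s : E ⟶ U
  sq : IsPullback ((yon S).map e) ((yon S).map s) r ε
  closed : IsClosedImmersion e.left
  s_etale : Etale s.left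

theorem exists_chart (hε : ε ≫ q = 𝟙 _) (hsep : IsSeparatedMor q)
    (hlfp : LocP @LocallyOfFinitePresentation q) {P : Over S} (r : (yon S).obj P ⟶ G)
    (hr : RepWith @Etale r) (hrs : RepWith @Surjective r) :
    ∃ C : Chart q ε, C.P = P := by
  obtain ⟨π, hπ⟩ := (yon S).map_surjective (r ≫ q)
  obtain ⟨E, e, s, sq⟩ := exists_pullback_yon hr.rep ε
  have hs : Etale s.left := hr.property ε _ s sq
  let θ : (yon S).obj P ⟶ pullback q q := pullback.lift r ((r ≫ q) ≫ ε) (by
    rw [Category.assoc, Category.assoc, hε, Category.comp_id])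
  have hd : RepWith @IsClosedImmersion (pullback.diagonal q) := hsep
  obtain ⟨W, b, a, sqd⟩ := hd.rep θ
  have hb : IsClosedImmersion b.left := hd.property θ a b sqd
  have ha₁ : a = (yon S).map b ≫ r := by
    have := sqd.w =≫ pullback.fst q q
    simpa [θ] using this
  have ha₂ : a = (yon S).map b ≫ (r ≫ q) ≫ ε := by
    have := sqd.w =≫ pullback.snd q q
    simpa [θ] using this
  have hse : s = e ≫ π := (yon S).map_injective (by
    have := sq.w =≫ q
    rw [Category.assoc, Category.assoc, hε, Category.comp_id] at this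
    rw [Functor.map_comp, hπ, this])
  obtain ⟨i, hi⟩ := (yon S).map_surjective (sqd.lift ((yon S).map e ≫ r) ((yon S).map e) (by
    apply pullback.hom_ext
    · simp [θ]
    · simp only [θ, Category.assoc, pullback.diagonal_snd, Category.comp_id, pullback.lift_snd]
      rw [← Category.assoc r q ε, ← hπ, ← Functor.map_comp_assoc, ← hse, sq.w]))
  obtain ⟨j, hj⟩ := (yon S).map_surjective (sq.lift ((yon S).map b) ((yon S).map b ≫ r ≫ q) (by
    rw [← ha₁, ha₂]; simp only [Category.assoc]))
  have hib : i ≫ b = e := (yon S).map_injective (by rw [Functor.map_comp, hi, sqd.lift_snd])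
  have hje : j ≫ e = b := (yon S).map_injective (by rw [Functor.map_comp, hj, sq.lift_fst])
  have : Mono b := by
    have : Mono ((Over.forget S).map b) := inferInstanceAs (Mono b.left)
    exact (Over.forget S).mono_of_mono_map this
  have hij : i ≫ j = 𝟙 E := by
    apply (yon S).map_injective
    apply sq.hom_ext
    · rw [← Functor.map_comp, ← Functor.map_comp, Category.assoc, hje, hib, Category.id_comp]
    · rw [← Functor.map_comp, ← Functor.map_comp, Category.id_comp, hse, Category.assoc,
        reassoc_of% hje, reassoc_of% hib]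
  have hji : j ≫ i = 𝟙 W := by
    rw [← cancel_mono b, Category.assoc, hib, hje, Category.id_comp]
  have : IsIso i := ⟨j, hij, hji⟩
  have : IsIso i.left := inferInstanceAs (IsIso ((Over.forget S).map i))
  exact ⟨{ P := P, r := r, etale := hr, surj := hrs, π := π, map_π := hπ
           lfp := hlfp r (𝟙 _) π hr (repWith_id @Etale U) (by rw [Category.comp_id, hπ])
           E := E, e := e, s := s, sq := sq
           closed := by
             rw [← hib]
             show IsClosedImmersion (i.left ≫ b.left)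
             infer_instance
           s_etale := hs }, rfl⟩

variable {q ε} (C : Chart q ε) (hε : ε ≫ q = 𝟙 _)

/-- The unramified part of the chart. -/
def P₀ : C.P.left.Opens := unramOpen C.π.left

include hε in
theorem s_eq : C.s = C.e ≫ C.π := (yon S).map_injective (by
  have := C.sq.w =≫ q
  rw [Category.assoc, Category.assoc, hε, Category.comp_id] at this
  rw [Functor.map_comp, C.map_π, this])

include hε in
theorem isOpenImmersion_e₀ : IsOpenImmersion ((C.e.left ⁻¹ᵁ P₀ C).ι ≫ C.e.left) := by
  have := C.closed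
  have := C.s_etale
  have := C.lfp
  let f := C.e.left ∣_ P₀ C
  have hf : f ≫ (P₀ C).ι = (C.e.left ⁻¹ᵁ P₀ C).ι ≫ C.e.left := morphismRestrict_ι ..
  have : FormallyUnramified ((P₀ C).ι ≫ C.π.left) := formallyUnramified_unramOpen _
  have : Etale (f ≫ (P₀ C).ι ≫ C.π.left) := by
    rw [reassoc_of% hf, ← Over.comp_left, ← s_eq C hε]
    infer_instance
  have : Etale f := Etale.of_comp f ((P₀ C).ι ≫ C.π.left)
  have : IsClosedImmersion f := inferInstanceAs (IsClosedImmersion (C.e.left ∣_ P₀ C))
  have : IsOpenImmersion f := IsOpenImmersion.of_flat_of_mono f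
  rw [← hf]
  infer_instance

/-- The points of the chart near which the section is everything. -/
def W : Set C.P.left := Set.range ((C.e.left ⁻¹ᵁ P₀ C).ι ≫ C.e.left)

theorem mem_W_iff (p : C.P.left) : p ∈ W C ↔ p ∈ Set.range C.e.left ∧ p ∈ P₀ C := by
  constructor
  · rintro ⟨x, rfl⟩
    exact ⟨⟨_, rfl⟩, x.2⟩
  · rintro ⟨⟨x, rfl⟩, hp⟩
    exact ⟨⟨x, hp⟩, rfl⟩

include hε in
theorem isOpen_W : IsOpen (W C) := by
  have := isOpenImmersion_e₀ C hε
  exact ((C.e.left ⁻¹ᵁ P₀ C).ι ≫ C.e.left).opensRange.isOpen

/-- `W` is saturated. -/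
theorem mem_W_of_eq {p p' : C.P.left} (h : Points.ofPt C.r p = Points.ofPt C.r p') (hp : p ∈ W C) :
    p' ∈ W C := by
  rw [mem_W_iff] at hp ⊢
  obtain ⟨⟨x, rfl⟩, hp⟩ := hp
  constructor
  · have : Points.map C.r (Points.ofScheme C.P p') = Points.ofPt ε (C.s.left x) := by
      rw [← ofPt_eq_map, ← h, ← ofPt_comp_yon C.e C.r x, C.sq.w, ofPt_comp_yon]
    obtain ⟨v, hv, -⟩ := (map_eq_ofPt_iff C.sq _ _).1 this
    refine ⟨v, (Points.schemeHomeo C.P).injective ?_⟩
    rw [← Points.map_yon_map_apply]
    exact (ofPt_eq_map _ v).symm.trans hv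
  · have := C.lfp
    obtain ⟨R, p₁, p₂, sq⟩ := exists_pullback_yon C.etale.rep C.r
    obtain ⟨z, hz₁, hz₂⟩ := (ofPt_eq_ofPt_iff sq _ _).1 h
    have hp₁ : Etale p₁.left := C.etale.property C.r _ p₁ sq.flip
    have hp₂ : Etale p₂.left := C.etale.property C.r _ p₂ sq
    have hππ : p₁ ≫ C.π = p₂ ≫ C.π := (yon S).map_injective (by
      rw [Functor.map_comp, Functor.map_comp, C.map_π, ← Category.assoc, ← Category.assoc, sq.w])
    let O : R.left.Opens := p₁.left ⁻¹ᵁ P₀ C
    let g : O.toScheme ⟶ C.P.left := O.ι ≫ p₂.left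
    have hV : IsOpen (Set.range g) := g.isOpenMap.isOpen_range
    let V : C.P.left.Opens := ⟨_, hV⟩
    refine ⟨V, ⟨⟨z, by
      show p₁.left z ∈ P₀ C
      rw [hz₁]; exact hp⟩, hz₂⟩, ?_⟩
    let g' : O.toScheme ⟶ V.toScheme := IsOpenImmersion.lift V.ι g (by rw [Scheme.Opens.range_ι]; rfl)
    have hg' : g' ≫ V.ι = g := IsOpenImmersion.lift_fac ..
    have : Etale (g' ≫ V.ι) := by rw [hg']; infer_instance
    have : Etale g' := Etale.of_comp g' V.ι
    have : Surjective g' := ⟨fun y => by
      obtain ⟨w, hw⟩ : V.ι y ∈ Set.range g := y.2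
      refine ⟨w, V.ι.injective ?_⟩
      rw [← Scheme.Hom.comp_apply, hg', hw]⟩
    have hu : FormallyUnramified ((P₀ C).ι ≫ C.π.left) := formallyUnramified_unramOpen _
    have hlu : ((@LocallyOfFiniteType : MorphismProperty Scheme.{u}) ⊓ @FormallyUnramified)
        (g' ≫ V.ι ≫ C.π.left) := by
      have e : g' ≫ V.ι ≫ C.π.left = (p₁.left ∣_ P₀ C) ≫ (P₀ C).ι ≫ C.π.left := by
        rw [reassoc_of% hg', morphismRestrict_ι_assoc]
        show (O.ι ≫ p₂.left) ≫ C.π.left = O.ι ≫ p₁.left ≫ C.π.left
        rw [Category.assoc, ← Over.comp_left, ← Over.comp_left, hππ]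
      rw [e]
      exact ⟨inferInstance, MorphismProperty.comp_mem @FormallyUnramified _ _ inferInstance hu⟩
    exact (EtaleLocal.of_comp_surjective (P := (@LocallyOfFiniteType : MorphismProperty Scheme.{u}) ⊓
      @FormallyUnramified) g' (V.ι ≫ C.π.left) inferInstance inferInstance hlu).2

/-- The bad points of the base. -/
def Bad : Set U.left :=
  Points.schemeHomeo U ⁻¹' (Points.map q '' (Points.ofPt C.r '' W C)ᶜ)

include hε in
theorem isClosed_Bad (hcl : IsClosedMap (Points.map q)) : IsClosed (Bad C) :=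
  (hcl _ ((isOpenMap_ofPt_of_etale C.etale _ (isOpen_W C hε)).isClosed_compl)).preimage
    (Points.schemeHomeo U).continuous

theorem mem_Bad_iff (u : U.left) : u ∈ Bad C ↔ ∃ p : C.P.left, C.π.left p = u ∧ p ∉ W C := by
  have hq : ∀ p, Points.map q (Points.ofPt C.r p) = Points.schemeHomeo U (C.π.left p) := fun p => by
    rw [Points.map_ofPt, ← C.map_π, ofPt_eq_map]
    exact Points.map_yon_map_apply C.π p
  constructor
  · rintro ⟨z, hz, e⟩
    obtain ⟨p, rfl⟩ := surjective_ofPt_of_repWith C.surj z
    exact ⟨p, (Points.schemeHomeo U).injective ((hq p).symm.trans e), fun hp => hz ⟨p, hp, rfl⟩⟩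
  · rintro ⟨p, rfl, hp⟩
    refine ⟨_, ?_, hq p⟩
    rintro ⟨p', hp', e⟩
    exact hp (mem_W_of_eq C e hp')

include hε in
theorem trivOn_of_forall {T : Over S} (g : T ⟶ U) (h : ∀ t, g.left t ∉ Bad C) : TrivOn q ε g := by
  intro T' t s hs
  obtain ⟨T'', k, c, sq⟩ := exists_pullback_yon C.etale.rep s
  have hc : Etale c.left := C.etale.property s _ c sq
  have : Surjective c.left := C.surj.property s _ c sq
  have hkπ : k ≫ C.π = c ≫ t ≫ g := (yon S).map_injective (by
    rw [Functor.map_comp, C.map_π, ← Category.assoc, sq.w, Category.assoc, hs, ← Functor.map_comp])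
  have hW : ∀ x, k.left x ∈ W C := fun x => by
    by_contra hx
    refine h (t.left (c.left x)) ((mem_Bad_iff C _).2 ⟨k.left x, ?_, hx⟩)
    rw [← Scheme.Hom.comp_apply, ← Over.comp_left, hkπ]
    rfl
  have := isOpenImmersion_e₀ C hε
  let l := IsOpenImmersion.lift ((C.e.left ⁻¹ᵁ P₀ C).ι ≫ C.e.left) k.left (by
    rintro _ ⟨x, rfl⟩; exact hW x)
  have hl : l ≫ (C.e.left ⁻¹ᵁ P₀ C).ι ≫ C.e.left = k.left := IsOpenImmersion.lift_fac ..
  let l' : T'' ⟶ C.E := Over.homMk (l ≫ (C.e.left ⁻¹ᵁ P₀ C).ι) (by
    rw [← Over.w C.e, Category.assoc, reassoc_of% hl]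
    exact Over.w k)
  have hl' : l' ≫ C.e = k := Over.OverMorphism.ext ((Category.assoc _ _ _).trans hl)
  refine Groth.AlgSp2.hom_ext_of_etale ((yon S).map c) ((repWith_yon_map_iff _ c).2 hc)
    ((repWith_yon_map_iff _ c).2 ‹_›) ?_
  rw [← sq.w, ← hl', Functor.map_comp, Category.assoc, C.sq.w, ← Functor.map_comp_assoc,
    ← Functor.map_comp_assoc, s_eq C hε, ← Category.assoc l', hl', hkπ]

include hε in
/-- Over a test scheme with no other sections the chart is the base change of the section. -/
theorem exists_fibre_iso {T : Over S} (g : T ⟶ U) (h : TrivOn q ε g) :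
    ∃ l : pullback C.π.left g.left ⟶ pullback C.s.left g.left,
      l ≫ pullback.map C.s.left g.left C.π.left g.left C.e.left (𝟙 _) (𝟙 _)
        (by rw [Category.comp_id, ← Over.comp_left, s_eq C hε]) (by simp) = 𝟙 _ ∧
      pullback.map C.s.left g.left C.π.left g.left C.e.left (𝟙 _) (𝟙 _)
        (by rw [Category.comp_id, ← Over.comp_left, s_eq C hε]) (by simp) ≫ l = 𝟙 _ := by
  let Q : Over S := Over.mk (pullback.fst C.π.left g.left ≫ C.P.hom)
  let a : Q ⟶ C.P := Over.homMk (pullback.fst C.π.left g.left) rfl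
  let b : Q ⟶ T := Over.homMk (pullback.snd C.π.left g.left) (by
    show _ ≫ T.hom = _ ≫ C.P.hom
    rw [← Over.w g, ← Over.w C.π, ← Category.assoc, ← pullback.condition, Category.assoc])
  have hab : a ≫ C.π = b ≫ g := Over.OverMorphism.ext pullback.condition
  obtain ⟨k, hk⟩ := (yon S).map_surjective (C.sq.lift ((yon S).map a) ((yon S).map (b ≫ g))
    (h Q b ((yon S).map a ≫ C.r) (by rw [Category.assoc, ← C.map_π, ← Functor.map_comp, hab])))
  have hka : k ≫ C.e = a := (yon S).map_injective (by rw [Functor.map_comp, hk, C.sq.lift_fst])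
  have hks : k ≫ C.s = b ≫ g := (yon S).map_injective (by rw [Functor.map_comp, hk, C.sq.lift_snd])
  have := C.closed
  refine ⟨pullback.lift k.left (pullback.snd _ _) (congrArg CommaMorphism.left hks), ?_, ?_⟩
  · apply pullback.hom_ext <;> simp
    exact congrArg CommaMorphism.left hka
  · apply pullback.hom_ext
    · rw [← cancel_mono C.e.left]
      simp only [Category.assoc, pullback.lift_fst, Category.id_comp]
      rw [show k.left ≫ C.e.left = _ from congrArg CommaMorphism.left hka]
      exact pullback.lift_fst _ _ _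
    · simp

include hε in
theorem forall_of_fibre_iso {T : Over S} (g : T ⟶ U)
    (h : ∃ l : pullback C.π.left g.left ⟶ pullback C.s.left g.left,
      l ≫ pullback.map C.s.left g.left C.π.left g.left C.e.left (𝟙 _) (𝟙 _)
        (by rw [Category.comp_id, ← Over.comp_left, s_eq C hε]) (by simp) = 𝟙 _ ∧
      pullback.map C.s.left g.left C.π.left g.left C.e.left (𝟙 _) (𝟙 _)
        (by rw [Category.comp_id, ← Over.comp_left, s_eq C hε]) (by simp) ≫ l = 𝟙 _) (t : T.left) :
    g.left t ∉ Bad C := by
  rw [mem_Bad_iff]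
  rintro ⟨p, hp, hW⟩
  obtain ⟨l, hl₁, hl₂⟩ := h
  obtain ⟨z, hz, -⟩ := Scheme.Pullback.exists_preimage_pullback (f := C.π.left) (g := g.left) p t hp
  have := C.lfp
  refine hW ((mem_W_iff C p).2 ⟨⟨pullback.fst C.s.left g.left (l z), ?_⟩, ?_⟩)
  · have hl : l ≫ pullback.fst C.s.left g.left ≫ C.e.left = pullback.fst C.π.left g.left := by
      have := congrArg (· ≫ pullback.fst C.π.left g.left) hl₁
      simpa using this
    rw [← hz, ← hl]
    rfl
  · have := C.s_etale
    have hu : FormallyUnramified (pullback.snd C.π.left g.left) := by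
      have e : pullback.snd C.π.left g.left = l ≫ pullback.snd C.s.left g.left := by
        have := congrArg (· ≫ pullback.snd C.π.left g.left) hl₁
        simpa using this.symm
      have : IsIso l := ⟨_, hl₁, hl₂⟩
      rw [e]
      infer_instance
    obtain ⟨V, hV, hV'⟩ := (Groth.Agent.S9697.result C.π.left g.left z).1
      ⟨⊤, trivial, MorphismProperty.comp_mem @FormallyUnramified _ _ inferInstance hu⟩
    rw [← hz]
    exact ⟨V, hV, hV'⟩

include hε in
theorem forall_of_trivOn {T : Over S} (g : T ⟶ U) (h : TrivOn q ε g) (t : T.left) :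
    g.left t ∉ Bad C :=
  forall_of_fibre_iso C hε g (exists_fibre_iso C hε g h) t

include hε in
theorem trivOn_iff {T : Over S} (g : T ⟶ U) : TrivOn q ε g ↔ ∀ t, g.left t ∉ Bad C :=
  ⟨fun h => forall_of_trivOn C hε g h, trivOn_of_forall C hε g⟩

include hε in
/-- For an affine chart over an affine base the good locus is compact. -/
theorem isCompact_compl_Bad [IsAffine U.left] [IsAffine C.P.left] (hcl : IsClosedMap (Points.map q)) :
    IsCompact (Bad C)ᶜ := by
  have := C.closed
  have := C.lfp
  have := C.s_etale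
  have : IsAffine C.E.left := isAffine_of_isAffineHom C.e.left
  have hs : C.s.left = C.e.left ≫ C.π.left := congrArg CommaMorphism.left (s_eq C hε)
  have : LocallyOfFinitePresentation (C.e.left ≫ C.π.left) := by rw [← hs]; infer_instance
  have hL := Groth.Agent.S2575.result C.e.left C.π.left
  have key : ∀ u : U.left, u ∉ Bad C ↔ IsIso (pullback.lift
      (pullback.fst (C.e.left ≫ C.π.left) (U.left.fromSpecResidueField u) ≫ C.e.left)
      (pullback.snd (C.e.left ≫ C.π.left) (U.left.fromSpecResidueField u))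
      ((Category.assoc _ _ _).trans pullback.condition) :
      pullback (C.e.left ≫ C.π.left) (U.left.fromSpecResidueField u) ⟶
        pullback C.π.left (U.left.fromSpecResidueField u)) := by
    intro u
    let T : Over S := Over.mk (U.left.fromSpecResidueField u ≫ U.hom)
    let g : T ⟶ U := Over.homMk (U.left.fromSpecResidueField u) rfl
    let m := pullback.map C.s.left g.left C.π.left g.left C.e.left (𝟙 _) (𝟙 _)
        (by rw [Category.comp_id, ← Over.comp_left, s_eq C hε]) (by simp)
    have e : pullback.lift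
        (pullback.fst (C.e.left ≫ C.π.left) (U.left.fromSpecResidueField u) ≫ C.e.left)
        (pullback.snd (C.e.left ≫ C.π.left) (U.left.fromSpecResidueField u))
        ((Category.assoc _ _ _).trans pullback.condition) =
        (pullback.congrHom hs (rfl : g.left = _)).inv ≫ m := by
      apply pullback.hom_ext <;> simp [m, g, pullback.map, pullback.congrHom]
      · erw [pullback.lift_fst_assoc, pullback.lift_fst]
      · erw [pullback.lift_snd, pullback.lift_snd]
    have hmem : ∀ t : T.left, g.left t = u := Scheme.fromSpecResidueField_apply u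
    constructor
    · intro hu
      obtain ⟨l, hl₁, hl₂⟩ := exists_fibre_iso C hε g (trivOn_of_forall C hε g fun t => by
        rw [hmem]; exact hu)
      have : IsIso m := ⟨l, hl₂, hl₁⟩
      rw [e]
      infer_instance
    · intro h
      rw [e] at h
      have : IsIso m := IsIso.of_isIso_comp_left (pullback.congrHom hs (rfl : g.left = _)).inv m
      rw [← hmem (IsLocalRing.closedPoint _)]
      exact forall_of_fibre_iso C hε g ⟨inv m, IsIso.inv_hom_id m, IsIso.hom_inv_id m⟩ _
  rw [show (Bad C)ᶜ = {u | IsIso (pullback.lift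
      (pullback.fst (C.e.left ≫ C.π.left) (U.left.fromSpecResidueField u) ≫ C.e.left)
      (pullback.snd (C.e.left ≫ C.π.left) (U.left.fromSpecResidueField u))
      ((Category.assoc _ _ _).trans pullback.condition) :
      pullback (C.e.left ≫ C.π.left) (U.left.fromSpecResidueField u) ⟶
        pullback C.π.left (U.left.fromSpecResidueField u))} from Set.ext key]
  exact IsRetrocompact.isCompact (Groth.Agent.S8344.result hL.isConstructible)

end Groth.Misc10.IsoNat.CleanCore
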