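import Groth.Prelude.Def_W4c2isonaturalstkIso
import Groth.Agent.StkBase.Descent
import Groth.Agent.AlgStBasic.Invariance
import Mathlib.CategoryTheory.Endomorphism

/-!
# Lifts between fibre objects, and the presheaf of isomorphism classes
-/

set_option autoImplicit false
set_option backward.isDefEq.respectTransparency false
set_option backward.isDefEq.respectTransparency.types false

universe u

open CategoryTheory AlgebraicGeometry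
open Groth.StkBase

namespace Groth.Misc10.IsoNat

variable {S : Scheme.{u}} {𝒳 𝒴 : AlgSt.Cat S}

/-- Morphisms of `𝒳` between fibre objects lying over a given morphism of the base. -/
abbrev Lift {W' W : Over S} (k : W' ⟶ W) (x' : 𝒳.p.Fiber W') (x : 𝒳.p.Fiber W) :=
  {a : x'.1 ⟶ x.1 // 𝒳.p.IsHomLift k a}

theorem Lift.map_eq {W' W : Over S} {k : W' ⟶ W} {x' : 𝒳.p.Fiber W'} {x : 𝒳.p.Fiber W}
    (a : Lift k x' x) : 𝒳.p.map a.1 = eqToHom x'.2 ≫ k ≫ eqToHom x.2.symm := by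
  have := a.2
  exact IsHomLift.fac' 𝒳.p k a.1

/-- Composition of lifts. -/
def Lift.comp {W'' W' W : Over S} {l : W'' ⟶ W'} {k : W' ⟶ W} {m : W'' ⟶ W} {z : 𝒳.p.Fiber W''}
    {y : 𝒳.p.Fiber W'} {x : 𝒳.p.Fiber W} (b : Lift l z y) (a : Lift k y x)
    (h : l ≫ k = m := by first | rfl | simp) : Lift m z x :=
  ⟨b.1 ≫ a.1, by have := a.2; have := b.2; subst h; infer_instance⟩

@[simp] theorem Lift.comp_val {W'' W' W : Over S} {l : W'' ⟶ W'} {k : W' ⟶ W} {m : W'' ⟶ W}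
    {z : 𝒳.p.Fiber W''} {y : 𝒳.p.Fiber W'} {x : 𝒳.p.Fiber W} (b : Lift l z y) (a : Lift k y x)
    (h : l ≫ k = m) : (b.comp a h).1 = b.1 ≫ a.1 := rfl

theorem fiber_comp_val {W : Over S} {x y z : 𝒳.p.Fiber W} (f : x ⟶ y) (g : y ⟶ z) :
    (f ≫ g).1 = f.1 ≫ g.1 := rfl

theorem fiber_id_val {W : Over S} (x : 𝒳.p.Fiber W) : (𝟙 x : x ⟶ x).1 = 𝟙 x.1 := rfl

/-- The identity lift. -/
def Lift.id {W : Over S} (x : 𝒳.p.Fiber W) : Lift (𝟙 W) x x :=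
  ⟨𝟙 x.1, IsHomLift.id x.2⟩

/-- Two lifts of the same morphism agree when they do after composition with a further lift. -/
theorem Lift.hom_ext (hX : FibCat.IsFibGrpd 𝒳.p) {W'' W' W : Over S} {l : W'' ⟶ W'}
    {k : W' ⟶ W} {z : 𝒳.p.Fiber W''} {y : 𝒳.p.Fiber W'} {x : 𝒳.p.Fiber W}
    (a : Lift k y x) {χ χ' : Lift l z y} (h : χ.1 ≫ a.1 = χ'.1 ≫ a.1) : χ = χ' :=
  Subtype.ext (hom_eq_of_comp_eq hX a.1 (χ.map_eq.trans χ'.map_eq.symm) h)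

theorem fiber_hom_ext (hX : FibCat.IsFibGrpd 𝒳.p) {W' W : Over S} {k : W' ⟶ W}
    {z y : 𝒳.p.Fiber W'} {x : 𝒳.p.Fiber W} (a : Lift k y x) {χ χ' : z ⟶ y}
    (h : χ.1 ≫ a.1 = χ'.1 ≫ a.1) : χ = χ' :=
  Lift.hom_ext hX a (χ := χ) (χ' := χ') h

theorem Lift.base_unique {W' W : Over S} {k k' : W' ⟶ W} {x' : 𝒳.p.Fiber W'} {x : 𝒳.p.Fiber W}
    (a : Lift k x' x) (b : Lift k' x' x) (h : a.1 = b.1) : k = k' := by
  have e := a.map_eq.symm.trans ((congrArg 𝒳.p.map h).trans b.map_eq)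
  exact (cancel_mono (eqToHom x.2.symm)).1 ((cancel_epi (eqToHom x'.2)).1 e)

theorem exists_fac (hX : FibCat.IsFibGrpd 𝒳.p) {W'' W' W : Over S} {k : W' ⟶ W} {m : W'' ⟶ W}
    {z : 𝒳.p.Fiber W''} {y : 𝒳.p.Fiber W'} {x : 𝒳.p.Fiber W} (a : Lift k y x) (b : Lift m z x)
    (l : W'' ⟶ W') (h : l ≫ k = m) : ∃ χ : Lift l z y, χ.1 ≫ a.1 = b.1 := by
  have e : (eqToHom z.2 ≫ l ≫ eqToHom y.2.symm) ≫ 𝒳.p.map a.1 = 𝒳.p.map b.1 := by
    rw [a.map_eq, b.map_eq, ← h]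
    simp
  exact ⟨⟨factor hX a.1 b.1 _ e, IsHomLift.of_fac' 𝒳.p l _ z.2 y.2 (factor_map hX a.1 b.1 _ e)⟩,
    factor_comp hX a.1 b.1 _ e⟩

/-- The factorisation of a lift through another one. -/
noncomputable def fac (hX : FibCat.IsFibGrpd 𝒳.p) {W'' W' W : Over S} {k : W' ⟶ W} {m : W'' ⟶ W}
    {z : 𝒳.p.Fiber W''} {y : 𝒳.p.Fiber W'} {x : 𝒳.p.Fiber W} (a : Lift k y x) (b : Lift m z x)
    (l : W'' ⟶ W') (h : l ≫ k = m) : Lift l z y :=
  (exists_fac hX a b l h).choose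

theorem fac_comp (hX : FibCat.IsFibGrpd 𝒳.p) {W'' W' W : Over S} {k : W' ⟶ W} {m : W'' ⟶ W}
    {z : 𝒳.p.Fiber W''} {y : 𝒳.p.Fiber W'} {x : 𝒳.p.Fiber W} (a : Lift k y x) (b : Lift m z x)
    (l : W'' ⟶ W') (h : l ≫ k = m) : (fac hX a b l h).1 ≫ a.1 = b.1 :=
  (exists_fac hX a b l h).choose_spec

/-- Morphisms of a fibre category are isomorphisms. -/
theorem fiber_isIso (hX : FibCat.IsFibGrpd 𝒳.p) {W : Over S} {x y : 𝒳.p.Fiber W} (φ : x ⟶ y) :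
    IsIso φ := by
  obtain ⟨ψ, hψ⟩ := exists_fac hX (a := (φ : Lift (𝟙 W) x y)) (b := Lift.id y) (𝟙 W)
    (Category.comp_id _)
  refine ⟨(ψ : y ⟶ x), fiber_hom_ext hX (φ : Lift (𝟙 W) x y) ?_, Subtype.ext hψ⟩
  show (φ.1 ≫ ψ.1) ≫ φ.1 = 𝟙 x.1 ≫ φ.1
  rw [Category.assoc, hψ]
  simp [Lift.id]

/-- A morphism of a fibre category as an isomorphism. -/
noncomputable def fiberIso (hX : FibCat.IsFibGrpd 𝒳.p) {W : Over S} {x y : 𝒳.p.Fiber W} (φ : x ⟶ y) :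
    x ≅ y :=
  @asIso _ _ _ _ φ (fiber_isIso hX φ)

theorem fiberIso_hom (hX : FibCat.IsFibGrpd 𝒳.p) {W : Over S} {x y : 𝒳.p.Fiber W} (φ : x ⟶ y) :
    (fiberIso hX φ).hom = φ := rfl

theorem cls_eq_iff {W : Over S} {x y : 𝒳.p.Fiber W} :
    IsoNat.cls x = IsoNat.cls y ↔ Nonempty (x ≅ y) :=
  ⟨fun h => Quotient.exact h, fun h => Quotient.sound h⟩

theorem exists_cls {W : Over S} (c : IsoNat.IsoCl 𝒳 W) : ∃ x, IsoNat.cls x = c :=
  Quotient.exists_rep c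

/-- A chosen pullback. -/
noncomputable def pullObj (hX : FibCat.IsFibGrpd 𝒳.p) {W' W : Over S} (k : W' ⟶ W)
    (x : 𝒳.p.Fiber W) : 𝒳.p.Fiber W' :=
  ⟨liftObj hX (x := x.1) (k ≫ eqToHom x.2.symm), liftObj_p hX _⟩

/-- The projection of the chosen pullback. -/
noncomputable def pullLift (hX : FibCat.IsFibGrpd 𝒳.p) {W' W : Over S} (k : W' ⟶ W)
    (x : 𝒳.p.Fiber W) : Lift k (pullObj hX k x) x :=
  ⟨liftMap hX (x := x.1) (k ≫ eqToHom x.2.symm),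
    IsHomLift.of_fac' 𝒳.p k _ (liftObj_p hX _) x.2 (liftMap_p hX _)⟩

theorem iso_of_lifts (hX : FibCat.IsFibGrpd 𝒳.p) {W' W : Over S} {k : W' ⟶ W}
    {y y' : 𝒳.p.Fiber W'} {x : 𝒳.p.Fiber W} (a : Lift k y x) (a' : Lift k y' x) :
    ∃ i : y ≅ y', i.hom.1 ≫ a'.1 = a.1 :=
  ⟨fiberIso hX (fac hX a' a (𝟙 W') (Category.id_comp _)),
    fac_comp hX a' a _ (Category.id_comp _)⟩

/-- Pullback of isomorphism classes. -/
noncomputable def pullCls (hX : FibCat.IsFibGrpd 𝒳.p) {W' W : Over S} (k : W' ⟶ W) :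
    IsoNat.IsoCl 𝒳 W → IsoNat.IsoCl 𝒳 W' :=
  Quotient.lift (fun x => IsoNat.cls (pullObj hX k x)) fun x y ⟨e⟩ =>
    cls_eq_iff.2 ⟨(iso_of_lifts hX ((pullLift hX k x).comp (e.hom : Lift (𝟙 W) x y))
      (pullLift hX k y)).choose⟩

theorem pullCls_cls (hX : FibCat.IsFibGrpd 𝒳.p) {W' W : Over S} {k : W' ⟶ W}
    {x' : 𝒳.p.Fiber W'} {x : 𝒳.p.Fiber W} (a : Lift k x' x) :
    pullCls hX k (IsoNat.cls x) = IsoNat.cls x' :=
  cls_eq_iff.2 ⟨(iso_of_lifts hX (pullLift hX k x) a).choose⟩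

theorem pullCls_cls' (hX : FibCat.IsFibGrpd 𝒳.p) {W' W : Over S} (k : W' ⟶ W) (x : 𝒳.p.Fiber W) :
    pullCls hX k (IsoNat.cls x) = IsoNat.cls (pullObj hX k x) := rfl

theorem pullCls_comp (hX : FibCat.IsFibGrpd 𝒳.p) {W'' W' W : Over S} (l : W'' ⟶ W') (k : W' ⟶ W)
    (c : IsoNat.IsoCl 𝒳 W) : pullCls hX (l ≫ k) c = pullCls hX l (pullCls hX k c) := by
  obtain ⟨x, rfl⟩ := exists_cls c
  exact pullCls_cls hX ((pullLift hX l _).comp (pullLift hX k x))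

theorem pullCls_id (hX : FibCat.IsFibGrpd 𝒳.p) {W : Over S} (c : IsoNat.IsoCl 𝒳 W) :
    pullCls hX (𝟙 W) c = c := by
  obtain ⟨x, rfl⟩ := exists_cls c
  exact pullCls_cls hX (Lift.id x)

/-- An isomorphism of presheaves of classes commutes with pullback. -/
theorem toEquiv_pullCls (φ : IsoNat.FIso 𝒳 𝒴) (hX : FibCat.IsFibGrpd 𝒳.p)
    (hY : FibCat.IsFibGrpd 𝒴.p) {W' W : Over S} (k : W' ⟶ W) (c : IsoNat.IsoCl 𝒳 W) :
    φ.toEquiv W' (pullCls hX k c) = pullCls hY k (φ.toEquiv W c) := by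
  obtain ⟨x, rfl⟩ := exists_cls c
  obtain ⟨y', y, b, hb, e', e⟩ := φ.natural k _ x (pullLift hX k x).1 (pullLift hX k x).2
  rw [pullCls_cls', e', e, pullCls_cls hY ⟨b, hb⟩]

/-- A category fibred in groupoids is fibred in setoids as soon as all objects are clean. -/
theorem isFibSetoid_iff_isClean (hX : FibCat.IsFibGrpd 𝒳.p) :
    FibCat.IsFibSetoid 𝒳.p ↔ ∀ η : 𝒳.obj, IsoNat.IsClean η := by
  constructor
  · intro h η x _ s hs
    exact IsVert.eq_id_of_thin h (φ := s) ⟨rfl, by rw [hs]; simp⟩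
  · intro h
    refine ⟨hX, fun U x y => ⟨fun f g => ?_⟩⟩
    have : IsIso f := fiber_isIso hX f
    have hs := h x.1 x.1 (𝟙 _) (g ≫ inv f).1 (by
      have := Lift.map_eq (g ≫ inv f : Lift (𝟙 U) x x)
      simpa using this)
    have : g ≫ inv f = 𝟙 x := Subtype.ext hs
    calc f = (g ≫ inv f) ≫ f := by rw [this, Category.id_comp]
      _ = g := by simp

/-- In a category fibred in setoids there is at most one lift between two fibre objects. -/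
theorem Lift.subsingleton (hX : FibCat.IsFibSetoid 𝒳.p) {W' W : Over S} {k : W' ⟶ W}
    {y : 𝒳.p.Fiber W'} {x : 𝒳.p.Fiber W} (a b : Lift k y x) : a = b := by
  let χ : y ⟶ y := fac hX.1 a b (𝟙 W') (Category.id_comp _)
  have h := fac_comp hX.1 a b (𝟙 W') (Category.id_comp _)
  have hthin := hX.2 W'
  have : χ = 𝟙 y := (hthin y y).elim _ _
  refine Subtype.ext ?_
  rw [← h]
  show a.1 = χ.1 ≫ a.1
  rw [this, fiber_id_val, Category.id_comp]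

end Groth.Misc10.IsoNat
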