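import Groth.Agent.Misc10.IsoNat.GlueHom

/-!
# Open covers in the fppf topology
-/

set_option autoImplicit false
set_option backward.isDefEq.respectTransparency false
set_option backward.isDefEq.respectTransparency.types false

universe u w

open CategoryTheory CategoryTheory.Limits AlgebraicGeometry

namespace Groth.Misc10.IsoNat

variable {S : Scheme.{u}} {𝒳 : AlgSt.Cat S}

/-- A jointly surjective family of open immersions is covering. -/
theorem ofArrows_mem {ι : Type w} {W : ι → Over S} {Y : Over S} (f : ∀ i, W i ⟶ Y)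
    (hopen : ∀ i, IsOpenImmersion (f i).left) (hsurj : ∀ y, ∃ i, y ∈ Set.range (f i).left) :
    Sieve.ofArrows W f ∈ AlgSp.J S Y := by
  rw [GrothendieckTopology.mem_over_iff]
  refine GrothendieckTopology.superset_covering _ ?_
    (Precoverage.generate_mem_toGrothendieck (R := Presieve.ofArrows _ fun i => (f i).left) ?_)
  · rw [Sieve.generate_le_iff]
    rintro _ _ ⟨i⟩
    exact ⟨W i, f i, 𝟙 _, ⟨W i, 𝟙 _, f i, ⟨i⟩, by simp⟩, by simp⟩
  · refine (Scheme.ofArrows_mem_precoverage_iff _).2 ⟨hsurj, fun i => ?_⟩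
    have := hopen i
    exact ⟨inferInstance, inferInstance⟩

/-- Lifts which agree on a covering family agree. -/
theorem lift_ext_cover (hX : Stk.IsPrestack (AlgSp.J S) 𝒳) {ι : Type w} {W : ι → Over S}
    {Z : Over S} {j : ∀ i, W i ⟶ Z} (hcov : Sieve.ofArrows W j ∈ AlgSp.J S Z) {Y : Over S}
    {k : Z ⟶ Y} {z : 𝒳.p.Fiber Z} {y : 𝒳.p.Fiber Y} {w : ∀ i, 𝒳.p.Fiber (W i)}
    (β : ∀ i, Lift (j i) (w i) z) {a b : Lift k z y}
    (h : ∀ i, (β i).1 ≫ a.1 = (β i).1 ≫ b.1) : a = b := by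
  let χ : z ⟶ z := fac hX.1 a b (𝟙 Z) (Category.id_comp _)
  have hχ : χ.1 ≫ a.1 = b.1 := fac_comp hX.1 a b (𝟙 Z) (Category.id_comp _)
  have : χ = 𝟙 z := hom_ext_cover hX hcov β fun i => by
    refine congrArg Subtype.val (Lift.hom_ext hX.1 a (χ := (β i).comp
      (χ : Lift (𝟙 Z) z z) (Category.comp_id _)) (χ' := (β i).comp
      ((𝟙 z : z ⟶ z) : Lift (𝟙 Z) z z) (Category.comp_id _)) ?_)
    simp only [Lift.comp_val, Category.assoc, hχ, fiber_id_val, Category.id_comp]
    exact (h i).symm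
  refine Subtype.ext ?_
  rw [← hχ, this, fiber_id_val, Category.id_comp]

/-- Over an empty scheme two lifts with the same source and target agree. -/
theorem lift_subsingleton_of_isEmpty (hX : Stk.IsPrestack (AlgSp.J S) 𝒳) {Z Y : Over S}
    [IsEmpty Z.left] {k : Z ⟶ Y} {z : 𝒳.p.Fiber Z} {y : 𝒳.p.Fiber Y} (a b : Lift k z y) : a = b :=
  lift_ext_cover hX (ι := PEmpty.{1}) (W := PEmpty.elim) (j := fun i => i.elim)
    (w := fun i => i.elim)
    (ofArrows_mem _ (fun i => i.elim) (fun y => isEmptyElim y)) (fun i => i.elim) (fun i => i.elim)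

end Groth.Misc10.IsoNat
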