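import Groth.Agent.Misc10.IsoNat.AutSec
import Groth.Agent.Misc10.IsoNat.Cover
import Mathlib.AlgebraicGeometry.Limits

/-!
# Twisted forms of a pullback on a scheme doubled along a disjoint union of opens
-/

set_option autoImplicit false
set_option backward.isDefEq.respectTransparency false
set_option backward.isDefEq.respectTransparency.types false

universe u

open CategoryTheory CategoryTheory.Limits AlgebraicGeometry
open Groth.StkBase

noncomputable section

namespace Groth.Misc10.IsoNat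

variable {S : Scheme.{u}}

/-- A scheme over `S` with a finite family of pairwise disjoint open subschemes. -/
structure Datum (S : Scheme.{u}) where
  /-- the index type -/
  κ : Type
  /-- the scheme -/
  U : Over S
  /-- the open pieces -/
  W : κ → Over S
  /-- their inclusions -/
  j : ∀ i, W i ⟶ U
  isOpen : ∀ i, IsOpenImmersion (j i).left
  disjoint : ∀ i i', i ≠ i' → Disjoint (Set.range (j i).left) (Set.range (j i').left)

namespace Datum

variable (D : Datum S)

instance (i : D.κ) : IsOpenImmersion (D.j i).left := D.isOpen i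

/-- The union of the pieces. -/
def Vop : D.U.left.Opens := ⨆ i, (D.j i).left.opensRange

/-- The union of the pieces as a scheme over `S`. -/
abbrev V : Over S := Over.mk (D.Vop.ι ≫ D.U.hom)

/-- Its inclusion. -/
def vι : D.V ⟶ D.U := Over.homMk D.Vop.ι rfl

instance : IsOpenImmersion D.vι.left := inferInstanceAs (IsOpenImmersion D.Vop.ι)

theorem range_j_subset (i : D.κ) : Set.range (D.j i).left ⊆ Set.range D.Vop.ι := by
  rw [Scheme.Opens.range_ι]
  exact fun x hx => TopologicalSpace.Opens.mem_iSup.2 ⟨i, hx⟩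

/-- A piece as a part of the union. -/
def wV (i : D.κ) : D.W i ⟶ D.V :=
  Over.homMk (IsOpenImmersion.lift D.Vop.ι (D.j i).left (D.range_j_subset i))
    (show IsOpenImmersion.lift _ _ _ ≫ D.Vop.ι ≫ D.U.hom = _ by
      rw [IsOpenImmersion.lift_fac_assoc]; exact Over.w (D.j i))

@[reassoc (attr := simp)]
theorem wV_vι (i : D.κ) : D.wV i ≫ D.vι = D.j i := by
  ext : 1
  exact IsOpenImmersion.lift_fac _ _ _

theorem wV_left (i : D.κ) : (D.wV i).left ≫ D.Vop.ι = (D.j i).left :=
  IsOpenImmersion.lift_fac _ _ _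

instance (i : D.κ) : IsOpenImmersion (D.wV i).left := by
  have : IsOpenImmersion ((D.wV i).left ≫ D.Vop.ι) := by rw [D.wV_left]; infer_instance
  exact IsOpenImmersion.of_comp _ D.Vop.ι

theorem wV_cover : Sieve.ofArrows D.W D.wV ∈ AlgSp.J S D.V := by
  refine ofArrows_mem _ (fun i => inferInstance) fun y => ?_
  have hy : D.Vop.ι y ∈ D.Vop := by
    have := Set.mem_range_self (f := D.Vop.ι) y
    rwa [Scheme.Opens.range_ι] at this
  obtain ⟨i, hi⟩ := TopologicalSpace.Opens.mem_iSup.1 hy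
  obtain ⟨x, hx⟩ := hi
  refine ⟨i, x, D.Vop.ι.isOpenEmbedding.injective ?_⟩
  exact (congrArg (fun t : (D.W i).left ⟶ D.U.left => t x) (D.wV_left i)).trans hx

theorem vι_mono {Z : Over S} {v v' : Z ⟶ D.V} (h : v ≫ D.vι = v' ≫ D.vι) : v = v' := by
  ext : 1
  exact (cancel_mono D.Vop.ι).1 (congrArg CommaMorphism.left h)

/-- The scheme doubled along the union. -/
abbrev Dbl : Over S :=
  Over.mk (pushout.desc D.U.hom D.U.hom rfl : pushout D.Vop.ι D.Vop.ι ⟶ S)

/-- The two copies. -/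
def inj : Bool → (D.U ⟶ D.Dbl)
  | false => Over.homMk (pushout.inl D.Vop.ι D.Vop.ι) (pushout.inl_desc _ _ _)
  | true => Over.homMk (pushout.inr D.Vop.ι D.Vop.ι) (pushout.inr_desc _ _ _)

/-- The folding map. -/
def fold : D.Dbl ⟶ D.U :=
  Over.homMk (pushout.desc (𝟙 _) (𝟙 _) rfl) (by
    apply pushout.hom_ext <;> simp)

@[reassoc (attr := simp)]
theorem inj_fold (b : Bool) : D.inj b ≫ D.fold = 𝟙 D.U := by
  ext : 1
  cases b
  · exact pushout.inl_desc _ _ _
  · exact pushout.inr_desc _ _ _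

instance (b : Bool) : IsOpenImmersion (D.inj b).left := by
  cases b
  · exact inferInstanceAs (IsOpenImmersion (colimit.ι (span D.Vop.ι D.Vop.ι) WalkingSpan.left))
  · exact inferInstanceAs (IsOpenImmersion (colimit.ι (span D.Vop.ι D.Vop.ι) WalkingSpan.right))

theorem exists_inj_eq (y : D.Dbl.left) : ∃ b x, (D.inj b).left x = y := by
  obtain ⟨i, x, rfl⟩ := Scheme.IsLocallyDirected.ι_jointly_surjective (span D.Vop.ι D.Vop.ι) y
  rcases i with _ | ⟨_ | _⟩
  · refine ⟨false, D.Vop.ι x, ?_⟩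
    show pushout.inl D.Vop.ι D.Vop.ι (D.Vop.ι x) = _
    rw [← Scheme.Hom.comp_apply]
    exact congrArg (fun (t : _ ⟶ pushout D.Vop.ι D.Vop.ι) => t x)
      (colimit.w (span D.Vop.ι D.Vop.ι) WalkingSpan.Hom.fst)
  · exact ⟨false, x, rfl⟩
  · exact ⟨true, x, rfl⟩

theorem inj_cover : Sieve.ofArrows (fun _ : Bool => D.U) D.inj ∈ AlgSp.J S D.Dbl :=
  ofArrows_mem _ (fun b => inferInstance) fun y => D.exists_inj_eq y

@[reassoc]
theorem vι_inj : D.vι ≫ D.inj false = D.vι ≫ D.inj true := by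
  ext : 1
  exact pushout.condition

theorem mem_Vop_of_eq (x : D.U.left) (h : (D.inj false).left x = (D.inj true).left x) :
    x ∈ D.Vop := by
  obtain ⟨k, fi, fj, z, hz, -⟩ := (Scheme.IsLocallyDirected.ι_eq_ι_iff (span D.Vop.ι D.Vop.ι)
    (i := WalkingSpan.left) (j := WalkingSpan.right) (xi := x) (xj := x)).1 h
  rcases k with _ | ⟨_ | _⟩
  · rcases fi with _ | _
    rw [← hz]
    have := Set.mem_range_self (f := D.Vop.ι) z
    rwa [Scheme.Opens.range_ι] at this
  · rcases fj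
  · rcases fi

theorem exists_fac_V {Z : Over S} (k : Z ⟶ D.U) (h : k ≫ D.inj false = k ≫ D.inj true) :
    ∃ v : Z ⟶ D.V, v ≫ D.vι = k := by
  have hr : Set.range k.left ⊆ Set.range D.Vop.ι := by
    rintro _ ⟨z, rfl⟩
    rw [Scheme.Opens.range_ι]
    apply D.mem_Vop_of_eq
    have := congrArg (fun t : Z ⟶ D.Dbl => t.left z) h
    simpa using this
  refine ⟨Over.homMk (IsOpenImmersion.lift D.Vop.ι k.left hr) ?_, ?_⟩
  · show IsOpenImmersion.lift _ _ _ ≫ D.Vop.ι ≫ D.U.hom = _
    rw [IsOpenImmersion.lift_fac_assoc]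
    exact Over.w k
  · ext : 1
    exact IsOpenImmersion.lift_fac _ _ _

theorem eq_of_inj {Z : Over S} {k k' : Z ⟶ D.U} {b b' : Bool} (h : k ≫ D.inj b = k' ≫ D.inj b') :
    k = k' := by
  have := congrArg (· ≫ D.fold) h
  simpa using this

end Datum

variable {𝒳 : AlgSt.Cat S} (hX : Stk.IsPrestack (AlgSp.J S) 𝒳) {T : Over S} (η : 𝒳.p.Fiber T)
variable (D : Datum S) (h : D.U ⟶ T)

/-- The automorphisms on the pieces, glued on their union. -/
theorem exists_glue_aut (c : ∀ i, Aut (pullObj hX.1 (D.j i ≫ h) η)) :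
    ∃ cV : Aut (pullObj hX.1 (D.vι ≫ h) η), ∀ i,
      res hX.1 η (D.wV i) (by rw [D.wV_vι_assoc]) cV = c i := by
  let β := fun i => obMap hX.1 η (h := D.vι ≫ h) (h' := D.j i ≫ h) (D.wV i) (by rw [D.wV_vι_assoc])
  let γ := fun i => Lift.comp ((c i).hom : Lift (𝟙 _) _ _) (β i) (Category.id_comp _)
  obtain ⟨φ, hφ⟩ := exists_glue_hom hX D.wV_cover β γ (by
    intro Z z i i' l l' m m' e
    have hl : l ≫ D.wV i = l' ≫ D.wV i' := by
      exact Lift.base_unique (m.comp (β i) rfl) (m'.comp (β i') rfl) e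
    by_cases hii : i = i'
    · subst hii
      have : l = l' := by
        ext : 1
        exact (cancel_mono (D.wV i).left).1 (congrArg CommaMorphism.left hl)
      subst this
      rw [Lift.hom_ext hX.1 (β i) e]
    · have : IsEmpty Z.left := ⟨fun x => Set.disjoint_left.1 (D.disjoint i i' hii)
        ⟨l.left x, rfl⟩ ⟨l'.left x, by
          rw [← D.wV_left i, ← D.wV_left i', Scheme.Hom.comp_apply, Scheme.Hom.comp_apply,
            ← Scheme.Hom.comp_apply l'.left, ← Scheme.Hom.comp_apply l.left, ← Over.comp_left,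
            ← Over.comp_left, hl]⟩⟩
      exact congrArg Subtype.val (lift_subsingleton_of_isEmpty hX (m.comp (γ i) rfl)
        (m'.comp (γ i') hl.symm)))
  refine ⟨fiberIso hX.1 φ, fun i => ?_⟩
  apply res_unique
  exact (hφ i).symm

/-- The transition automorphisms. -/
def trans (cV : Aut (pullObj hX.1 (D.vι ≫ h) η)) {Z : Over S} (k : Z ⟶ D.U) {h' : Z ⟶ T} (e : k ≫ h = h') :
    ∀ (b b' : Bool), k ≫ D.inj b = k ≫ D.inj b' → Aut (pullObj hX.1 h' η)
  | false, false, _ => 1
  | true, true, _ => 1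
  | false, true, hz => res hX.1 η (D.exists_fac_V k hz).choose
      (by rw [← Category.assoc, (D.exists_fac_V k hz).choose_spec, e]) cV
  | true, false, hz => (res hX.1 η (D.exists_fac_V k hz.symm).choose
      (by rw [← Category.assoc, (D.exists_fac_V k hz.symm).choose_spec, e]) cV)⁻¹

theorem trans_self (cV : Aut (pullObj hX.1 (D.vι ≫ h) η)) {Z : Over S} (k : Z ⟶ D.U) {h' : Z ⟶ T}
    (e : k ≫ h = h') (b : Bool) : trans hX η D h cV k e b b rfl = 1 := by
  cases b <;> rfl

theorem trans_mul (cV : Aut (pullObj hX.1 (D.vι ≫ h) η)) {Z : Over S} (k : Z ⟶ D.U) {h' : Z ⟶ T}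
    (e : k ≫ h = h') (a b c : Bool) (hab : k ≫ D.inj a = k ≫ D.inj b)
    (hbc : k ≫ D.inj b = k ≫ D.inj c) :
    trans hX η D h cV k e b c hbc * trans hX η D h cV k e a b hab =
      trans hX η D h cV k e a c (hab.trans hbc) := by
  cases a <;> cases b <;> cases c <;> simp [trans]

theorem trans_false_true (cV : Aut (pullObj hX.1 (D.vι ≫ h) η)) {Z : Over S} (k : Z ⟶ D.U) {h' : Z ⟶ T}
    (e : k ≫ h = h') (hz : k ≫ D.inj false = k ≫ D.inj true) (v : Z ⟶ D.V) (hv : v ≫ D.vι = k) :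
    trans hX η D h cV k e false true hz =
      res hX.1 η v (by rw [← Category.assoc, hv, e]) cV :=
  res_congr hX.1 η (D.vι_mono ((D.exists_fac_V k hz).choose_spec.trans hv.symm)) _ _

theorem res_trans (cV : Aut (pullObj hX.1 (D.vι ≫ h) η)) {Z' Z : Over S} (m : Z' ⟶ Z) (k : Z ⟶ D.U)
    {h' : Z ⟶ T} (e : k ≫ h = h') {h'' : Z' ⟶ T} (e' : m ≫ h' = h'') (b b' : Bool)
    (hz : k ≫ D.inj b = k ≫ D.inj b') :
    res hX.1 η m e' (trans hX η D h cV k e b b' hz) =
      trans hX η D h cV (m ≫ k) (by rw [Category.assoc, e, e']) b b'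
        (by rw [Category.assoc, Category.assoc, hz]) := by
  cases b <;> cases b'
  · exact res_one ..
  · simp only [trans]
    exact res_res_eq hX.1 η _ _ _ (D.vι_mono (by
      rw [Category.assoc, (D.exists_fac_V k hz).choose_spec]
      exact (D.exists_fac_V (m ≫ k) (by rw [Category.assoc, Category.assoc, hz])).choose_spec.symm)) _ _ _
  · simp only [trans]
    rw [res_inv]
    congr 1
    exact res_res_eq hX.1 η _ _ _ (D.vι_mono (by
      rw [Category.assoc, (D.exists_fac_V k hz.symm).choose_spec]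
      exact (D.exists_fac_V (m ≫ k)
        (by rw [Category.assoc, Category.assoc, hz.symm])).choose_spec.symm)) _ _ _
  · exact res_one ..

/-- A twisted form: two trivialisations differing by `c` on the pieces. -/
def IsTw (x : 𝒳.p.Fiber D.Dbl) (c : ∀ i, Aut (pullObj hX.1 (D.j i ≫ h) η)) : Prop :=
  ∃ β : ∀ b, Lift (D.inj b) (pullObj hX.1 h η) x, ∀ i,
    (c i).hom.1 ≫ (obMap hX.1 η (h := h) (D.j i) rfl).1 ≫ (β true).1 =
      (obMap hX.1 η (h := h) (D.j i) rfl).1 ≫ (β false).1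

theorem exists_tw (hS : Stk.IsStack (AlgSp.J S) 𝒳)
    (c : ∀ i, Aut (pullObj hX.1 (D.j i ≫ h) η)) :
    ∃ x, IsTw hX η D h x c := by
  obtain ⟨cV, hcV⟩ := exists_glue_aut hX η D h c
  let R := Sieve.ofArrows (fun _ : Bool => D.U) D.inj
  have hs : ∀ a : (Stk.sieveCat R).obj, ∃ b, (a.obj.hom ≫ D.fold) ≫ D.inj b = a.obj.hom := by
    intro a
    obtain ⟨Z, l, q, ⟨b⟩, e⟩ := a.property
    refine ⟨b, ?_⟩
    rw [← e]
    simp
  choose s hs using hs
  let τ := fun (a : (Stk.sieveCat R).obj) (b b' : Bool)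
    (hz : (a.obj.hom ≫ D.fold) ≫ D.inj b = (a.obj.hom ≫ D.fold) ≫ D.inj b') =>
      trans hX η D h cV (a.obj.hom ≫ D.fold) (h' := a.obj.hom ≫ D.fold ≫ h)
        (Category.assoc _ _ _) b b' hz
  have hw : ∀ {a' a : (Stk.sieveCat R).obj} (f : a' ⟶ a),
      f.hom.left ≫ a.obj.hom ≫ D.fold ≫ h = a'.obj.hom ≫ D.fold ≫ h := fun f => by
    rw [← Category.assoc]; exact congrArg (· ≫ _) (Over.w f.hom)
  have hk : ∀ {a' a : (Stk.sieveCat R).obj} (f : a' ⟶ a),
      f.hom.left ≫ a.obj.hom ≫ D.fold = a'.obj.hom ≫ D.fold := fun f => by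
    rw [← Category.assoc]; exact congrArg (· ≫ _) (Over.w f.hom)
  have hz : ∀ {a' a : (Stk.sieveCat R).obj} (f : a' ⟶ a) (b : Bool),
      (a.obj.hom ≫ D.fold) ≫ D.inj b = a.obj.hom →
      (a'.obj.hom ≫ D.fold) ≫ D.inj b = a'.obj.hom := fun {a' a} f b e => by
    rw [← hk f, Category.assoc, e]; exact Over.w f.hom
  -- transition automorphisms commute with restriction
  have hτ : ∀ {a' a : (Stk.sieveCat R).obj} (f : a' ⟶ a) (b b' : Bool)
      (e : (a.obj.hom ≫ D.fold) ≫ D.inj b = (a.obj.hom ≫ D.fold) ≫ D.inj b')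
      (e' : (a'.obj.hom ≫ D.fold) ≫ D.inj b = (a'.obj.hom ≫ D.fold) ≫ D.inj b'),
      (obMap hX.1 η f.hom.left (hw f)).1 ≫ (τ a b b' e).hom.1 =
        (τ a' b b' e').hom.1 ≫ (obMap hX.1 η f.hom.left (hw f)).1 := fun {a' a} f b b' e e' => by
    rw [← res_spec hX.1 η f.hom.left (hw f) (τ a b b' e), res_trans]
    simp only [hk f, τ]
  let F₀ : Stk.sieveCat R ⥤ᵇ 𝒳 :=
    { toFunctor :=
        { obj := fun a => (pullObj hX.1 (a.obj.hom ≫ D.fold ≫ h) η).1
          map := fun {a' a} f =>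
            (τ a' (s a') (s a) ((hs a').trans (hz f (s a) (hs a)).symm)).hom.1 ≫
              (obMap hX.1 η f.hom.left (hw f)).1
          map_id := fun a => by
            simp only [τ]
            rw [trans_self]
            refine (Category.id_comp _).trans ?_
            exact congrArg Subtype.val (Lift.hom_ext hX.1
              (pullLift hX.1 (a.obj.hom ≫ D.fold ≫ h) η)
              (χ' := Lift.id (pullObj hX.1 (a.obj.hom ≫ D.fold ≫ h) η)) (by
                show _ = 𝟙 _ ≫ _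
                rw [obMap_pullLift, Category.id_comp]))
          map_comp := fun {a'' a' a} f g => by
            simp only [Category.assoc]
            rw [reassoc_of% hτ f (s a') (s a) _ ((hz f (s a') (hs a')).trans
              (hz (f ≫ g) (s a) (hs a)).symm), obMap_comp]
            exact (congrArg (· ≫ _) (congrArg (fun t : Aut (pullObj hX.1 _ η) => t.hom.1)
              (trans_mul hX η D h cV _ _ (s a'') (s a') (s a)
                ((hs a'').trans (hz f (s a') (hs a')).symm) _).symm)).trans (Category.assoc _ _ _) }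
      w := CategoryTheory.Functor.ext
        (fun a => (pullObj hX.1 (a.obj.hom ≫ D.fold ≫ h) η).2)
        (fun a' a f => (Lift.comp ((τ a' (s a') (s a) _).hom : Lift (𝟙 _) _ _)
          (obMap hX.1 η f.hom.left (hw f)) (Category.id_comp _)).map_eq) }
  have : (Stk.resSieve R 𝒳).IsEquivalence := hS.2 R D.inj_cover
  obtain ⟨P, ⟨θ⟩⟩ : ∃ P, Nonempty ((Stk.resSieve R 𝒳).obj P ≅ F₀) :=
    ⟨(Stk.resSieve R 𝒳).objPreimage F₀, ⟨(Stk.resSieve R 𝒳).objObjPreimageIso F₀⟩⟩
  let x : 𝒳.p.Fiber D.Dbl := ⟨P.obj (idObj D.Dbl), P.w_obj _⟩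
  let q : ∀ (g : Over D.Dbl), Lift g.hom (⟨P.obj g, P.w_obj g⟩ : 𝒳.p.Fiber g.left) x := fun g =>
    ⟨P.map (toId g), by
      have := overCat_isHomLift (toId g)
      exact P.preserves_isHomLift (toId g).left (toId g)⟩
  let ei : ∀ a : (Stk.sieveCat R).obj,
      Lift (𝟙 _) (pullObj hX.1 (a.obj.hom ≫ D.fold ≫ h) η)
        (⟨P.obj a.obj, P.w_obj _⟩ : 𝒳.p.Fiber a.obj.left) :=
    fun a => ⟨θ.inv.toNatTrans.app a, θ.inv.isHomLift' a⟩
  -- the trivialisations over the objects of the sieve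
  let B : ∀ (a : (Stk.sieveCat R).obj) (b : Bool), (a.obj.hom ≫ D.fold) ≫ D.inj b = a.obj.hom →
      Lift a.obj.hom (pullObj hX.1 (a.obj.hom ≫ D.fold ≫ h) η) x := fun a b e =>
    Lift.comp ((τ a b (s a) (e.trans (hs a).symm)).hom : Lift (𝟙 _) _ _)
      ((ei a).comp (q a.obj) (Category.id_comp _)) (Category.id_comp _)
  have hBnat : ∀ {a' a : (Stk.sieveCat R).obj} (f : a' ⟶ a) (b : Bool)
      (e : (a.obj.hom ≫ D.fold) ≫ D.inj b = a.obj.hom)
      (e' : (a'.obj.hom ≫ D.fold) ≫ D.inj b = a'.obj.hom),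
      (obMap hX.1 η f.hom.left (hw f)).1 ≫ (B a b e).1 = (B a' b e').1 := by
    intro a' a f b e e'
    have hnat := θ.inv.toNatTrans.naturality f
    change ((τ a' (s a') (s a) _).hom.1 ≫ (obMap hX.1 η f.hom.left (hw f)).1) ≫ (ei a).1 =
      (ei a').1 ≫ P.map f.hom at hnat
    have hP : P.map f.hom ≫ (q a.obj).1 = (q a'.obj).1 := by
      show P.map f.hom ≫ P.map _ = P.map _
      rw [← P.toFunctor.map_comp]
      congr 1
      apply Over.OverMorphism.ext
      exact Over.w f.hom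
    show _ ≫ (τ a b (s a) _).hom.1 ≫ (ei a).1 ≫ (q a.obj).1 =
      (τ a' b (s a') _).hom.1 ≫ (ei a').1 ≫ (q a'.obj).1
    rw [← hP, ← reassoc_of% hnat, reassoc_of% hτ f b (s a) _ (e'.trans (hz f (s a) (hs a)).symm)]
    simp only [τ]
    rw [← trans_mul hX η D h cV _ _ b (s a') (s a) (e'.trans (hs a').symm)
      ((hs a').trans (hz f (s a) (hs a)).symm)]
    exact Category.assoc _ _ _
  let A : Bool → (Stk.sieveCat R).obj := fun b =>
    ⟨Over.mk (D.inj b), D.U, 𝟙 _, D.inj b, ⟨b⟩, Category.id_comp _⟩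
  let β : ∀ b, Lift (D.inj b) (pullObj hX.1 h η) x := fun b =>
    Lift.comp (obMap hX.1 η (h := (A b).obj.hom ≫ D.fold ≫ h) (h' := h) (𝟙 _) (by simp [A]))
      (B (A b) b (by simp [A])) (Category.id_comp _)
  refine ⟨x, β, fun i => ?_⟩
  let az : (Stk.sieveCat R).obj :=
    ⟨Over.mk (D.j i ≫ D.inj false), D.U, D.j i, D.inj false, ⟨false⟩, rfl⟩
  have hjeq : D.j i ≫ D.inj true = D.j i ≫ D.inj false := by
    rw [← D.wV_vι i, Category.assoc, Category.assoc, D.vι_inj]
  have hkz : az.obj.hom ≫ D.fold = D.j i := by simp [az]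
  have hj : ∀ b, D.j i ≫ D.inj b = D.j i ≫ D.inj false := fun b => by
    cases b
    · rfl
    · exact hjeq
  have he : ∀ b, (az.obj.hom ≫ D.fold) ≫ D.inj b = az.obj.hom := fun b => by
    rw [hkz]; exact hj b
  have hid : 𝟙 (D.W i) ≫ az.obj.hom ≫ D.fold ≫ h = D.j i ≫ h := by
    rw [Category.id_comp, ← Category.assoc, hkz]
  have hβ : ∀ b, (obMap hX.1 η (h := h) (D.j i) rfl).1 ≫ (β b).1 =
      (obMap hX.1 η (h' := D.j i ≫ h) (𝟙 _) hid).1 ≫ (B az b (he b)).1 := by
    intro b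
    let mb : az ⟶ A b := ObjectProperty.homMk (Over.homMk (D.j i) (hj b))
    rw [← hBnat mb b (by simp [A]) (he b)]
    refine (Category.assoc _ _ _).symm.trans ((congrArg (· ≫ _) ?_).trans (Category.assoc _ _ _))
    refine (obMap_comp hX.1 η _ _ _ _).trans (Eq.trans ?_ (obMap_comp hX.1 η _ _ _ _).symm)
    exact obMap_congr hX.1 η (by simp [mb]) _
  rw [hβ, hβ]
  have hc : res hX.1 η (𝟙 (D.W i)) hid (τ az false true (((he false).trans (he true).symm))) =
      c i := by
    simp only [τ]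
    rw [res_trans]
    simp only [Category.id_comp, hkz]
    rw [trans_false_true hX η D h cV (D.j i) _ _ (D.wV i) (D.wV_vι i)]
    exact hcV i
  rw [← hc, reassoc_of% res_spec]
  congr 1
  show _ ≫ (τ az true (s az) _).hom.1 ≫ _ = (τ az false (s az) _).hom.1 ≫ _
  simp only [τ]
  rw [← trans_mul hX η D h cV _ _ false true (s az) ((he false).trans (he true).symm)
    ((he true).trans (hs az).symm)]
  show _ = ((_ : _ ⟶ _) ≫ _) ≫ _
  simp only [Category.assoc]

theorem hom_iso_tw {x x' : 𝒳.p.Fiber D.Dbl} {c c' : ∀ i, Aut (pullObj hX.1 (D.j i ≫ h) η)}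
    (hx : IsTw hX η D h x c) (hx' : IsTw hX η D h x' c') :
    Nonempty (x ≅ x') ↔ ∃ g : Bool → Aut (pullObj hX.1 h η), ∀ i,
      c' i * res hX.1 η (D.j i) rfl (g false) = res hX.1 η (D.j i) rfl (g true) * c i := by
  obtain ⟨β, hβ⟩ := hx
  obtain ⟨β', hβ'⟩ := hx'
  constructor
  · rintro ⟨φ⟩
    let g : Bool → Aut (pullObj hX.1 h η) := fun b => fiberIso hX.1
      (fac hX.1 (β' b) ((β b).comp (φ.hom : Lift (𝟙 _) x x') (Category.comp_id _)) (𝟙 _)
        (Category.id_comp _))
    have hg : ∀ b, (g b).hom.1 ≫ (β' b).1 = (β b).1 ≫ φ.hom.1 := fun b =>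
      fac_comp hX.1 (β' b) ((β b).comp (φ.hom : Lift (𝟙 _) x x') (Category.comp_id _)) (𝟙 _)
        (Category.id_comp _)
    refine ⟨g, fun i => Iso.ext (fiber_hom_ext hX.1
      ((obMap hX.1 η (h := h) (D.j i) rfl).comp (β' true) rfl) ?_)⟩
    show (_ ≫ (c' i).hom.1) ≫ _ ≫ _ = ((c i).hom.1 ≫ _) ≫ _ ≫ _
    simp only [Category.assoc]
    rw [hβ', reassoc_of% (res_spec hX.1 η (D.j i) rfl (g false)),
      reassoc_of% (res_spec hX.1 η (D.j i) rfl (g true)), hg, hg, reassoc_of% (hβ i)]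
  · rintro ⟨g, hg⟩
    let γ : ∀ b, Lift (D.inj b) (pullObj hX.1 h η) x' := fun b =>
      Lift.comp ((g b).hom : Lift (𝟙 _) _ _) (β' b) (Category.id_comp _)
    have hi : ∀ i, (c i).hom.1 ≫ (obMap hX.1 η (h := h) (D.j i) rfl).1 ≫ (γ true).1 =
        (obMap hX.1 η (h := h) (D.j i) rfl).1 ≫ (γ false).1 := by
      intro i
      have h1 := congrArg (fun t => t.hom.1) (hg i)
      change (res hX.1 η (D.j i) rfl (g false)).hom.1 ≫ (c' i).hom.1 =
        (c i).hom.1 ≫ (res hX.1 η (D.j i) rfl (g true)).hom.1 at h1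
      show _ ≫ _ ≫ _ ≫ _ = _ ≫ _ ≫ _
      rw [← reassoc_of% (res_spec hX.1 η (D.j i) rfl (g true)), ← reassoc_of% h1, hβ',
        reassoc_of% (res_spec hX.1 η (D.j i) rfl (g false))]
    -- on the union the two trivialisations differ by the glued automorphism
    obtain ⟨cV, hcV⟩ := exists_glue_aut hX η D h c
    have hVrel : ∀ {y : 𝒳.p.Fiber D.Dbl} (δ : ∀ b, Lift (D.inj b) (pullObj hX.1 h η) y),
        (∀ i, (c i).hom.1 ≫ (obMap hX.1 η (h := h) (D.j i) rfl).1 ≫ (δ true).1 =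
          (obMap hX.1 η (h := h) (D.j i) rfl).1 ≫ (δ false).1) →
        cV.hom.1 ≫ (obMap hX.1 η (h := h) D.vι rfl).1 ≫ (δ true).1 =
          (obMap hX.1 η (h := h) D.vι rfl).1 ≫ (δ false).1 := by
      intro y δ hδ
      have := lift_ext_cover hX D.wV_cover
        (fun i => obMap hX.1 η (h := D.vι ≫ h) (h' := D.j i ≫ h) (D.wV i) (by rw [D.wV_vι_assoc]))
        (a := Lift.comp (cV.hom : Lift (𝟙 _) _ _)
          ((obMap hX.1 η (h := h) D.vι rfl).comp (δ true) D.vι_inj.symm) (Category.id_comp _))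
        (b := (obMap hX.1 η (h := h) D.vι rfl).comp (δ false) rfl) (fun i => by
          simp only [Lift.comp_val]
          rw [← reassoc_of% (res_spec hX.1 η (D.wV i) _ cV), hcV,
            ← Category.assoc (obMap hX.1 η (D.wV i) _).1, obMap_comp]
          rw [obMap_congr hX.1 η (D.wV_vι i) (by rw [D.wV_vι])]
          refine (hδ i).trans ?_
          rw [← Category.assoc (obMap hX.1 η (D.wV i) _).1, obMap_comp,
            obMap_congr hX.1 η (D.wV_vι i) (by rw [D.wV_vι])])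
      exact congrArg Subtype.val this
    obtain ⟨φ, hφ⟩ := exists_glue_hom hX D.inj_cover β γ (by
      intro Z z b b' l l' m m' e
      have hl : l ≫ D.inj b = l' ≫ D.inj b' := by
        exact Lift.base_unique (m.comp (β b) rfl) (m'.comp (β b') rfl) e
      have := D.eq_of_inj hl
      subst this
      have main : ∀ (m m' : Lift l z (pullObj hX.1 h η)), l ≫ D.inj false = l ≫ D.inj true →
          m.1 ≫ (β false).1 = m'.1 ≫ (β true).1 →
          m.1 ≫ (γ false).1 = m'.1 ≫ (γ true).1 := by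
        intro m m' hzz e
        obtain ⟨v, hv⟩ := D.exists_fac_V l hzz
        let mt := fac hX.1 (obMap hX.1 η (h := h) D.vι rfl) m v hv
        have hmt := fac_comp hX.1 (obMap hX.1 η (h := h) D.vι rfl) m v hv
        have hm' : m' = (mt.comp ((cV.hom : Lift (𝟙 _) _ _)) (Category.comp_id _)).comp
            (obMap hX.1 η (h := h) D.vι rfl) hv := Lift.hom_ext hX.1 (β true) (by
          simp only [Lift.comp_val, Category.assoc]
          rw [hVrel β hβ, ← e, ← Category.assoc]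
          exact congrArg (· ≫ _) hmt.symm)
        rw [hm']
        simp only [Lift.comp_val, Category.assoc]
        rw [hVrel γ hi, ← Category.assoc]
        exact congrArg (· ≫ _) hmt.symm
      cases b <;> cases b'
      · rw [Lift.hom_ext hX.1 (β false) e]
      · exact main m m' hl e
      · exact (main m' m hl.symm e.symm).symm
      · rw [Lift.hom_ext hX.1 (β true) e])
    exact ⟨fiberIso hX.1 φ⟩

end Groth.Misc10.IsoNat
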