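import Groth.Agent.Misc10.IsoNat.Cls
import Groth.Agent.StkBase.Descent2
import Groth.Agent.AlgSpBasic.Topology

/-!
# Gluing morphisms between fibre objects along a covering family
-/

set_option autoImplicit false
set_option backward.isDefEq.respectTransparency false
set_option backward.isDefEq.respectTransparency.types false

universe u w

open CategoryTheory AlgebraicGeometry
open Groth.StkBase

namespace Groth.Misc10.IsoNat

variable {S : Scheme.{u}} {𝒳 : AlgSt.Cat S}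

theorem overCat_isHomLift {U : Over S} {g g' : Over U} (f : g ⟶ g') :
    (FibCat.overCat U).p.IsHomLift f.left f :=
  IsHomLift.map (Over.forget U) f

theorem overFunctor_map_pullLift (hg : FibCat.IsFibGrpd 𝒳.p) {U : Over S} (x : 𝒳.p.Fiber U)
    {g g' : Over U} (f : g ⟶ g') :
    (overFunctor hg x.1 x.2).map f ≫ (pullLift hg g'.hom x).1 = (pullLift hg g.hom x).1 :=
  factor_comp hg _ _ _ (by
    have := Over.w f
    simp [liftMap_p, reassoc_of% this])

theorem isPrestack_of_isAlgStack {𝒳 : AlgSt.Cat S}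
    (h : AlgSt.IsAlgStack Scheme.fppfPrecoverage 𝒳) : Stk.IsPrestack (AlgSp.J S) 𝒳 :=
  isPrestack_of_isStack h.isStack

variable {κ : Type w} {W : κ → Over S} {Y : Over S} {j : ∀ k, W k ⟶ Y}
variable {x x' : 𝒳.p.Fiber Y} {w : ∀ k, 𝒳.p.Fiber (W k)}

/-- Morphisms glue along a covering family. -/
theorem exists_glue_hom (hX : Stk.IsPrestack (AlgSp.J S) 𝒳)
    (hcov : Sieve.ofArrows W j ∈ AlgSp.J S Y)
    (β : ∀ k, Lift (j k) (w k) x) (γ : ∀ k, Lift (j k) (w k) x')
    (compat : ∀ {Z : Over S} (z : 𝒳.p.Fiber Z) (k k' : κ) (l : Z ⟶ W k) (l' : Z ⟶ W k')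
      (m : Lift l z (w k)) (m' : Lift l' z (w k')), m.1 ≫ (β k).1 = m'.1 ≫ (β k').1 →
        m.1 ≫ (γ k).1 = m'.1 ≫ (γ k').1) :
    ∃ φ : x ⟶ x', ∀ k, (β k).1 ≫ φ.1 = (γ k).1 := by
  have hg := hX.1
  let Ga := overFunctor hg x.1 x.2
  let Gb := overFunctor hg x'.1 x'.2
  obtain ⟨hfull, -⟩ := hX.2 _ hcov
  -- the component at an object of the slice lying in the sieve
  have key : ∀ (g : Over Y), Sieve.ofArrows W j g.hom →
      ∃ χ : pullObj hg g.hom x ⟶ pullObj hg g.hom x', ∀ (k : κ) (l : g.left ⟶ W k)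
        (m : Lift l (pullObj hg g.hom x) (w k)), m.1 ≫ (β k).1 = (pullLift hg g.hom x).1 →
          χ.1 ≫ (pullLift hg g.hom x').1 = m.1 ≫ (γ k).1 := by
    intro g hgm
    obtain ⟨Z, l₀, q, ⟨k₀⟩, e₀⟩ := hgm
    let m₀ := fac hg (β k₀) (pullLift hg g.hom x) l₀ e₀
    let t : Lift g.hom (pullObj hg g.hom x) x' := m₀.comp (γ k₀) e₀
    refine ⟨fac hg (pullLift hg g.hom x') t (𝟙 _) (Category.id_comp _), fun k l m hm => ?_⟩
    rw [fac_comp]
    exact (compat _ k k₀ l l₀ m m₀ (hm.trans (fac_comp ..).symm)).symm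
  choose χ hχ using key
  let G₁ := (Stk.resSieve (Sieve.ofArrows W j) 𝒳).obj Ga
  let G₂ := (Stk.resSieve (Sieve.ofArrows W j) 𝒳).obj Gb
  let α : G₁ ⟶ G₂ :=
    { app := fun a => (χ a.obj a.property).1
      naturality := fun a b f => by
        change (Ga.map f.hom) ≫ _ = _ ≫ (Gb.map f.hom)
        obtain ⟨Z, l₀, q, ⟨k₀⟩, e₀⟩ := b.property
        have hlift := overCat_isHomLift f.hom
        let mb := fac hg (β k₀) (pullLift hg b.obj.hom x) l₀ e₀
        have hmb := fac_comp hg (β k₀) (pullLift hg b.obj.hom x) l₀ e₀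
        have hw : f.hom.left ≫ b.obj.hom = a.obj.hom := Over.w f.hom
        let F : Lift f.hom.left (pullObj hg a.obj.hom x) (pullObj hg b.obj.hom x) :=
          ⟨Ga.map f.hom, Ga.preserves_isHomLift f.hom.left f.hom⟩
        let F' : Lift f.hom.left (pullObj hg a.obj.hom x') (pullObj hg b.obj.hom x') :=
          ⟨Gb.map f.hom, Gb.preserves_isHomLift f.hom.left f.hom⟩
        have hF : F.1 ≫ (pullLift hg b.obj.hom x).1 = (pullLift hg a.obj.hom x).1 :=
          overFunctor_map_pullLift hg x f.hom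
        have hF' : F'.1 ≫ (pullLift hg b.obj.hom x').1 = (pullLift hg a.obj.hom x').1 :=
          overFunctor_map_pullLift hg x' f.hom
        have hb := hχ b.obj b.property k₀ l₀ mb hmb
        let ma : Lift (f.hom.left ≫ l₀) (pullObj hg a.obj.hom x) (w k₀) := F.comp mb rfl
        have ha := hχ a.obj a.property k₀ _ ma (show (F.1 ≫ mb.1) ≫ (β k₀).1 = _ by
            rw [Category.assoc]; exact (congrArg (F.1 ≫ ·) hmb).trans hF)
        have := Lift.hom_ext hg (pullLift hg b.obj.hom x')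
          (χ := F.comp (χ b.obj b.property : Lift (𝟙 _) _ _) (Category.comp_id _))
          (χ' := Lift.comp (χ a.obj a.property : Lift (𝟙 _) _ _) F' (Category.id_comp _))
          (by simp [hb, hF', ha, ma])
        exact congrArg Subtype.val this
      isHomLift' := fun a => (χ a.obj a.property).2 }
  obtain ⟨α', hα'⟩ := (Stk.resSieve (Sieve.ofArrows W j) 𝒳).map_surjective α
  let i : pullObj hg (𝟙 Y) x ⟶ x := pullLift hg (𝟙 Y) x
  let i' : pullObj hg (𝟙 Y) x' ⟶ x' := pullLift hg (𝟙 Y) x'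
  have := fiber_isIso hg i
  let mid : pullObj hg (𝟙 Y) x ⟶ pullObj hg (𝟙 Y) x' :=
    ⟨α'.toNatTrans.app (idObj Y), α'.isHomLift' (idObj Y)⟩
  refine ⟨inv i ≫ mid ≫ i', fun k => ?_⟩
  let a : (Stk.sieveCat (Sieve.ofArrows W j)).obj :=
    ⟨Over.mk (j k), W k, 𝟙 _, j k, ⟨k⟩, Category.id_comp _⟩
  have happ : α'.toNatTrans.app (Over.mk (j k)) = (χ a.obj a.property).1 := by
    exact (resSieve_map_app _ α' a).symm.trans
      (congrArg (fun (t : G₁ ⟶ G₂) => t.toNatTrans.app a) hα')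
  let mk' := fac hg (pullLift hg (j k) x) (β k) (𝟙 _) (Category.id_comp _)
  have hmk : mk'.1 ≫ (pullLift hg (j k) x).1 = (β k).1 := fac_comp ..
  let mk'' : w k ⟶ pullObj hg (j k) x := mk'
  have := fiber_isIso hg mk''
  let n : Lift (𝟙 _) (pullObj hg (j k) x) (w k) := inv mk''
  have hn : n.1 ≫ (β k).1 = (pullLift hg (j k) x).1 := by
    have h' := congrArg Subtype.val (IsIso.inv_hom_id mk'')
    rw [fiber_comp_val, fiber_id_val] at h'
    rw [← hmk, ← Category.assoc]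
    exact (congrArg (· ≫ _) h').trans (Category.id_comp _)
  have hk := hχ a.obj a.property k (𝟙 _) n hn
  have htoA : Ga.map (toId (Over.mk (j k))) ≫ i.1 = (pullLift hg (j k) x).1 :=
    overFunctor_map_pullLift hg x (toId (Over.mk (j k)))
  have htoB : Gb.map (toId (Over.mk (j k))) ≫ i'.1 = (pullLift hg (j k) x').1 :=
    overFunctor_map_pullLift hg x' (toId (Over.mk (j k)))
  have hnat := α'.toNatTrans.naturality (toId (Over.mk (j k)))
  have hcore : (pullLift hg (j k) x).1 ≫ (inv i ≫ mid ≫ i').1 = n.1 ≫ (γ k).1 := by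
    rw [← htoA]
    have h' := congrArg Subtype.val (IsIso.hom_inv_id i)
    simp only [fiber_comp_val, fiber_id_val, Category.assoc] at h' ⊢
    rw [reassoc_of% h']
    show Ga.map (toId (Over.mk (j k))) ≫ α'.toNatTrans.app (idObj Y) ≫ i'.1 = _
    rw [reassoc_of% hnat, happ, htoB]
    exact hk
  rw [← hmk, Category.assoc, hcore]
  have h' := congrArg Subtype.val (IsIso.hom_inv_id mk'')
  rw [fiber_comp_val, fiber_id_val] at h'
  rw [← Category.assoc]
  exact (congrArg (· ≫ _) h').trans (Category.id_comp _)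

/-- Morphisms which agree on a covering family agree. -/
theorem hom_ext_cover (hX : Stk.IsPrestack (AlgSp.J S) 𝒳)
    (hcov : Sieve.ofArrows W j ∈ AlgSp.J S Y)
    (β : ∀ k, Lift (j k) (w k) x) {φ φ' : x ⟶ x'}
    (h : ∀ k, (β k).1 ≫ φ.1 = (β k).1 ≫ φ'.1) : φ = φ' := by
  obtain ⟨a, rfl⟩ := x
  obtain ⟨-, hfaith⟩ := hX.2 _ hcov
  refine Subtype.ext (vert_hom_ext_of_local hX.1 _ hfaith (isVert_of_isHomLift φ.2)
    (isVert_of_isHomLift φ'.2) fun a' l hl => ?_)
  obtain ⟨Z, l₀, q, ⟨k⟩, e⟩ := hl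
  let z : 𝒳.p.Fiber (𝒳.p.obj a') := ⟨a', rfl⟩
  let L : Lift (𝒳.p.map l) z ⟨a, rfl⟩ := ⟨l, IsHomLift.map 𝒳.p l⟩
  let m := fac hX.1 (β k) L l₀ e
  have hm : m.1 ≫ (β k).1 = l := fac_comp hX.1 (β k) L l₀ e
  rw [← hm, Category.assoc, Category.assoc, h k]

end Groth.Misc10.IsoNat
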