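import Groth.Agent.Misc10.IsoNat.Abelian

/-!
# Injectivity of restriction of automorphisms from the presheaf of isomorphism classes
-/

set_option autoImplicit false
set_option backward.isDefEq.respectTransparency false
set_option backward.isDefEq.respectTransparency.types false

universe u

open CategoryTheory CategoryTheory.Limits AlgebraicGeometry

noncomputable section

namespace Groth.Misc10.IsoNat

variable {S : Scheme.{u}} {𝒳 𝒴 : AlgSt.Cat S}

section Pr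

variable {T₀ T : Over S} (j : T₀ ⟶ T)

/-- The map of products induced by a map of first factors. -/
def mapT (A : CommRingCat.{u}) : Prd T₀ A ⟶ Prd T A :=
  Over.homMk (prod.map j.left (𝟙 _)) (by
    show _ ≫ prod.fst ≫ T.hom = prod.fst ≫ T₀.hom
    rw [prod.map_fst_assoc, Over.w j])

theorem mapT_prH (A : CommRingCat.{u}) : mapT j A ≫ prH T A = prH T₀ A ≫ j :=
  Over.OverMorphism.ext (prod.map_fst _ _)

variable {A B : Type u} [CommRing A] [CommRing B] [Algebra Zu.{u} A] [Algebra Zu.{u} B]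

theorem mapT_prMap (φ : A →ₐ[Zu.{u}] B) :
    mapT j (.of B) ≫ prMap T φ = prMap T₀ φ ≫ mapT j (.of A) :=
  Over.OverMorphism.ext (by
    show prod.map _ _ ≫ prod.map _ _ = prod.map _ _ ≫ prod.map _ _
    rw [prod.map_map, prod.map_map, Category.id_comp, Category.comp_id, Category.comp_id,
      Category.id_comp])

/-- The map of axes data. -/
def axBase (κ : Type) [DecidableEq κ] : Datum.Map (axD T₀ κ) (axD T κ) where
  σ := id
  f := mapT j _
  k _ := mapT j _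
  comm i := mapT_prMap j (Axes.punct i)

end Pr

variable (hX : Stk.IsPrestack (AlgSp.J S) 𝒳) {T₀ T : Over S} (j : T₀ ⟶ T) (η : 𝒳.p.Fiber T)

theorem res_autPull {W' W : Over S} {h : W ⟶ T} {h' : W' ⟶ T} (k : W' ⟶ W) (e : k ≫ h = h')
    (s : Aut η) : res hX.1 η k e (autPull hX.1 h η s) = autPull hX.1 h' η s := by
  refine res_unique hX.1 η k e _ _ (congrArg Subtype.val (Lift.hom_ext hX.1 (pullLift hX.1 h η)
    (χ := Lift.comp ((autPull hX.1 h' η s).hom : Lift (𝟙 _) _ _) (obMap hX.1 η k e) (Category.id_comp _))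
    (χ' := (obMap hX.1 η k e).comp ((autPull hX.1 h η s).hom : Lift (𝟙 _) _ _) (Category.comp_id _))
    ?_))
  simp only [Lift.comp_val, Category.assoc]
  have e₁ : (autPull hX.1 h η s).hom.1 ≫ (pullLift hX.1 h η).1 = (pullLift hX.1 h η).1 ≫ s.hom.1 :=
    autPullFun_spec hX.1 h η s
  have e₂ : (autPull hX.1 h' η s).hom.1 ≫ (pullLift hX.1 h' η).1 = (pullLift hX.1 h' η).1 ≫ s.hom.1 :=
    autPullFun_spec hX.1 h' η s
  rw [e₁, obMap_pullLift, e₂, ← Category.assoc, obMap_pullLift]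

/-- Automorphisms of the pullback of `η` to `T₀ × Spec A`. -/
abbrev G₀ (A : Type u) [CommRing A] := Aut (pullObj hX.1 (prH T₀ (.of A) ≫ j) η)

variable {A B C : Type u} [CommRing A] [CommRing B] [CommRing C]
  [Algebra Zu.{u} A] [Algebra Zu.{u} B] [Algebra Zu.{u} C]

/-- Restriction along a homomorphism of algebras. -/
def rr₀ (φ : A →ₐ[Zu.{u}] B) : G₀ hX j η A →* G₀ hX j η B :=
  resHom hX.1 η (prMap T₀ φ) (prMap_prH_assoc T₀ φ j)

/-- Restriction to the base. -/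
def down (A : Type u) [CommRing A] : G hX η A →* G₀ hX j η A :=
  resHom hX.1 η (mapT j (.of A)) (mapT_prH j _)

theorem down_rr (φ : A →ₐ[Zu.{u}] B) (g : G hX η A) :
    down hX j η B (rr hX η φ g) = rr₀ hX j η φ (down hX j η A g) := by
  simp only [rr, rr₀, down, resHom_apply]
  exact (res_res_eq hX.1 η _ _ _ (mapT_prMap j φ) _ _ g).trans
    (res_res_eq hX.1 η _ _ _ rfl _ _ g).symm

theorem rr₀_rr₀ (φ : A →ₐ[Zu.{u}] B) (ψ : B →ₐ[Zu.{u}] C) (g : G₀ hX j η A) :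
    rr₀ hX j η ψ (rr₀ hX j η φ g) = rr₀ hX j η (ψ.comp φ) g := by
  simp only [rr₀, resHom_apply]
  exact res_res_eq hX.1 η (prMap T₀ ψ) (prMap T₀ φ) (prMap T₀ (ψ.comp φ)) (prMap_comp T₀ φ ψ).symm _ _ g

theorem rr₀_id (g : G₀ hX j η A) : rr₀ hX j η (AlgHom.id Zu.{u} A) g = g := by
  simp only [rr₀, resHom_apply]
  exact res_eq_self hX η (prMap_id T₀) _ g

variable (hd : AlgSt.RepByAlgSpWith (AlgSp.IsSeparatedMor ⊓ AlgSp.IsQuasiCompactMor)
  (FibCat.diag (FibCat.toSelf 𝒳)))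

include hd in
theorem rr₀_toLaurent_injective :
    Function.Injective (rr₀ hX j η (Polynomial.toLaurentAlg (R := Zu.{u}))) := by
  intro g g' e
  have hk : IsSchDominant (prMap T₀ (Polynomial.toLaurentAlg (R := Zu.{u}))).left :=
    isSchDominant_prMap T₀ _ truncLin fun a => by rw [Polynomial.toLaurentAlg_apply]; exact truncLin_toLaurent a
  simp only [rr₀, resHom_apply] at e
  exact res_injective hX.1 η hd (h := prH T₀ (.of (Polynomial Zu.{u})) ≫ j)
    (h' := prH T₀ (.of Lr.{u}) ≫ j) _ (prMap_prH_assoc T₀ _ j) hk e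

theorem injective_res_of_isIso {W' W : Over S} {h : W ⟶ T} {h' : W' ⟶ T} (k : W' ⟶ W) [IsIso k]
    (e : k ≫ h = h') : Function.Injective (res hX.1 η k e) := by
  intro g g' hgg
  have key : ∀ a, res hX.1 η (inv k) (by rw [← e, IsIso.inv_hom_id_assoc]) (res hX.1 η k e a) = a :=
    fun a => (res_res_eq hX.1 η _ _ _ (IsIso.inv_hom_id k) _ _ a).trans (res_id hX.1 η a)
  rw [← key g, hgg, key g']

theorem down_toG_eq_one_iff (s : Aut η) :
    down hX j η Zu.{u} (toG hX η s) = 1 ↔ autPull hX.1 j η s = 1 := by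
  have := isIso_prH T₀
  have e : down hX j η Zu.{u} (toG hX η s) =
      res hX.1 η (prH T₀ (.of Zu.{u})) rfl (autPull hX.1 j η s) :=
    (res_autPull hX η _ (mapT_prH j (.of Zu.{u})) s).trans
      (res_autPull hX η (prH T₀ (.of Zu.{u})) (rfl : _ = prH T₀ (.of Zu.{u}) ≫ j) s).symm
  rw [e]
  refine ⟨fun h => injective_res_of_isIso hX η (prH T₀ (.of Zu.{u})) rfl (h.trans (res_one ..).symm),
    fun h => by rw [h, res_one]⟩

/-- The class of `θ` restricted to the base, when the loop is trivial there. -/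
theorem pullCls_θ_of_down_eq_one (hS : Stk.IsStack (AlgSp.J S) 𝒳) {s : G hX η Zu.{u}}
    (h : down hX j η Zu.{u} s = 1) :
    pullCls hX.1 (axBase j (Fin 2)).dbl (IsoNat.cls (θ hX η hS s)) =
      pullCls hX.1 ((axD T₀ (Fin 2)).fold ≫ prH T₀ (.of (Axes.{u} (Fin 2))) ≫ j) (IsoNat.cls η) := by
  rw [pullCls_cls', pullCls_cls']
  have h₁ := IsTw.pull hX η (axBase j (Fin 2)) (prH T (.of (Axes.{u} (Fin 2))))
    (prH T₀ (.of (Axes.{u} (Fin 2))) ≫ j) (mapT_prH j _) (θ_tw hX η hS s)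
  refine IsTw.iso hX η _ _ (c := fun _ => 1) ?_ (isTw_one hX η _ _)
  convert h₁ using 2 with i
  symm
  change Fin 2 at i
  show res hX.1 η (mapT j _) _ (toW hX η i (![1, cst hX η s] i)) = 1
  fin_cases i
  · show res hX.1 η (mapT j _) _ (toW hX η _ 1) = 1
    rw [map_one, res_one]
  · show res hX.1 η (mapT j _) _ (toW hX η _ (cst hX η s)) = 1
    simp only [toW, cst, rr, resHom_apply]
    have e₁ := res_res_eq hX.1 η (𝟙 (Prd T (.of Lr.{u}))) (prMap T (Algebra.ofId Zu.{u} Lr.{u})) _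
      (Category.id_comp _) ((Category.id_comp _).trans (prMap_prH T (Axes.punct (1 : Fin 2))).symm)
      (prMap_prH T _) s
    refine (congrArg (res hX.1 η (mapT j _) _) e₁).trans ?_
    refine (res_res_eq hX.1 η _ _ _ (mapT_prMap j _) _ _ s).trans ?_
    refine (res_res_eq hX.1 η (h := prH T (.of Zu.{u})) (h' := prH T₀ (.of Zu.{u}) ≫ j)
      (prMap T₀ (Algebra.ofId Zu.{u} Lr.{u})) (mapT j (.of Zu.{u})) _ rfl ?_ (mapT_prH j _) s).symm.trans ?_
    · show _ = prMap T₀ (Axes.punct (1 : Fin 2)) ≫ prH T₀ (.of (Axes.{u} (Fin 2))) ≫ j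
      exact (prMap_prH_assoc T₀ _ j).trans (prMap_prH_assoc T₀ _ j).symm
    · rw [show res hX.1 η (mapT j (.of Zu.{u})) (mapT_prH j _) s = 1 from h, res_one]

include hd in
/-- If the class of `θ` restricts to the trivial class, the loop is trivial there. -/
theorem down_eq_one_of_pullCls_θ (hS : Stk.IsStack (AlgSp.J S) 𝒳) {s : G hX η Zu.{u}}
    (h : pullCls hX.1 (axBase j (Fin 2)).dbl (IsoNat.cls (θ hX η hS s)) =
      pullCls hX.1 ((axD T₀ (Fin 2)).fold ≫ prH T₀ (.of (Axes.{u} (Fin 2))) ≫ j) (IsoNat.cls η)) :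
    down hX j η Zu.{u} s = 1 := by
  rw [pullCls_cls', pullCls_cls'] at h
  obtain ⟨g, hg⟩ := (hom_iso_tw hX η _ _
    (IsTw.pull hX η (axBase j (Fin 2)) (prH T (.of (Axes.{u} (Fin 2))))
      (prH T₀ (.of (Axes.{u} (Fin 2))) ≫ j) (mapT_prH j _) (θ_tw hX η hS s))
    (isTw_one hX η _ _)).1 (cls_eq_iff.1 h)
  let back : ∀ i : Fin 2, Aut (pullObj hX.1 ((axD T₀ (Fin 2)).j i ≫ prH T₀ (.of (Axes.{u} (Fin 2))) ≫ j) η) →*
      G₀ hX j η Lr.{u} := fun i => resHom hX.1 η (𝟙 (Prd T₀ (.of Lr.{u})))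
    ((Category.id_comp _).trans (prMap_prH_assoc T₀ (Axes.punct i) j))
  have hb₁ : ∀ (i : Fin 2) (y : G₀ hX j η (Axes.{u} (Fin 2))),
      back i (res hX.1 η ((axD T₀ (Fin 2)).j i) rfl y) =
        rr₀ hX j η Polynomial.toLaurentAlg (rr₀ hX j η (Axes.proj i) y) := fun i y => by
    rw [rr₀_rr₀]
    exact res_res_eq hX.1 η _ _ _ (Category.id_comp _) _ _ y
  have key : ∀ i : Fin 2, rr₀ hX j η Polynomial.toLaurentAlg (rr₀ hX j η (Axes.proj i) (g false)) =
      rr₀ hX j η Polynomial.toLaurentAlg (rr₀ hX j η (Axes.proj i) (g true)) *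
        down hX j η Lr.{u} (![1, cst hX η s] i) := fun i => by
    have e := congrArg (back i) (hg i)
    rw [map_mul, map_mul, hb₁, hb₁, map_one, one_mul] at e
    refine e.trans (congrArg (_ * ·) ?_)
    refine (res_res_eq hX.1 η _ _ _ (Category.id_comp _) _ _ _).trans ?_
    exact res_res_eq hX.1 η _ _ _ (Category.comp_id _) _ _ _
  have k₀ := key 0
  have k₁ := key 1
  change _ = _ * down hX j η Lr.{u} 1 at k₀
  change _ = _ * down hX j η Lr.{u} (cst hX η s) at k₁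
  rw [map_one, mul_one] at k₀
  have e₀ := rr₀_toLaurent_injective hX j η hd k₀
  rw [cst, show Algebra.ofId Zu.{u} Lr.{u} = (Polynomial.toLaurentAlg (R := Zu.{u})).comp
      (Algebra.ofId Zu.{u} (Polynomial Zu.{u})) from Subsingleton.elim _ _, ← rr_rr, down_rr,
    ← map_mul] at k₁
  have e₁ := rr₀_toLaurent_injective hX j η hd k₁
  have f₀ := congrArg (rr₀ hX j η Axes.zero₁) e₀
  have f₁ := congrArg (rr₀ hX j η Axes.zero₁) e₁
  rw [rr₀_rr₀, rr₀_rr₀, Axes.zero₁_comp_proj] at f₀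
  rw [map_mul, rr₀_rr₀, rr₀_rr₀, Axes.zero₁_comp_proj, down_rr, rr₀_rr₀,
    show Axes.zero₁.comp (Algebra.ofId Zu.{u} (Polynomial Zu.{u})) = AlgHom.id Zu.{u} Zu.{u} from
      Subsingleton.elim _ _, rr₀_id, f₀] at f₁
  exact mul_eq_left.1 f₁.symm

/-- A constant class comes from a loop, without commutativity. -/
theorem exists_θ_of_isConst (hS : Stk.IsStack (AlgSp.J S) 𝒳)
    {a : IsoNat.IsoCl 𝒳 (AxDbl T (Fin 2))} (ha : IsConst hX.1 (IsoNat.cls η) a) :
    ∃ s, IsoNat.cls (θ hX η hS s) = a := by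
  obtain ⟨x, c, rfl, hx⟩ := exists_Tw_of_locTriv hX η ha.1
  have he : ∀ i, ∃ k : G hX η (Polynomial Zu.{u}), rr hX η Polynomial.toLaurentAlg k = c i := by
    intro i
    obtain ⟨g, hg⟩ := (Tw.pullCls_eq_iff hX η (fun _ : Fin 1 => i)
      (Function.injective_of_subsingleton _) hx (Tw_one hX η)).1
        ((ha.2 i).trans (pullCls_cls' hX.1 _ η))
    refine ⟨rr hX η (Axes.proj 0) ((g true)⁻¹ * g false), ?_⟩
    rw [← rr_punct, map_mul, map_inv, inv_mul_eq_iff_eq_mul]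
    exact (one_mul _).symm.trans (hg 0)
  choose k hk using he
  let z : Fin 2 → G hX η Zu.{u} := fun i => rr hX η Axes.zero₁ (k i)
  let h : G hX η Zu.{u} := z 1 * (z 0)⁻¹
  let F : G hX η (Axes.{u} (Fin 2)) :=
    rr hX η (Axes.sect 0) (k 0) * (cst hX η (z 0))⁻¹ *
      rr hX η (Axes.sect 1) ((cst hX η h)⁻¹ * k 1)
  refine ⟨h, (((hx.cls_eq_iff hX η (θ_tw hX η hS h)).2 ⟨fun b => bif b then 1 else F, fun j => ?_⟩)).symm⟩
  have hsame : ∀ (i : Fin 2) y, rr hX η (Axes.punct i) (rr hX η (Axes.sect i) y) =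
      rr hX η Polynomial.toLaurentAlg y := fun i y => by
    rw [rr_punct, rr_rr hX η (Axes.sect i) (Axes.proj i), Axes.proj_comp_sect, rr_id]
  have hne : ∀ (i l : Fin 2) y, i ≠ l →
      rr hX η (Axes.punct l) (rr hX η (Axes.sect i) y) = cst hX η (rr hX η Axes.zero₁ y) := fun i l y hil => by
    rw [rr_punct, rr_rr hX η (Axes.sect i) (Axes.proj l), Axes.proj_comp_sect_ne hil,
      ← rr_rr hX η Axes.zero₁]
    exact rr_cst hX η _ _
  show ![1, cst hX η h] j * rr hX η (Axes.punct j) F = rr hX η (Axes.punct j) 1 * c j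
  rw [map_one, one_mul]
  simp only [F, map_mul, map_inv, rr_cst]
  obtain rfl | rfl : j = (0 : Fin 2) ∨ j = (1 : Fin 2) := by revert j; decide
  · rw [hsame, hne 1 0 _ (by decide), hk]
    simp [z, h, map_mul, map_inv, rr_cst, cst_self]
  · rw [hne 0 1 _ (by decide), hsame, hk]
    simp [z, h, mul_assoc]

include hd in
theorem θ_eq_trivial (hS : Stk.IsStack (AlgSp.J S) 𝒳) {s : G hX η Zu.{u}}
    (e : IsoNat.cls (θ hX η hS s) =
      IsoNat.cls (pullObj hX.1 ((axD T (Fin 2)).fold ≫ prH T (.of (Axes.{u} (Fin 2)))) η)) : s = 1 := by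
  obtain ⟨g, hg⟩ := ((θ_tw hX η hS s).cls_eq_iff hX η (Tw_one hX η)).1 e
  have e0 : rr hX η (Axes.zero (Fin 2)) (g true) * 1 =
      1 * rr hX η (Axes.zero (Fin 2)) (g false) :=
    rr_zero_eq' hX η hd (0 : Fin 2) (by simpa using (hg 0).symm)
  have e1 : rr hX η (Axes.zero (Fin 2)) (g true) * s =
      1 * rr hX η (Axes.zero (Fin 2)) (g false) :=
    rr_zero_eq' hX η hd (1 : Fin 2) (by simpa using (hg 1).symm)
  rw [← e0, mul_one] at e1
  exact mul_eq_left.1 e1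

theorem θ_one (hS : Stk.IsStack (AlgSp.J S) 𝒳) :
    IsoNat.cls (θ hX η hS 1) =
      IsoNat.cls (pullObj hX.1 ((axD T (Fin 2)).fold ≫ prH T (.of (Axes.{u} (Fin 2)))) η) :=
  ((θ_tw hX η hS 1).cls_eq_iff hX η (Tw_one hX η)).2 ⟨fun _ => 1, fun i => by
    rw [map_one, one_mul, one_mul]
    fin_cases i <;> simp⟩

/-- Restriction of automorphisms along `j` is injective. -/
def KerTriv (hg : FibCat.IsFibGrpd 𝒳.p) {T₀ T : Over S} (j : T₀ ⟶ T) (η : 𝒳.p.Fiber T) : Prop :=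
  ∀ s : Aut η, autPull hg j η s = 1 → s = 1

/-- Injectivity of restriction of automorphisms is detected by classes. -/
theorem kerTriv_of_cls (φ : IsoNat.FIso 𝒳 𝒴) (hSX : Stk.IsStack (AlgSp.J S) 𝒳)
    (hSY : Stk.IsStack (AlgSp.J S) 𝒴)
    (hdX : AlgSt.RepByAlgSpWith (AlgSp.IsSeparatedMor ⊓ AlgSp.IsQuasiCompactMor)
      (FibCat.diag (FibCat.toSelf 𝒳)))
    (hdY : AlgSt.RepByAlgSpWith (AlgSp.IsSeparatedMor ⊓ AlgSp.IsQuasiCompactMor)
      (FibCat.diag (FibCat.toSelf 𝒴)))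
    {ξ : 𝒳.p.Fiber T} {η : 𝒴.p.Fiber T} (e : φ.toEquiv T (IsoNat.cls ξ) = IsoNat.cls η)
    (h : KerTriv (Groth.StkBase.isPrestack_of_isStack hSX).1 j ξ) :
    KerTriv (Groth.StkBase.isPrestack_of_isStack hSY).1 j η := by
  intro γ hγ
  have hX₁ := Groth.StkBase.isPrestack_of_isStack hSX
  have hY₁ := Groth.StkBase.isPrestack_of_isStack hSY
  have hgX := hX₁.1
  have hgY := hY₁.1
  let θY := IsoNat.cls (θ hY₁ η hSY (toG hY₁ η γ))
  let a := (φ.toEquiv _).symm θY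
  have ha' : φ.toEquiv _ a = θY := Equiv.apply_symm_apply _ _
  have ha : IsConst hgX (IsoNat.cls ξ) a := by
    rw [← isConst_iff φ hgX hgY, e, ha']
    exact isConst_θ hY₁ η hSY _
  obtain ⟨s, hs⟩ := exists_θ_of_isConst hX₁ ξ hSX ha
  have h₀ : down hX₁ j ξ Zu.{u} s = 1 := by
    refine down_eq_one_of_pullCls_θ hX₁ j ξ hdX hSX ?_
    rw [hs]
    apply (φ.toEquiv _).injective
    rw [toEquiv_pullCls φ hgX hgY, toEquiv_pullCls φ hgX hgY, ha', e]
    exact pullCls_θ_of_down_eq_one hY₁ j η hSY ((down_toG_eq_one_iff hY₁ j η γ).2 hγ)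
  obtain ⟨s₀, rfl⟩ := (toG_bijective hX₁ ξ).surjective s
  rw [h s₀ ((down_toG_eq_one_iff hX₁ j ξ s₀).1 h₀), map_one, θ_one, ← pullCls_cls'] at hs
  apply (toG_bijective hY₁ η).injective
  rw [map_one]
  refine θ_eq_trivial hY₁ η hdY hSY ?_
  show θY = _
  rw [← ha', ← hs, toEquiv_pullCls φ hgX hgY, e, pullCls_cls']

end Groth.Misc10.IsoNat
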