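import Groth.Agent.Misc10.IsoNat.LiftTrick
import Groth.Agent.Misc10.IsoNat.AffineCharts
import Groth.Agent.CategoryFibred.Functors
import Groth.Agent.SpectralTopology.FpCancel

/-!
# Local finite presentation is detected by the presheaves of isomorphism classes
-/

set_option autoImplicit false
set_option backward.isDefEq.respectTransparency false
set_option backward.isDefEq.respectTransparency.types false

universe u

open CategoryTheory CategoryTheory.Limits AlgebraicGeometry Opposite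
open Groth.StkBase Groth.AlgStBasic Groth.AlgSpBasic

noncomputable section

namespace Groth.Misc10.IsoNat

variable {S : Scheme.{u}} {𝒳 𝒴 𝒳' 𝒴' : AlgSt.Cat S}

/-- A section of an atlas on an etale surjective cover. -/
theorem exists_atlas_lift {F : AlgSp.Sp S} {P : Over S} {r : (AlgSp.yon S).obj P ⟶ F}
    (hr : AlgSp.RepWith @Etale r) (hrs : AlgSp.RepWith @Surjective r) {T : Over S}
    (t : (AlgSp.yon S).obj T ⟶ F) :
    ∃ (T' : Over S) (g : T' ⟶ T) (s : T' ⟶ P), Etale g.left ∧ Surjective g.left ∧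
      (AlgSp.yon S).map g ≫ t = (AlgSp.yon S).map s ≫ r := by
  obtain ⟨T', fst, snd, sq⟩ := exists_pullback_yon hr.rep t
  exact ⟨T', snd, fst, hr.property t _ snd sq, hrs.property t _ snd sq, sq.w.symm⟩

/-- A morphism whose sections factor locally through a scheme of finite presentation. -/
theorem locP_lfp_of_local_factor {F : AlgSp.Sp S} {A C : Over S} (hF : AlgSp.IsAlgSpace F)
    (q : F ⟶ (AlgSp.yon S).obj A) (m : (AlgSp.yon S).obj C ⟶ F) (c : C ⟶ A)
    (hc : LocallyOfFinitePresentation c.left) (hm : m ≫ q = (AlgSp.yon S).map c)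
    (h : ∀ (T : Over S) (t : (AlgSp.yon S).obj T ⟶ F), ∃ (T' : Over S) (g : T' ⟶ T) (s : T' ⟶ C),
      Etale g.left ∧ Surjective g.left ∧ (AlgSp.yon S).map g ≫ t = (AlgSp.yon S).map s ≫ m) :
    AlgSp.LocP @LocallyOfFinitePresentation q := by
  intro U V a b k ha hb hk
  obtain ⟨j, hj⟩ := (AlgSp.yon S).map_surjective b
  subst hj
  have hj' : Etale j.left := (AlgSp.repWith_yon_map_iff _ _).1 hb
  obtain ⟨T', g, s, hg, hgs, e⟩ := h U a
  obtain ⟨R, fst, snd, sq⟩ := exists_pullback_yon ha.rep m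
  have hsnd : Etale snd.left := ha.property m _ snd sq
  obtain ⟨σ, hσ⟩ := (AlgSp.yon S).map_surjective
    (sq.lift ((AlgSp.yon S).map g) ((AlgSp.yon S).map s) e)
  have h₁ : σ ≫ fst = g := (AlgSp.yon S).map_injective (by rw [Functor.map_comp, hσ, sq.lift_fst])
  have hkj : k ≫ j = (k ≫ j) := rfl
  have hR : fst ≫ k ≫ j = snd ≫ c := (AlgSp.yon S).map_injective (by
    rw [Functor.map_comp, Functor.map_comp, ← hk, ← Category.assoc, sq.w, Category.assoc, hm,
      Functor.map_comp])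
  have hRA : LocallyOfFinitePresentation (fst.left ≫ k.left ≫ j.left) := by
    rw [show fst.left ≫ k.left ≫ j.left = snd.left ≫ c.left from congrArg CommaMorphism.left hR]
    infer_instance
  have hfst : LocallyOfFiniteType fst.left := locallyOfFiniteType_of_comp fst.left (k.left ≫ j.left)
  have hσ' : LocallyOfFinitePresentation σ.left := by
    have : LocallyOfFinitePresentation (σ.left ≫ fst.left) := by
      rw [show σ.left ≫ fst.left = g.left from congrArg CommaMorphism.left h₁]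
      infer_instance
    exact Groth.SpectralTopology.lfp_of_comp σ.left fst.left
  have hT : LocallyOfFinitePresentation (g.left ≫ k.left ≫ j.left) := by
    rw [show g.left = σ.left ≫ fst.left from (congrArg CommaMorphism.left h₁).symm, Category.assoc]
    infer_instance
  have hkj' : LocallyOfFinitePresentation (k.left ≫ j.left) :=
    EtaleLocal.of_comp_surjective g.left (k.left ≫ j.left) hg hgs hT
  exact Groth.SpectralTopology.lfp_of_comp k.left j.left

variable {V : Over S} {f' : 𝒳' ⥤ᵇ 𝒴'} {v : FibCat.overCat V ⥤ᵇ 𝒴'} {P : Over S}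

/-- The automorphism of the structure functor of the inertia. -/
def inertiaAut (𝒵 : AlgSt.Cat S) :
    FibCat.inertiaToBase (FibCat.toSelf 𝒵) ≅ FibCat.inertiaToBase (FibCat.toSelf 𝒵) :=
  isoMk (fun w => w.aut) (fun {a b} g => g.comm.symm)
    (fun w => ⟨rfl, w.map_aut⟩)

variable (f' v) in
/-- Twisting a family of points by automorphisms. -/
def twistPts (cP : P ⟶ V) (xP : FibCat.overCat P ⥤ᵇ 𝒳')
    (α : BasedFunctor.comp (AlgSt.overMap cP) v ≅ BasedFunctor.comp xP f') :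
    FibCat.fp (BasedFunctor.comp (AlgSt.overMap cP) v) (FibCat.inertiaToBase (FibCat.toSelf 𝒴')) ⥤ᵇ
      FibCat.fp v f' :=
  FibCat.fpLift
    (BasedFunctor.comp (FibCat.fpFst _ _) (AlgSt.overMap cP)) (BasedFunctor.comp (FibCat.fpFst _ _) xP)
    ((((FibCat.fpIso _ _).trans (whiskerLeftIso (FibCat.fpSnd _ _) (inertiaAut 𝒴'))).trans
      (FibCat.fpIso _ _).symm).trans (whiskerLeftIso (FibCat.fpFst _ _) α))

theorem twistPts_clsBase (cP : P ⟶ V) (xP : FibCat.overCat P ⥤ᵇ 𝒳')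
    (α : BasedFunctor.comp (AlgSt.overMap cP) v ≅ BasedFunctor.comp xP f') {T : Over S}
    (z : IsoNat.IsoCl (FibCat.fp (BasedFunctor.comp (AlgSt.overMap cP) v)
      (FibCat.inertiaToBase (FibCat.toSelf 𝒴'))) T) :
    clsBase (IsoNat.mapCls (twistPts f' v cP xP α) T z) = clsBase z ≫ cP := by
  obtain ⟨o, rfl⟩ := exists_cls z
  show _ ≫ (o.1.obj.fst.hom ≫ cP) = (_ ≫ o.1.obj.fst.hom) ≫ cP
  rw [Category.assoc]

/-- The point of a twisted family with a prescribed automorphism. -/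
theorem exists_twistPts_eq (hY : FibCat.IsFibGrpd 𝒴'.p) (hX : FibCat.IsFibGrpd 𝒳'.p)
    (cP : P ⟶ V) (xP : FibCat.overCat P ⥤ᵇ 𝒳')
    (α : BasedFunctor.comp (AlgSt.overMap cP) v ≅ BasedFunctor.comp xP f') {T : Over S} (h : T ⟶ P)
    (a : chartObj v (h ≫ cP) ≅ (IsoNat.fibFun f' T).obj (chartObj xP h)) :
    ∃ z, clsBase z = h ∧
      IsoNat.mapCls (twistPts f' v cP xP α) T z = mkPt (h ≫ cP) (chartObj xP h) a := by
  let ah : chartObj v (h ≫ cP) ≅ (IsoNat.fibFun f' T).obj (chartObj xP h) :=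
    fiberIso hY ⟨(isoApp α (Over.mk h)).hom,
      (isVert_isoApp α (Over.mk h)).isHomLift (v.w_obj _)⟩
  let δ : chartObj v (h ≫ cP) ≅ chartObj v (h ≫ cP) := a ≪≫ ah.symm
  let η : (FibCat.inertia (FibCat.toSelf 𝒴')).p.Fiber T :=
    ⟨⟨(chartObj v (h ≫ cP)).1, Functor.Fiber.fiberInclusion.mapIso δ,
      (isVert_of_isHomLift δ.hom.2).map_eq⟩, (chartObj v (h ≫ cP)).2⟩
  let e : chartObj (BasedFunctor.comp (AlgSt.overMap cP) v) h ≅
      (IsoNat.fibFun (FibCat.inertiaToBase (FibCat.toSelf 𝒴')) T).obj η :=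
    Iso.refl (chartObj v (h ≫ cP))
  refine ⟨mkPt h η e, clsBase_mkPt .., cls_eq_iff.2 ⟨?_⟩⟩
  refine fiberIso (isFibGrpd_fp (F := v) (G := f') (isFibGrpd_overCat V) hX hY)
    ⟨(fpObjIso (F := v) (G := f')
      (x := (twistPts f' v cP xP α).obj
        (fpMk (Over.mk h) η.1 (Functor.Fiber.fiberInclusion.mapIso e) (isVert_of_isHomLift e.hom.2)))
      (y := fpMk (Over.mk (h ≫ cP)) (chartObj xP h).1 (Functor.Fiber.fiberInclusion.mapIso a)
        (isVert_of_isHomLift a.hom.2))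
      (Iso.refl (Over.mk (h ≫ cP))) (Iso.refl (chartObj xP h).1) ?_).hom, ?_⟩
  · show v.map (𝟙 _) ≫ a.hom.1 =
      ((((Iso.refl (chartObj v (h ≫ cP)) : _ ≅ _).hom.1 ≫ δ.hom.1) ≫
        (Iso.refl (chartObj v (h ≫ cP)) : _ ≅ _).inv.1) ≫ (isoApp α (Over.mk h)).hom) ≫ f'.map (𝟙 _)
    rw [v.toFunctor.map_id, f'.toFunctor.map_id]
    refine (Category.id_comp _).trans ?_
    refine Eq.trans ?_ (Category.comp_id _).symm
    exact congrArg Subtype.val (show a.hom = ((𝟙 _ ≫ δ.hom) ≫ 𝟙 _) ≫ ah.hom by simp [δ])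
  · exact IsVert.isHomLift (((isVert_fp_iff _).2 (isVert_id _))) rfl

theorem objCls_eq_cls_chartObj {𝒵 : AlgSt.Cat S} {U : Over S} (x : FibCat.overCat U ⥤ᵇ 𝒵) :
    IsoNat.objCls x = IsoNat.cls (chartObj x (𝟙 U)) := rfl

/-- Local finite presentation of a base change to a chart transfers along isomorphisms of presheaves of
classes. -/
theorem locP_lfp_of_fIsoSq {f : 𝒳 ⥤ᵇ 𝒴} (φ : IsoNat.FIsoSq f f') (hX : FibCat.IsFibGrpd 𝒳.p)
    (hY : FibCat.IsFibGrpd 𝒴.p) (hX' : FibCat.IsFibGrpd 𝒳'.p) (hY' : FibCat.IsFibGrpd 𝒴'.p)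
    (hI : AlgSt.RepByAlgSpWith (AlgSp.LocP @LocallyOfFinitePresentation)
      (FibCat.inertiaToBase (FibCat.toSelf 𝒴')))
    {w : FibCat.overCat V ⥤ᵇ 𝒴} (hw : φ.tgt.toEquiv V (IsoNat.objCls w) = IsoNat.objCls v)
    (F : AlgSp.Space S) (e : AlgSt.ofSp F.obj ⥤ᵇ FibCat.fp w f) (he : FibCat.IsEquivOver e)
    (hq : AlgSp.LocP @LocallyOfFinitePresentation
      (AlgSt.spMapOfOver (BasedFunctor.comp e (FibCat.fpFst w f))))
    (F' : AlgSp.Space S) (e' : AlgSt.ofSp F'.obj ⥤ᵇ FibCat.fp v f') (he' : FibCat.IsEquivOver e') :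
    AlgSp.LocP @LocallyOfFinitePresentation
      (AlgSt.spMapOfOver (BasedFunctor.comp e' (FibCat.fpFst v f'))) := by
  have hF := isFibGrpd_fp (F := w) (G := f) (isFibGrpd_overCat V) hX hY
  have hF' := isFibGrpd_fp (F := v) (G := f') (isFibGrpd_overCat V) hX' hY'
  have hcl : ∀ {T : Over S} (d : T ⟶ V), φ.tgt.toEquiv T (IsoNat.cls (chartObj w d)) =
      IsoNat.cls (chartObj v d) := fun d => cls_chartObj_eq φ.tgt hY hY' hw d
  obtain ⟨P, rP, hrP, hrPs⟩ := F.property.atlas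
  -- the universal point of the base change
  obtain ⟨cP, hcP⟩ := (AlgSp.yon S).map_surjective
    (rP ≫ AlgSt.spMapOfOver (BasedFunctor.comp e (FibCat.fpFst w f)))
  have hcP' : LocallyOfFinitePresentation cP.left := hq rP (𝟙 _) cP hrP (AlgSp.repWith_id @Etale V)
    (by rw [Category.comp_id, hcP])
  obtain ⟨x₀, a₀, hz⟩ := exists_mkPt hY hX (secCls e rP)
  have hzc : clsBase (secCls e rP) = cP :=
    (AlgSp.yon S).map_injective ((secCls_clsBase e rP).symm.trans hcP.symm)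
  obtain ⟨xP, hxP⟩ := exists_objCls hX' (φ.src.toEquiv P (IsoNat.cls x₀))
  have hα : IsoNat.cls (chartObj v (𝟙 P ≫ cP)) =
      IsoNat.cls ((IsoNat.fibFun f' P).obj (chartObj xP (𝟙 P))) := by
    rw [← mapCls_cls, ← objCls_eq_cls_chartObj, hxP, ← φ.comm, mapCls_cls, ← cls_eq_iff.2 ⟨a₀⟩,
      Category.id_comp, hcl, hzc]
  obtain ⟨ia⟩ := cls_eq_iff.1 hα
  obtain ⟨α⟩ := (nonempty_overIso_iff hY' (BasedFunctor.comp (AlgSt.overMap cP) v)
    (BasedFunctor.comp xP f')).2 ⟨ia.hom.1, isVert_of_isHomLift ia.hom.2⟩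
  -- the twisted family
  let y := BasedFunctor.comp (AlgSt.overMap cP) v
  let ι := FibCat.inertiaToBase (FibCat.toSelf 𝒴')
  have hG := isFibGrpd_fp (F := y) (G := ι) (isFibGrpd_overCat P)
    (Groth.CatFib.isFibGrpd_inertia _ hY' isFibGrpd_selfOver) hY'
  obtain ⟨G, eG, heG⟩ := repWith_repByAlgSp1 hI P y
  have hqG := prop_of_repWith_fp stableBaseChange_locP hI y G eG heG
  obtain ⟨C, rC, hrC, hrCs⟩ := G.property.atlas
  obtain ⟨cC, hcC⟩ := (AlgSp.yon S).map_surjective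
    (rC ≫ AlgSt.spMapOfOver (BasedFunctor.comp eG (FibCat.fpFst y ι)))
  have hcC' : LocallyOfFinitePresentation cC.left := hqG rC (𝟙 _) cC hrC (AlgSp.repWith_id @Etale P)
    (by rw [Category.comp_id, hcC])
  let Φ := twistPts f' v cP xP α
  obtain ⟨m, hm⟩ := (secCls_bijective e' hF' he' C).2 (IsoNat.mapCls Φ C (secCls eG rC))
  refine locP_lfp_of_local_factor F'.property _ m (cC ≫ cP)
    (inferInstanceAs (LocallyOfFinitePresentation (cC.left ≫ cP.left))) ?_ ?_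
  · rw [secCls_clsBase, hm, twistPts_clsBase]
    congr 2
    exact (AlgSp.yon S).map_injective ((secCls_clsBase eG rC).symm.trans hcC.symm)
  intro T t
  obtain ⟨x', a', hz'⟩ := exists_mkPt hY' hX' (secCls e' t)
  let c := clsBase (secCls e' t)
  obtain ⟨x, hx⟩ := exists_cls ((φ.src.toEquiv T).symm (IsoNat.cls x'))
  have hx' : φ.src.toEquiv T (IsoNat.cls x) = IsoNat.cls x' := by rw [hx, Equiv.apply_symm_apply]
  obtain ⟨a⟩ : Nonempty (chartObj w c ≅ (IsoNat.fibFun f T).obj x) := cls_eq_iff.1 <| by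
    apply (φ.tgt.toEquiv _).injective
    rw [hcl, ← mapCls_cls, φ.comm, hx', mapCls_cls]
    exact cls_eq_iff.2 ⟨a'⟩
  obtain ⟨r, hr⟩ := (secCls_bijective e hF he T).2 (mkPt c x a)
  obtain ⟨T₁, g₁, s₁, hg₁, hg₁s, e₁⟩ := exists_atlas_lift hrP hrPs r
  have he₁ : pullCls hF g₁ (mkPt c x a) = pullCls hF s₁ (secCls e rP) := by
    rw [← hr, pullCls_secCls, pullCls_secCls, e₁]
  have hc₁ : g₁ ≫ c = s₁ ≫ cP := by
    have := congrArg clsBase he₁
    rw [clsBase_pullCls hX hY, clsBase_pullCls hX hY, clsBase_mkPt, hzc] at this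
    exact this
  have hx₁ : pullCls hX' g₁ (IsoNat.cls x') = IsoNat.cls (chartObj xP s₁) := by
    have := congrArg (IsoNat.mapCls (FibCat.fpSnd w f) T₁) he₁
    rw [mapCls_pullCls hF hX, mapCls_pullCls hF hX, ← hz] at this
    change pullCls hX g₁ (IsoNat.cls x) = pullCls hX s₁ (IsoNat.cls x₀) at this
    rw [← hx', ← toEquiv_pullCls φ.src hX hX', this, toEquiv_pullCls φ.src hX hX', cls_chartObj hX',
      hxP]
  obtain ⟨l₁⟩ := exists_lift_of_pullCls hX' hx₁
  let a₁ : chartObj v (s₁ ≫ cP) ≅ (IsoNat.fibFun f' T₁).obj (chartObj xP s₁) :=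
    eqToIso (congrArg (chartObj v) hc₁.symm) ≪≫ restrIso hY' a' l₁
  have ht₁ : pullCls hF' g₁ (secCls e' t) = mkPt (s₁ ≫ cP) (chartObj xP s₁) a₁ := by
    rw [← hz']
    refine pullCls_mkPt' hX' hY' g₁ hc₁ l₁ ?_
    have key : ∀ {d : T₁ ⟶ V} (hd : g₁ ≫ c = d),
        (chartTo v g₁ c d hd).1 ≫ a'.hom.1 =
          (eqToIso (congrArg (chartObj v) hd.symm) ≪≫ restrIso hY' a' l₁).hom.1 ≫ f'.map l₁.1 := by
      rintro _ rfl
      rw [eqToIso_refl, Iso.refl_trans]
      exact restrIso_spec hY' a' l₁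
    exact key hc₁
  obtain ⟨z, hzb, hzΦ⟩ := exists_twistPts_eq hY' hX' cP xP α s₁ a₁
  obtain ⟨rz, hrz⟩ := (secCls_bijective eG hG heG T₁).2 z
  obtain ⟨T₂, g₂, s₂, hg₂, hg₂s, e₂⟩ := exists_atlas_lift hrC hrCs rz
  refine ⟨T₂, g₂ ≫ g₁, s₂, inferInstanceAs (Etale (g₂.left ≫ g₁.left)),
    inferInstanceAs (Surjective (g₂.left ≫ g₁.left)), (secCls_bijective e' hF' he' T₂).1 ?_⟩
  rw [← pullCls_secCls e' hF', ← pullCls_secCls e' hF', hm, pullCls_comp, ht₁, ← hzΦ,
    ← mapCls_pullCls hG hF', ← mapCls_pullCls hG hF', ← hrz, pullCls_secCls, pullCls_secCls, e₂]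

end Groth.Misc10.IsoNat
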