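import Groth.Agent.Misc10.IsoNat.Lifting
import Mathlib.AlgebraicGeometry.AffineScheme

/-!
# Lifts compatible with a given comparison isomorphism
-/

set_option autoImplicit false
set_option backward.isDefEq.respectTransparency false
set_option backward.isDefEq.respectTransparency.types false

universe u

open CategoryTheory CategoryTheory.Limits AlgebraicGeometry Opposite
open Groth.StkBase

noncomputable section

namespace Groth.Misc10.IsoNat

variable {S : Scheme.{u}}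

section Copies

variable {A : Type u} [CommRing A] (I : Ideal A) (Γ : Type u)

/-- Families of elements with a common residue modulo `I`. -/
def Copies : Subring (Γ → A) where
  carrier := {b | ∀ i i', Ideal.Quotient.mk I (b i) = Ideal.Quotient.mk I (b i')}
  one_mem' _ _ := rfl
  zero_mem' _ _ := rfl
  mul_mem' ha hb i i' := by simp [ha i i', hb i i']
  add_mem' ha hb i i' := by simp [ha i i', hb i i']
  neg_mem' ha i i' := by simp [ha i i']

/-- The projection to a copy. -/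
def copyEv (i : Γ) : ↥(Copies I Γ) →+* A := (Pi.evalRingHom (fun _ : Γ => A) i).comp (Copies I Γ).subtype

theorem mk_copyEv (i i' : Γ) :
    (Ideal.Quotient.mk I).comp (copyEv I Γ i) = (Ideal.Quotient.mk I).comp (copyEv I Γ i') :=
  RingHom.ext fun b => b.2 i i'

/-- The ideal of families vanishing modulo `I`. -/
def copyIdeal (i : Γ) : Ideal ↥(Copies I Γ) := RingHom.ker ((Ideal.Quotient.mk I).comp (copyEv I Γ i))

theorem copyIdeal_sq (hI : I ^ 2 = ⊥) (i : Γ) : copyIdeal I Γ i ^ 2 = ⊥ := by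
  rw [eq_bot_iff, pow_two, Ideal.mul_le]
  intro a ha b hb
  rw [Submodule.mem_bot]
  refine Subtype.ext (funext fun k => ?_)
  have hk : ∀ x ∈ copyIdeal I Γ i, x.1 k ∈ I := fun x hx =>
    Ideal.Quotient.eq_zero_iff_mem.1 ((x.2 k i).trans hx)
  have : a.1 k * b.1 k ∈ I ^ 2 := by rw [pow_two]; exact Ideal.mul_mem_mul (hk a ha) (hk b hb)
  rw [hI, Submodule.mem_bot] at this
  exact this

/-- The common residue. -/
def copyQuot (i : Γ) : ↥(Copies I Γ) ⧸ copyIdeal I Γ i ≃+* A ⧸ I :=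
  RingHom.quotientKerEquivOfSurjective (f := (Ideal.Quotient.mk I).comp (copyEv I Γ i)) fun x => by
    obtain ⟨a, rfl⟩ := Ideal.Quotient.mk_surjective x
    exact ⟨⟨fun _ => a, fun _ _ => rfl⟩, rfl⟩

theorem copyQuot_mk (i : Γ) (b : ↥(Copies I Γ)) :
    copyQuot I Γ i (Ideal.Quotient.mk _ b) = Ideal.Quotient.mk I (copyEv I Γ i b) := rfl

end Copies

/-- The gluing of chart points with a common restriction, with its projections. -/
theorem exists_common {V : Over S} [IsAffine V.left] {A : Type u} [CommRing A] (I : Ideal A)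
    (hI : I ^ 2 = ⊥) (str : Spec (.of A) ⟶ S) {Γ : Type u} (i₀ : Γ) (c : Γ → (Pt str ⟶ V))
    (c₀ : Pt₀ I str ⟶ V) (hc : ∀ γ, thickHom I str ≫ c γ = c₀) :
    ∃ (B : Type u) (_ : CommRing B) (J : Ideal B) (_ : J ^ 2 = ⊥) (str' : Spec (.of B) ⟶ S)
      (w : Pt str' ⟶ V) (pr : Γ → (Pt str ⟶ Pt str')) (θ : Pt₀ I str ⟶ Pt₀ J str'),
      IsIso θ ∧ ∀ γ, pr γ ≫ w = c γ ∧ thickHom I str ≫ pr γ = θ ≫ thickHom J str' := by
  choose φ hφ using fun γ => Spec.map_surjective (R := Γ(V.left, ⊤)) (S := CommRingCat.of A)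
    ((c γ).left ≫ V.left.isoSpec.hom)
  have hcom : ∀ γ γ', φ γ ≫ CommRingCat.ofHom (Ideal.Quotient.mk I) =
      φ γ' ≫ CommRingCat.ofHom (Ideal.Quotient.mk I) := fun γ γ' => by
    apply Spec.map_injective
    simp only [Spec.map_comp, hφ, ← Category.assoc]
    exact congrArg (· ≫ V.left.isoSpec.hom)
      (congrArg CommaMorphism.left ((hc γ).trans (hc γ').symm))
  let B := ↥(Copies I Γ)
  let φB : Γ(V.left, ⊤) ⟶ CommRingCat.of B := CommRingCat.ofHom
    (RingHom.codRestrict (Pi.ringHom fun γ => (φ γ).hom) (Copies I Γ) fun a γ γ' =>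
      congrArg (fun k => k.hom a) (hcom γ γ'))
  let wl : Spec (.of B) ⟶ V.left := Spec.map φB ≫ V.left.isoSpec.inv
  let str' : Spec (.of B) ⟶ S := wl ≫ V.hom
  have hev : ∀ γ, Spec.map (CommRingCat.ofHom (copyEv I Γ γ)) ≫ wl = (c γ).left := fun γ => by
    show _ ≫ Spec.map φB ≫ _ = _
    rw [← Category.assoc, ← Spec.map_comp]
    have : φB ≫ CommRingCat.ofHom (copyEv I Γ γ) = φ γ := CommRingCat.hom_ext (RingHom.ext fun a => rfl)
    rw [this, hφ, Category.assoc, Iso.hom_inv_id, Category.comp_id]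
  let pr : Γ → (Pt str ⟶ Pt str') := fun γ =>
    Over.homMk (Spec.map (CommRingCat.ofHom (copyEv I Γ γ))) (by
      show _ ≫ wl ≫ V.hom = str
      rw [← Category.assoc, hev]
      exact Over.w (c γ))
  let J : Ideal B := copyIdeal I Γ i₀
  let q : B ⧸ J ≃+* A ⧸ I := copyQuot I Γ i₀
  have hq : CommRingCat.ofHom (Ideal.Quotient.mk J) ≫ q.toCommRingCatIso.hom =
      CommRingCat.ofHom (copyEv I Γ i₀) ≫ CommRingCat.ofHom (Ideal.Quotient.mk I) :=
    CommRingCat.hom_ext (RingHom.ext fun b => copyQuot_mk I Γ i₀ b)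
  let θ : Pt₀ I str ⟶ Pt₀ J str' := Over.homMk (Spec.map q.toCommRingCatIso.hom) (by
    show _ ≫ Spec.map _ ≫ str' = Spec.map _ ≫ str
    rw [← Category.assoc, ← Spec.map_comp, hq, Spec.map_comp, Category.assoc]
    exact congrArg (_ ≫ ·) (Over.w (pr i₀)))
  have : IsIso ((Over.forget S).map θ) := inferInstanceAs (IsIso (Spec.map q.toCommRingCatIso.hom))
  refine ⟨B, inferInstance, J, copyIdeal_sq I Γ hI i₀, str', Over.homMk wl rfl, pr, θ,
    isIso_of_reflects_iso θ (Over.forget S), fun γ => ⟨Over.OverMorphism.ext (hev γ), ?_⟩⟩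
  apply Over.OverMorphism.ext
  show Spec.map _ ≫ Spec.map _ = Spec.map _ ≫ Spec.map _
  rw [← Spec.map_comp, ← Spec.map_comp, hq]
  exact congrArg Spec.map (CommRingCat.hom_ext (mk_copyEv I Γ γ i₀))

variable {𝒳 𝒴 𝒳' 𝒴' : AlgSt.Cat S}

/-- Infinitesimal lifting for a base change to an affine smooth chart transfers along isomorphisms of
presheaves of classes. -/
theorem liftsCls_of_fIsoSq {V : Over S} [IsAffine V.left] {f : 𝒳 ⥤ᵇ 𝒴} {f' : 𝒳' ⥤ᵇ 𝒴'}
    (φ : IsoNat.FIsoSq f f') (hX : FibCat.IsFibGrpd 𝒳.p) (hY : FibCat.IsFibGrpd 𝒴.p)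
    (hX' : FibCat.IsFibGrpd 𝒳'.p) (hY' : FibCat.IsFibGrpd 𝒴'.p)
    {v : FibCat.overCat V ⥤ᵇ 𝒴'} {w : FibCat.overCat V ⥤ᵇ 𝒴}
    (hw : φ.tgt.toEquiv V (IsoNat.objCls w) = IsoNat.objCls v)
    (hv : LiftsCls (isFibGrpd_overCat V) hY' v v) (hl : LiftsCls hX hY w f) :
    LiftsCls hX' hY' v f' := by
  intro A _ I hI str c z₀ hz₀
  obtain ⟨x₀, a₀, ha₀⟩ := exists_mkPt hY' hX' z₀
  revert a₀ ha₀
  rw [hz₀]
  intro a₀ ha₀
  subst ha₀
  -- all automorphisms on the closed subscheme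
  choose cγ hcγ εγ hεγ using fun γ : chartObj v (thickHom I str ≫ c) ≅ chartObj v (thickHom I str ≫ c) =>
    exists_autLift hY' hv I hI str c (thickHom I str ≫ c) rfl γ
  obtain ⟨B, _, J, hJ, str', d, pr, θ, _, hpr⟩ :=
    exists_common I hI str (Iso.refl _) cγ (thickHom I str ≫ c) hcγ
  have hd : θ ≫ thickHom J str' ≫ d = thickHom I str ≫ c := by
    rw [← Category.assoc, ← (hpr (Iso.refl _)).2, Category.assoc, (hpr (Iso.refl _)).1, hcγ]
  have hb₀ : IsoNat.cls (chartObj v (thickHom J str' ≫ d)) =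
      IsoNat.mapCls f' _ (pullCls hX' (inv θ) (IsoNat.cls x₀)) := by
    rw [mapCls_pullCls hX' hY' f', mapCls_cls, ← cls_eq_iff.2 ⟨a₀⟩, cls_chartObj hY', cls_chartObj hY',
      ← pullCls_comp, ← hd, IsIso.inv_hom_id_assoc]
  obtain ⟨b, hb₁, hb₂⟩ := exists_weakLift φ hX hY hX' hY' hw hl J hJ str' d _ hb₀
  obtain ⟨x, rfl⟩ := exists_cls b
  obtain ⟨a⟩ := cls_eq_iff.1 (hb₁.trans (mapCls_cls f' x))
  have hm : pullCls hX' (θ ≫ thickHom J str') (IsoNat.cls x) = IsoNat.cls x₀ := by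
    rw [pullCls_comp, hb₂, ← pullCls_comp, IsIso.hom_inv_id, pullCls_id]
  obtain ⟨m⟩ := exists_lift_of_pullCls hX' hm
  -- the comparison isomorphism on the closed subscheme
  let a' : Lift (θ ≫ thickHom J str') (chartObj v (thickHom I str ≫ c)) ((IsoNat.fibFun f' _).obj x) :=
    (chartTo v (θ ≫ thickHom J str') d _ ((Category.assoc _ _ _).trans hd)).comp
      (a.hom : Lift (𝟙 _) _ _) (Category.comp_id _)
  let as : chartObj v (thickHom I str ≫ c) ≅ (IsoNat.fibFun f' _).obj x₀ :=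
    fiberIso hY' (fac hY' (mapLift f' m) a' (𝟙 _) (Category.id_comp _))
  have has : as.hom.1 ≫ f'.map m.1 = a'.1 :=
    fac_comp hY' (mapLift f' m) a' (𝟙 _) (Category.id_comp _)
  let γ : chartObj v (thickHom I str ≫ c) ≅ chartObj v (thickHom I str ≫ c) := a₀ ≪≫ as.symm
  obtain ⟨hp, hθ⟩ := hpr γ
  let x' := pullObj hX' (pr γ) x
  let p : Lift (pr γ) x' x := pullLift hX' (pr γ) x
  let l : Lift (thickHom I str) x₀ x' := fac hX' p m (thickHom I str) hθ
  have hlp : l.1 ≫ p.1 = m.1 := fac_comp hX' p m (thickHom I str) hθ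
  let a₁' : Lift (pr γ) (chartObj v (cγ γ)) ((IsoNat.fibFun f' _).obj x) :=
    (chartTo v (pr γ) d _ hp).comp (a.hom : Lift (𝟙 _) _ _) (Category.comp_id _)
  let a₁ : chartObj v (cγ γ) ≅ (IsoNat.fibFun f' _).obj x' :=
    fiberIso hY' (fac hY' (mapLift f' p) a₁' (𝟙 _) (Category.id_comp _))
  have ha₁ : a₁.hom.1 ≫ f'.map p.1 = a₁'.1 :=
    fac_comp hY' (mapLift f' p) a₁' (𝟙 _) (Category.id_comp _)
  have key : (chartTo v (thickHom I str) (cγ γ) _ (hcγ γ)).1 ≫ a₁.hom.1 = as.hom.1 ≫ f'.map l.1 := by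
    refine congrArg Subtype.val (Lift.hom_ext hY' (mapLift f' p)
      (χ := (chartTo v (thickHom I str) (cγ γ) _ (hcγ γ)).comp (a₁.hom : Lift (𝟙 _) _ _)
        (Category.comp_id _))
      (χ' := Lift.comp (as.hom : Lift (𝟙 _) _ _) (mapLift f' l) (Category.id_comp _)) ?_)
    show ((chartTo v (thickHom I str) (cγ γ) _ (hcγ γ)).1 ≫ a₁.hom.1) ≫ f'.map p.1 =
      (as.hom.1 ≫ f'.map l.1) ≫ f'.map p.1
    rw [Category.assoc, Category.assoc, ← f'.toFunctor.map_comp, hlp, has, ha₁]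
    show (chartTo v (thickHom I str) (cγ γ) _ (hcγ γ)).1 ≫ (chartTo v (pr γ) d _ hp).1 ≫ a.hom.1 =
      (chartTo v (θ ≫ thickHom J str') d _ ((Category.assoc _ _ _).trans hd)).1 ≫ a.hom.1
    rw [← Category.assoc, chartTo_comp _ _ _ hθ]
  refine ⟨mkPt c x' (εγ γ ≪≫ a₁), clsBase_mkPt .., pullCls_mkPt' hX' hY' _ rfl l ?_⟩
  show (chartTo v (thickHom I str) c _ rfl).1 ≫ (εγ γ).hom.1 ≫ a₁.hom.1 = a₀.hom.1 ≫ f'.map l.1
  rw [← Category.assoc, hεγ γ, Category.assoc, key, ← Category.assoc]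
  congr 1
  exact congrArg Subtype.val (show (a₀ ≪≫ as.symm).hom ≫ as.hom = a₀.hom by simp)

end Groth.Misc10.IsoNat
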