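import Mathlib.Algebra.Polynomial.Laurent
import Mathlib.RingTheory.MvPolynomial.Basic
import Mathlib.RingTheory.Localization.Away.Basic
import Mathlib.RingTheory.Ideal.Quotient.Operations

/-!
# The ring of `κ` lines meeting in a point
-/

set_option autoImplicit false

universe u

noncomputable section

namespace Groth.Misc10.IsoNat

/-- The integers in an arbitrary universe. -/
def Zu : Type u := ULift.{u} ℤ

instance : CommRing Zu.{u} := inferInstanceAs (CommRing (ULift.{u} ℤ))

/-- The identification with the integers. -/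
def Zu.equiv : Zu.{u} ≃+* ℤ := ULift.ringEquiv

theorem Zu.eq_intCast (r : Zu.{u}) : r = ((Zu.equiv r : ℤ) : Zu.{u}) :=
  Zu.equiv.injective (by simp)

/-- The relations cutting out the coordinate axes. -/
def axesIdeal (κ : Type) : Ideal (MvPolynomial κ Zu.{u}) :=
  Ideal.span (Set.range fun p : {p : κ × κ // p.1 ≠ p.2} =>
    MvPolynomial.X p.1.1 * MvPolynomial.X p.1.2)

/-- The coordinate ring of the union of the coordinate axes. -/
def Axes (κ : Type) : Type u := MvPolynomial κ Zu.{u} ⧸ axesIdeal.{u} κ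

instance (κ : Type) : CommRing (Axes.{u} κ) :=
  inferInstanceAs (CommRing (MvPolynomial κ Zu.{u} ⧸ axesIdeal.{u} κ))

instance (κ : Type) : Algebra Zu.{u} (Axes.{u} κ) :=
  inferInstanceAs (Algebra Zu.{u} (MvPolynomial κ Zu.{u} ⧸ axesIdeal.{u} κ))

/-- The quotient map. -/
def mkAxes (κ : Type) : MvPolynomial κ Zu.{u} →ₐ[Zu.{u}] Axes.{u} κ :=
  Ideal.Quotient.mkₐ Zu.{u} (axesIdeal.{u} κ)

namespace Axes

variable {κ κ' : Type}

/-- The coordinates. -/
def x (i : κ) : Axes.{u} κ := mkAxes κ (MvPolynomial.X i)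

theorem x_mul_x {i j : κ} (h : i ≠ j) : x.{u} i * x j = 0 := by
  rw [x, x, ← map_mul]
  refine (Ideal.Quotient.eq_zero_iff_mem (I := axesIdeal.{u} κ)).2 ?_
  exact Ideal.subset_span ⟨⟨(i, j), h⟩, rfl⟩

variable {A : Type*} [CommRing A] [Algebra Zu.{u} A]

/-- Homomorphisms out of the axes ring: orthogonal families. -/
def lift (v : κ → A) (hv : ∀ i j, i ≠ j → v i * v j = 0) : Axes.{u} κ →ₐ[Zu.{u}] A :=
  Ideal.Quotient.liftₐ _ (MvPolynomial.aeval v) fun a ha => by
    have : axesIdeal.{u} κ ≤ RingHom.ker (MvPolynomial.aeval (R := Zu.{u}) v) := by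
      rw [axesIdeal, Ideal.span_le]
      rintro _ ⟨p, rfl⟩
      simp [hv _ _ p.2]
    exact this ha

@[simp] theorem lift_x (v : κ → A) (hv : ∀ i j, i ≠ j → v i * v j = 0) (i : κ) :
    lift.{u} v hv (x i) = v i :=
  MvPolynomial.aeval_X v i

theorem hom_ext {f g : Axes.{u} κ →ₐ[Zu.{u}] A} (h : ∀ i, f (x i) = g (x i)) : f = g := by
  refine Ideal.Quotient.algHom_ext _ (MvPolynomial.algHom_ext ?_)
  exact h

/-- Projection onto one axis. -/
def proj [DecidableEq κ] (i : κ) : Axes.{u} κ →ₐ[Zu.{u}] Polynomial Zu.{u} :=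
  lift (Pi.single i Polynomial.X) fun a b hab => by
    rcases eq_or_ne a i with rfl | ha
    · simp [hab.symm]
    · simp [ha]

@[simp] theorem proj_x_self [DecidableEq κ] (i : κ) : proj.{u} i (x i) = Polynomial.X := by
  simp [proj]

@[simp] theorem proj_x_ne [DecidableEq κ] {i j : κ} (h : j ≠ i) : proj.{u} i (x j) = 0 := by
  simp [proj, h]

/-- The retraction onto one axis. -/
def sect (i : κ) : Polynomial Zu.{u} →ₐ[Zu.{u}] Axes.{u} κ := Polynomial.aeval (x i)

@[simp] theorem sect_X (i : κ) : sect.{u} i Polynomial.X = x i := Polynomial.aeval_X _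

/-- The origin. -/
def zero (κ : Type) : Axes.{u} κ →ₐ[Zu.{u}] Zu.{u} := lift (fun _ => 0) fun _ _ _ => mul_zero _

@[simp] theorem zero_x (i : κ) : zero.{u} κ (x i) = 0 := lift_x _ _ i

/-- The constants. -/
def const (κ : Type) : Zu.{u} →ₐ[Zu.{u}] Axes.{u} κ := Algebra.ofId _ _

/-- Evaluation at the origin of a line. -/
def zero₁ : Polynomial Zu.{u} →ₐ[Zu.{u}] Zu.{u} := Polynomial.aeval 0

theorem zero₁_comp_proj [DecidableEq κ] (i : κ) : zero₁.{u}.comp (proj i) = zero κ :=
  hom_ext fun j => by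
    rcases eq_or_ne j i with rfl | h
    · simp [zero₁]
    · simp [zero₁, h]

theorem proj_comp_sect [DecidableEq κ] (i : κ) :
    (proj.{u} i).comp (sect i) = AlgHom.id _ _ :=
  Polynomial.algHom_ext (by simp)

theorem proj_comp_sect_ne [DecidableEq κ] {i j : κ} (h : i ≠ j) :
    (proj.{u} j).comp (sect i) = (Algebra.ofId _ _).comp zero₁ :=
  Polynomial.algHom_ext (by simp [zero₁, h])

/-- The homomorphism attached to an injection of index sets. -/
def restrictHom (σ : κ' → κ) (hσ : Function.Injective σ) : Axes.{u} κ →ₐ[Zu.{u}] Axes.{u} κ' :=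
  lift (Function.extend σ x 0) fun a b hab => by
    by_cases ha : ∃ c, σ c = a
    · by_cases hb : ∃ c, σ c = b
      · obtain ⟨c, rfl⟩ := ha
        obtain ⟨d, rfl⟩ := hb
        rw [hσ.extend_apply, hσ.extend_apply]
        exact x_mul_x fun h => hab (congrArg σ h)
      · rw [Function.extend_apply' _ _ _ hb]; simp
    · rw [Function.extend_apply' _ _ _ ha]; simp

theorem restrictHom_x (σ : κ' → κ) (hσ : Function.Injective σ) (c : κ') :
    restrictHom.{u} σ hσ (x (σ c)) = x c := by
  rw [restrictHom, lift_x, hσ.extend_apply]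

theorem restrictHom_x_ne (σ : κ' → κ) (hσ : Function.Injective σ) {a : κ}
    (ha : ¬∃ c, σ c = a) : restrictHom.{u} σ hσ (x a) = 0 := by
  rw [restrictHom, lift_x, Function.extend_apply' _ _ _ ha]
  rfl

/-- The retraction attached to an injection of index sets. -/
def extendHom (σ : κ' → κ) (hσ : Function.Injective σ) : Axes.{u} κ' →ₐ[Zu.{u}] Axes.{u} κ :=
  lift (x ∘ σ) fun _ _ hab => x_mul_x (hσ.ne hab)

theorem proj_comp_restrictHom [DecidableEq κ] [DecidableEq κ'] (σ : κ' → κ)
    (hσ : Function.Injective σ) (c : κ') :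
    (proj.{u} c).comp (restrictHom σ hσ) = proj (σ c) :=
  hom_ext fun a => by
    by_cases ha : ∃ d, σ d = a
    · obtain ⟨d, rfl⟩ := ha
      rw [AlgHom.comp_apply, restrictHom_x]
      rcases eq_or_ne d c with rfl | h
      · simp
      · simp [h, hσ.ne h]
    · rw [AlgHom.comp_apply, restrictHom_x_ne σ hσ ha, map_zero,
        proj_x_ne fun h => ha ⟨c, h.symm⟩]

theorem proj_comp_extendHom [DecidableEq κ] [DecidableEq κ'] (σ : κ' → κ)
    (hσ : Function.Injective σ) (c : κ') :
    (proj.{u} (σ c)).comp (extendHom σ hσ) = proj c :=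
  hom_ext fun d => by
    rcases eq_or_ne d c with rfl | h
    · simp [extendHom]
    · simp [extendHom, h, hσ.ne h]

theorem proj_comp_extendHom_ne [DecidableEq κ] (σ : κ' → κ) (hσ : Function.Injective σ) {a : κ}
    (ha : ∀ c, σ c ≠ a) :
    (proj.{u} a).comp (extendHom σ hσ) = (Algebra.ofId _ _).comp (zero κ') :=
  hom_ext fun d => by simp [extendHom, ha d]

/-- The punctured axis. -/
def punct [DecidableEq κ] (i : κ) : Axes.{u} κ →ₐ[Zu.{u}] LaurentPolynomial Zu.{u} :=
  Polynomial.toLaurentAlg.comp (proj i)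

theorem punct_x_self [DecidableEq κ] (i : κ) :
    punct.{u} i (x i) = LaurentPolynomial.T 1 := by
  simp [punct]

theorem punct_x_ne [DecidableEq κ] {i j : κ} (h : j ≠ i) : punct.{u} i (x j) = 0 := by
  simp [punct, h]

theorem x_mul_eq [DecidableEq κ] (i : κ) (z : Axes.{u} κ) :
    x i * z = x i * sect i (proj i z) := by
  obtain ⟨p, rfl⟩ : ∃ p, mkAxes.{u} κ p = z := Ideal.Quotient.mk_surjective (I := axesIdeal.{u} κ) z
  induction p using MvPolynomial.induction_on with
  | C r =>
    congr 1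
    have : mkAxes.{u} κ (MvPolynomial.C r) = algebraMap Zu.{u} (Axes.{u} κ) r :=
      (mkAxes.{u} κ).commutes r
    rw [this, AlgHom.commutes, AlgHom.commutes]
  | add p q hp hq => simp only [map_add, mul_add, hp, hq]
  | mul_X p j hp =>
    rw [map_mul, map_mul, map_mul, ← mul_assoc, hp, ← mul_assoc]
    change x i * sect i _ * x j = x i * sect i _ * sect i (proj i (x j))
    rcases eq_or_ne j i with rfl | h
    · simp
    · rw [proj_x_ne h, map_zero, mul_zero]
      rw [mul_comm, ← mul_assoc, x_mul_x h, zero_mul]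

theorem punct_sect [DecidableEq κ] (i : κ) (p : Polynomial Zu.{u}) :
    punct.{u} i (sect i p) = Polynomial.toLaurent p := by
  have h := AlgHom.congr_fun (proj_comp_sect.{u} (κ := κ) i) p
  simp only [AlgHom.comp_apply, AlgHom.id_apply] at h
  simp [punct, h]

theorem isLocalization_punct [DecidableEq κ] (i : κ) :
    letI : Algebra (Axes.{u} κ) (LaurentPolynomial Zu.{u}) :=
      (punct i : Axes.{u} κ →+* LaurentPolynomial Zu.{u}).toAlgebra
    IsLocalization.Away (x i) (LaurentPolynomial Zu.{u}) := by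
  letI : Algebra (Axes.{u} κ) (LaurentPolynomial Zu.{u}) :=
    (punct i : Axes.{u} κ →+* LaurentPolynomial Zu.{u}).toAlgebra
  have hx : algebraMap (Axes.{u} κ) (LaurentPolynomial Zu.{u}) (x i) = LaurentPolynomial.T 1 :=
    by rw [RingHom.algebraMap_toAlgebra]; exact punct_x_self i
  refine IsLocalization.Away.mk (x i) (by rw [hx]; exact LaurentPolynomial.isUnit_T 1)
    (fun s => ?_) (fun a b h => ?_)
  · obtain ⟨n, p, hp⟩ := LaurentPolynomial.exists_T_pow s
    refine ⟨n, sect i p, ?_⟩
    rw [hx, LaurentPolynomial.T_pow, mul_one, ← hp]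
    exact (punct_sect i p).symm
  · refine ⟨1, ?_⟩
    rw [pow_one, x_mul_eq i a, x_mul_eq i b]
    exact congrArg (fun t => x i * sect i t) (Polynomial.toLaurent_injective h)

end Axes

/-- The truncation retracting polynomials from Laurent polynomials, as a linear map. -/
def truncLin : LaurentPolynomial Zu.{u} →ₗ[Zu.{u}] Polynomial Zu.{u} where
  toFun := LaurentPolynomial.trunc
  map_add' := map_add _
  map_smul' r a := by
    rw [RingHom.id_apply, Zu.eq_intCast r, Int.cast_smul_eq_zsmul, Int.cast_smul_eq_zsmul,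
      map_zsmul]

theorem truncLin_toLaurent (p : Polynomial Zu.{u}) : truncLin (Polynomial.toLaurent p) = p := by
  show LaurentPolynomial.trunc (Polynomial.toLaurent p) = p
  induction p using Polynomial.induction_on' with
  | add p q hp hq => simp [hp, hq]
  | monomial n r =>
    rw [← Polynomial.C_mul_X_pow_eq_monomial, Polynomial.toLaurent_C_mul_X_pow,
      LaurentPolynomial.trunc_C_mul_T]
    simp [Polynomial.C_mul_X_pow_eq_monomial]

end Groth.Misc10.IsoNat
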