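import Groth.Agent.Misc10.IsoNat.AutSec
import Groth.Agent.Misc10.IsoNat.ModelRing
import Mathlib.AlgebraicGeometry.Morphisms.ClosedImmersion
import Mathlib.AlgebraicGeometry.Limits
import Mathlib.AlgebraicGeometry.Morphisms.IsIso
import Mathlib.RingTheory.TensorProduct.Maps
import Mathlib.RingTheory.TensorProduct.Basic
import Mathlib.AlgebraicGeometry.Pullbacks

/-!
# Products with spectra over the integers
-/

set_option autoImplicit false
set_option backward.isDefEq.respectTransparency false
set_option backward.isDefEq.respectTransparency.types false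

universe u

open CategoryTheory CategoryTheory.Limits AlgebraicGeometry TensorProduct

noncomputable section

namespace Groth.Misc10.IsoNat

/-- An affine scheme: a closed subscheme through which a dominant-on-functions map factors is everything. -/
theorem isIso_of_factors_spec {C C' : CommRingCat.{u}} (φ : C ⟶ C')
    (hφ : Function.Injective φ.hom) {E : Scheme.{u}} (i : E ⟶ Spec C) [IsClosedImmersion i]
    (l : Spec C' ⟶ E) (hl : l ≫ i = Spec.map φ) : IsIso i := by
  obtain ⟨I, e, rfl⟩ := IsClosedImmersion.Spec_iff.1 (inferInstance : IsClosedImmersion i)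
  have hI : I = ⊥ := by
    rw [eq_bot_iff]
    intro a ha
    obtain ⟨g, hg⟩ := Spec.map_surjective (l ≫ e.hom)
    have : φ = CommRingCat.ofHom (Ideal.Quotient.mk I) ≫ g := by
      apply Spec.map_injective
      rw [Spec.map_comp, hg, Category.assoc, hl]
    have h2 : φ.hom a = 0 := by
      rw [this]
      show g.hom (Ideal.Quotient.mk I a) = 0
      rw [Ideal.Quotient.eq_zero_iff_mem.2 ha, map_zero]
    exact hφ (h2.trans (map_zero _).symm)
  have hb : Function.Bijective (Ideal.Quotient.mk I) := by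
    refine ⟨?_, Ideal.Quotient.mk_surjective⟩
    rw [RingHom.injective_iff_ker_eq_bot, Ideal.mk_ker, hI]
  have : IsIso (CommRingCat.ofHom (Ideal.Quotient.mk I)) :=
    (ConcreteCategory.isIso_iff_bijective _).2 hb
  infer_instance

theorem isPullback_prod_map_snd (T : Scheme.{u}) {Q Q' : Scheme.{u}} (g : Q' ⟶ Q) :
    IsPullback prod.snd (prod.map (𝟙 T) g) g prod.snd where
  w := by rw [prod.map_snd]
  isLimit' := ⟨PullbackCone.isLimitAux' _ fun s => by
    refine ⟨prod.lift (s.snd ≫ prod.fst) s.fst, ?_, ?_, ?_⟩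
    · exact prod.lift_snd _ _
    · show prod.lift (s.snd ≫ prod.fst) s.fst ≫ (prod.map (𝟙 T) g : T ⨯ Q' ⟶ T ⨯ Q) = s.snd
      apply prod.hom_ext
      · simp
      · rw [Category.assoc, prod.map_snd, ← Category.assoc, prod.lift_snd]
        exact s.condition
    · intro m h₁ h₂
      dsimp at m h₁ h₂ ⊢
      apply prod.hom_ext
      · rw [prod.lift_fst, ← h₂, Category.assoc, prod.map_fst, Category.comp_id]
      · rw [prod.lift_snd, ← h₁]⟩

variable {S : Scheme.{u}} (T : Over S)

/-- The product of a scheme over `S` with the spectrum of a ring. -/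
abbrev Prd (R : CommRingCat.{u}) : Over S := Over.mk ((prod.fst : T.left ⨯ Spec R ⟶ T.left) ≫ T.hom)

/-- The projection to the first factor. -/
def prH (R : CommRingCat.{u}) : Prd T R ⟶ T := Over.homMk prod.fst rfl

/-- The morphism induced by a homomorphism of `ℤ`-algebras. -/
def prMap {A B : Type u} [CommRing A] [CommRing B] [Algebra Zu.{u} A] [Algebra Zu.{u} B]
    (φ : A →ₐ[Zu.{u}] B) : Prd T (.of B) ⟶ Prd T (.of A) :=
  Over.homMk (prod.map (𝟙 T.left) (Spec.map (CommRingCat.ofHom φ.toRingHom))) (by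
    show _ ≫ prod.fst ≫ T.hom = prod.fst ≫ T.hom
    rw [prod.map_fst_assoc]
    simp)

section

variable {A B D : Type u} [CommRing A] [CommRing B] [CommRing D]
  [Algebra Zu.{u} A] [Algebra Zu.{u} B] [Algebra Zu.{u} D]

@[reassoc]
theorem prMap_prH (φ : A →ₐ[Zu.{u}] B) : prMap T φ ≫ prH T (.of A) = prH T (.of B) := by
  ext : 1
  show prod.map _ _ ≫ prod.fst = prod.fst
  rw [prod.map_fst, Category.comp_id]

theorem prMap_comp (φ : A →ₐ[Zu.{u}] B) (ψ : B →ₐ[Zu.{u}] D) :
    prMap T (ψ.comp φ) = prMap T ψ ≫ prMap T φ := by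
  ext : 1
  show prod.map _ _ = prod.map _ _ ≫ prod.map _ _
  rw [prod.map_map, Category.comp_id, ← Spec.map_comp, ← CommRingCat.ofHom_comp]
  rfl

theorem prMap_id : prMap T (AlgHom.id Zu.{u} A) = 𝟙 _ := by
  ext : 1
  show prod.map _ (Spec.map (𝟙 _)) = _
  rw [Spec.map_id, prod.map_id_id]
  rfl

theorem isOpenImmersion_prMap (φ : A →ₐ[Zu.{u}] B)
    (h : IsOpenImmersion (Spec.map (CommRingCat.ofHom φ.toRingHom))) :
    IsOpenImmersion (prMap T φ).left :=
  MorphismProperty.of_isPullback (P := @IsOpenImmersion) (isPullback_prod_map_snd T.left _) h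

theorem isPullback_prodSpec (K : Type u) [CommRing K] [Algebra Zu.{u} K] (A : Type u) [CommRing A]
    [Algebra Zu.{u} A] :
    ∃ e : Spec (.of K) ⨯ Spec (.of A) ≅ Spec (.of (K ⊗[Zu.{u}] A)),
      e.inv ≫ prod.fst = Spec.map (CommRingCat.ofHom Algebra.TensorProduct.includeLeftRingHom) ∧
      e.inv ≫ prod.snd = Spec.map (CommRingCat.ofHom
        (Algebra.TensorProduct.includeRight (R := Zu.{u}) (A := K) (B := A)).toRingHom) := by
  let q₁ := Spec.map (CommRingCat.ofHom (algebraMap Zu.{u} K))
  let q₂ := Spec.map (CommRingCat.ofHom (algebraMap Zu.{u} A))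
  have sq : IsPullback (prod.fst : Spec (.of K) ⨯ Spec (.of A) ⟶ _) prod.snd q₁ q₂ := by
    convert IsPullback.of_is_product (prodIsProd (Spec (.of K)) (Spec (.of A)))
      specULiftZIsTerminal.{u} using 1 <;> first | rfl | exact specULiftZIsTerminal.hom_ext _ _
  refine ⟨sq.isoPullback ≪≫ pullbackSpecIso Zu.{u} K A, ?_, ?_⟩
  · simp only [Iso.trans_inv, Category.assoc, IsPullback.isoPullback_inv_fst]
    exact pullbackSpecIso_inv_fst ..
  · simp only [Iso.trans_inv, Category.assoc, IsPullback.isoPullback_inv_snd]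
    exact pullbackSpecIso_inv_snd ..

/-- A linearly split homomorphism gives schematically dominant maps of products. -/
theorem isSchDominant_prMap (φ : A →ₐ[Zu.{u}] B) (ψ : B →ₗ[Zu.{u}] A)
    (hψ : ∀ a, ψ (φ a) = a) : IsSchDominant (prMap T φ).left := by
  intro E i _ ⟨l, hl⟩
  let Sp := Spec.map (CommRingCat.ofHom φ.toRingHom)
  change l ≫ i = prod.map (𝟙 T.left) Sp at hl
  let 𝒰 := T.left.affineCover.pullback₁ (prod.fst : T.left ⨯ Spec (.of A) ⟶ T.left)
  show MorphismProperty.isomorphisms Scheme i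
  refine (IsZariskiLocalAtTarget.iff_of_openCover (P := .isomorphisms Scheme) 𝒰).2 fun n => ?_
  let a := T.left.affineCover.f n
  let K : CommRingCat.{u} := (T.left.affineCover.X n).presheaf.obj (.op ⊤)
  have : IsAffine (T.left.affineCover.X n) := inferInstance
  let b : Spec (.of K) ⟶ T.left := (T.left.affineCover.X n).isoSpec.inv ≫ a
  -- the product with the affine piece
  let Q : Spec (.of K) ⨯ Spec (.of A) ⟶ T.left ⨯ Spec (.of A) := prod.map b (𝟙 _)
  have hQ : IsPullback prod.fst Q b prod.fst := IsPullback.of_prod_fst_with_id b (Spec (.of A))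
  have hn : IsPullback (𝒰.f n) (pullback.snd (prod.fst : T.left ⨯ Spec (.of A) ⟶ T.left) a)
      prod.fst a := IsPullback.of_hasPullback _ _
  let c : Spec (.of K) ⨯ Spec (.of A) ⟶ 𝒰.X n :=
    hn.lift Q (prod.fst ≫ (T.left.affineCover.X n).isoSpec.inv) (by
      rw [Category.assoc]; exact hQ.w.symm)
  have hc : c ≫ 𝒰.f n = Q := hn.lift_fst _ _ _
  have hciso : IsIso c := by
    have h1 : IsPullback Q (prod.fst ≫ (T.left.affineCover.X n).isoSpec.inv) prod.fst a :=
      IsPullback.of_iso hQ.flip (Iso.refl _) (Iso.refl _) (T.left.affineCover.X n).isoSpec.symm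
        (Iso.refl _) (by simp) (by simp) (by simp) (by simp [b])
    have hc2 : c ≫ pullback.snd _ _ = prod.fst ≫ (T.left.affineCover.X n).isoSpec.inv :=
      hn.lift_snd _ _ _
    refine ⟨h1.lift (𝒰.f n) (pullback.snd _ _) hn.w,
      h1.hom_ext (by simp [c]) (by
        rw [Category.assoc, h1.lift_snd, Category.id_comp]; exact hc2), hn.hom_ext (by simp [c]) ?_⟩
    rw [Category.assoc, Category.id_comp]
    exact (congrArg (_ ≫ ·) hc2).trans (h1.lift_snd _ _ _)
  suffices h : IsIso (pullback.snd i Q) by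
    have e : pullback.snd i Q ≫ c = pullback.map i Q i (𝒰.f n) (𝟙 _) c (𝟙 _) (by simp)
        (by simp [hc]) ≫ pullback.snd i (𝒰.f n) := by simp
    have h' : IsIso (pullback.snd i Q ≫ c) := inferInstance
    rw [e] at h'
    exact IsIso.of_isIso_comp_left (pullback.map i Q i (𝒰.f n) (𝟙 _) c (𝟙 _) _ _)
      (pullback.snd i (𝒰.f n))
  let : Algebra Zu.{u} K := ((algebraMap ℤ K).comp Zu.equiv.toRingHom).toAlgebra
  obtain ⟨eA, eA₁, eA₂⟩ := isPullback_prodSpec K A
  obtain ⟨eB, eB₁, eB₂⟩ := isPullback_prodSpec K B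
  let Φ : K ⊗[Zu.{u}] A →ₐ[Zu.{u}] K ⊗[Zu.{u}] B :=
    Algebra.TensorProduct.map (AlgHom.id Zu.{u} K) φ
  have hΦ : Function.Injective Φ := by
    refine Function.LeftInverse.injective (g := LinearMap.lTensor K ψ) fun z => ?_
    have : (LinearMap.lTensor K ψ).comp Φ.toLinearMap = LinearMap.id := by
      apply TensorProduct.ext'
      intro k x
      show LinearMap.lTensor K ψ (Algebra.TensorProduct.map (AlgHom.id Zu.{u} K) φ (k ⊗ₜ x)) = _
      rw [Algebra.TensorProduct.map_tmul, LinearMap.lTensor_tmul, hψ]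
      rfl
    exact LinearMap.congr_fun this z
  have hcompat : Spec.map (CommRingCat.ofHom Φ.toRingHom) ≫ eA.inv =
      eB.inv ≫ prod.map (𝟙 (Spec (.of K))) Sp := by
    apply prod.hom_ext
    · simp only [Category.assoc, prod.map_fst, Category.comp_id]
      erw [eA₁, eB₁, ← Spec.map_comp]
      congr 1
      ext x
      show Φ (x ⊗ₜ[Zu.{u}] (1 : A)) = x ⊗ₜ[Zu.{u}] (1 : B)
      simp [Φ]
    · simp only [Category.assoc, prod.map_snd]
      erw [eA₂, reassoc_of% eB₂, ← Spec.map_comp, ← Spec.map_comp]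
      congr 1
  let l' : Spec (.of K) ⨯ Spec (.of B) ⟶ pullback i Q :=
    pullback.lift (prod.map b (𝟙 _) ≫ l) (prod.map (𝟙 _) Sp) (by
      rw [Category.assoc, hl, prod.map_map, prod.map_map, Category.comp_id, Category.id_comp,
        Category.id_comp, Category.comp_id])
  have := isIso_of_factors_spec (CommRingCat.ofHom Φ.toRingHom) hΦ (pullback.snd i Q ≫ eA.hom)
    (eB.inv ≫ l') (by
      rw [Category.assoc, pullback.lift_snd_assoc, ← Category.assoc, ← hcompat, Category.assoc,
        Iso.inv_hom_id]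
      exact Category.comp_id _)
  exact IsIso.of_isIso_comp_right (pullback.snd i Q) eA.hom

/-- The product with the spectrum of the integers is the scheme itself. -/
theorem isIso_prH : IsIso (prH T (.of Zu.{u})) := by
  have h : IsIso (prod.fst : T.left ⨯ Spec (.of Zu.{u}) ⟶ T.left) :=
    ⟨prod.lift (𝟙 _) (specULiftZIsTerminal.from _),
      prod.hom_ext (by simp) (specULiftZIsTerminal.hom_ext _ _), by simp⟩
  have : IsIso ((Over.forget S).map (prH T (.of Zu.{u}))) := h
  exact isIso_of_reflects_iso _ (Over.forget S)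

end

end Groth.Misc10.IsoNat
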