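import Groth.Agent.Misc10.IsoNat.Cls
import Groth.Prelude.Def_AlgSt4

/-!
# Points of a category over schemes through its presheaf of isomorphism classes
-/

set_option autoImplicit false
set_option backward.isDefEq.respectTransparency false
set_option backward.isDefEq.respectTransparency.types false

universe u

open CategoryTheory AlgebraicGeometry

namespace Groth.Misc10.IsoNat

variable {S : Scheme.{u}} {𝒳 𝒴 𝒳' 𝒴' : AlgSt.Cat S}

/-- The fibre object of a field-valued point. -/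
def fptFib (p : AlgSt.FPt 𝒳) : 𝒳.p.Fiber (Over.mk p.str) := ⟨p.obj, p.lies⟩

/-- A field-valued point with the same field and another object. -/
def fptOf (p : AlgSt.FPt 𝒳) {𝒵 : AlgSt.Cat S} (x : 𝒵.p.Fiber (Over.mk p.str)) : AlgSt.FPt 𝒵 :=
  { K := p.K, str := p.str, obj := x.1, lies := x.2 }

/-- Transport of a field-valued point. -/
noncomputable def trFPt (ψ : IsoNat.FIso 𝒳 𝒳') (p : AlgSt.FPt 𝒳) : AlgSt.FPt 𝒳' :=
  fptOf p (exists_cls (ψ.toEquiv _ (IsoNat.cls (fptFib p)))).choose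

theorem cls_trFPt (ψ : IsoNat.FIso 𝒳 𝒳') (p : AlgSt.FPt 𝒳) :
    IsoNat.cls (exists_cls (ψ.toEquiv _ (IsoNat.cls (fptFib p)))).choose =
      ψ.toEquiv _ (IsoNat.cls (fptFib p)) :=
  (exists_cls (ψ.toEquiv _ (IsoNat.cls (fptFib p)))).choose_spec

theorem mk_fptOf_eq {𝒵 : AlgSt.Cat S} (p : AlgSt.FPt 𝒳) {x y : 𝒵.p.Fiber (Over.mk p.str)}
    (h : IsoNat.cls x = IsoNat.cls y) :
    AlgSt.Points.mk (fptOf p x) = AlgSt.Points.mk (fptOf p y) := by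
  obtain ⟨e⟩ := cls_eq_iff.1 h
  exact AlgSt.Points.sound ⟨fptOf p x, 𝟙 _, e.hom.1, trivial⟩

theorem mk_trFPt_eq_of_hom (ψ : IsoNat.FIso 𝒳 𝒳') {r p : AlgSt.FPt 𝒳} (a : r.obj ⟶ p.obj) :
    AlgSt.Points.mk (trFPt ψ r) = AlgSt.Points.mk (trFPt ψ p) := by
  let g : Over.mk r.str ⟶ Over.mk p.str := eqToHom r.lies.symm ≫ 𝒳.p.map a ≫ eqToHom p.lies
  have hg : 𝒳.p.IsHomLift g a := by
    apply IsHomLift.of_fac 𝒳.p g a r.lies p.lies
    simp [g]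
  obtain ⟨y', y, b, -, h', h⟩ := ψ.natural g (fptFib r) (fptFib p) a hg
  have e₁ := mk_fptOf_eq r ((cls_trFPt ψ r).trans h')
  have e₂ := mk_fptOf_eq p ((cls_trFPt ψ p).trans h)
  exact e₁.trans ((AlgSt.Points.sound (p := fptOf r y') (q := fptOf p y) ⟨fptOf r y', 𝟙 _, b, trivial⟩).trans e₂.symm)

/-- The map on points induced by an isomorphism of presheaves of isomorphism classes. -/
noncomputable def trPts (ψ : IsoNat.FIso 𝒳 𝒳') : AlgSt.Points 𝒳 → AlgSt.Points 𝒳' :=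
  Quot.lift (fun p => AlgSt.Points.mk (trFPt ψ p)) fun _ _ ⟨_, a, b, _⟩ =>
    (mk_trFPt_eq_of_hom ψ a).symm.trans (mk_trFPt_eq_of_hom ψ b)

theorem trPts_mk (ψ : IsoNat.FIso 𝒳 𝒳') (p : AlgSt.FPt 𝒳) :
    trPts ψ (AlgSt.Points.mk p) = AlgSt.Points.mk (trFPt ψ p) := rfl

theorem surjective_trPts (ψ : IsoNat.FIso 𝒳 𝒳') : Function.Surjective (trPts ψ) := by
  intro z
  obtain ⟨p', rfl⟩ := AlgSt.Points.mk_surjective z
  obtain ⟨y, hy⟩ := exists_cls ((ψ.toEquiv _).symm (IsoNat.cls (fptFib p')))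
  let p : AlgSt.FPt 𝒳 := fptOf p' y
  refine ⟨AlgSt.Points.mk p, ?_⟩
  rw [trPts_mk]
  refine mk_fptOf_eq p (x := (exists_cls (ψ.toEquiv _ (IsoNat.cls (fptFib p)))).choose)
    (y := (fptFib p' : 𝒳'.p.Fiber (Over.mk p.str))) ((cls_trFPt ψ p).trans ?_)
  show ψ.toEquiv _ (IsoNat.cls y) = _
  rw [hy]
  exact Equiv.apply_symm_apply _ _

theorem trPts_map {f : 𝒳 ⥤ᵇ 𝒴} {f' : 𝒳' ⥤ᵇ 𝒴'} (φ : IsoNat.FIsoSq f f')
    (z : AlgSt.Points 𝒳) :
    trPts φ.tgt (AlgSt.Points.map f z) = AlgSt.Points.map f' (trPts φ.src z) := by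
  obtain ⟨q, rfl⟩ := AlgSt.Points.mk_surjective z
  let x := (exists_cls (φ.src.toEquiv _ (IsoNat.cls (fptFib q)))).choose
  have hx : IsoNat.cls x = φ.src.toEquiv _ (IsoNat.cls (fptFib q)) := cls_trFPt φ.src q
  refine mk_fptOf_eq q (y := (IsoNat.fibFun f' (Over.mk q.str)).obj x)
    ((cls_trFPt φ.tgt (q.map f)).trans ?_)
  exact (φ.comm (Over.mk q.str) (IsoNat.cls (fptFib q))).trans (congrArg (IsoNat.mapCls f' _) hx.symm)

theorem isSurjective_of_fIsoSq {f : 𝒳 ⥤ᵇ 𝒴} {f' : 𝒳' ⥤ᵇ 𝒴'} (φ : IsoNat.FIsoSq f f')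
    (hf : AlgSt.IsSurjective f) : AlgSt.IsSurjective f' := by
  intro z
  obtain ⟨w, rfl⟩ := surjective_trPts φ.tgt z
  obtain ⟨v, rfl⟩ := hf w
  exact ⟨trPts φ.src v, (trPts_map φ v).symm⟩

open Groth.StkBase in
/-- The class over `U` of the functor attached to an object is the class of the object. -/
theorem exists_objCls (hX : FibCat.IsFibGrpd 𝒳.p) {U : Over S} (c : IsoNat.IsoCl 𝒳 U) :
    ∃ x : FibCat.overCat U ⥤ᵇ 𝒳, IsoNat.objCls x = c := by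
  obtain ⟨a, rfl⟩ := exists_cls c
  obtain ⟨i, hi⟩ := overFunctor_eval hX a.1 a.2
  have hl := hi.isHomLift ((overFunctor hX a.1 a.2).w_obj (idObj U))
  exact ⟨overFunctor hX a.1 a.2,
    cls_eq_iff.2 ⟨fiberIso hX (x := ⟨_, (overFunctor hX a.1 a.2).w_obj (idObj U)⟩) ⟨i.hom, hl⟩⟩⟩

/-- The fibre object of a chart at a point of the slice. -/
def chartObj {U T : Over S} (x : FibCat.overCat U ⥤ᵇ 𝒳) (g : T ⟶ U) : 𝒳.p.Fiber T :=
  ⟨x.obj (Over.mk g), x.w_obj _⟩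

/-- The structural lift from a chart object to the universal one. -/
def chartLift {U T : Over S} (x : FibCat.overCat U ⥤ᵇ 𝒳) (g : T ⟶ U) :
    Lift g (chartObj x g) (chartObj x (𝟙 U)) :=
  ⟨x.map (Over.homMk g (by simp) : Over.mk g ⟶ Over.mk (𝟙 U)), by
    have := x.w
    exact (BasedFunctor.isHomLift_iff x _ _).2
      (IsHomLift.map (FibCat.overCat U).p (Over.homMk g (by simp) : Over.mk g ⟶ Over.mk (𝟙 U)))⟩

theorem cls_chartObj (hX : FibCat.IsFibGrpd 𝒳.p) {U T : Over S} (x : FibCat.overCat U ⥤ᵇ 𝒳)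
    (g : T ⟶ U) : IsoNat.cls (chartObj x g) = pullCls hX g (IsoNat.objCls x) :=
  (pullCls_cls hX (chartLift x g)).symm

theorem cls_chartObj_eq (ψ : IsoNat.FIso 𝒳 𝒴) (hX : FibCat.IsFibGrpd 𝒳.p)
    (hY : FibCat.IsFibGrpd 𝒴.p) {U : Over S} {x : FibCat.overCat U ⥤ᵇ 𝒳}
    {y : FibCat.overCat U ⥤ᵇ 𝒴} (h : ψ.toEquiv U (IsoNat.objCls x) = IsoNat.objCls y)
    {T : Over S} (g : T ⟶ U) :
    ψ.toEquiv T (IsoNat.cls (chartObj x g)) = IsoNat.cls (chartObj y g) := by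
  rw [cls_chartObj hX, cls_chartObj hY, toEquiv_pullCls ψ hX hY, h]

theorem trPts_ofChart (ψ : IsoNat.FIso 𝒳 𝒴) (hX : FibCat.IsFibGrpd 𝒳.p)
    (hY : FibCat.IsFibGrpd 𝒴.p) {U : Over S} {x : FibCat.overCat U ⥤ᵇ 𝒳}
    {y : FibCat.overCat U ⥤ᵇ 𝒴} (h : ψ.toEquiv U (IsoNat.objCls x) = IsoNat.objCls y)
    (t : ↥U.left) : trPts ψ (AlgSt.Points.ofChart x t) = AlgSt.Points.ofChart y t := by
  let q : AlgSt.FPt 𝒳 :=
    { K := ↥(U.left.residueField t)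
      str := U.left.fromSpecResidueField t ≫ U.hom
      obj := x.obj (Over.mk (Over.homMk (U.left.fromSpecResidueField t) rfl :
        Over.mk (U.left.fromSpecResidueField t ≫ U.hom) ⟶ U))
      lies := x.w_obj _ }
  let g : Over.mk q.str ⟶ U := Over.homMk (U.left.fromSpecResidueField t) rfl
  exact mk_fptOf_eq q (y := chartObj y g)
    ((cls_trFPt ψ q).trans (cls_chartObj_eq ψ hX hY h g))

end Groth.Misc10.IsoNat
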