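import Groth.Agent.Misc10.IsoNat.OpenSub
import Groth.Agent.Misc10.IsoNat.Points
import Groth.Agent.AlgStBasic.StCompact
import Groth.Agent.AlgSpBasic.QComp
import Groth.Agent.AlgSp2.DecentCover

/-!
# Quasi-compact morphisms of algebraic stacks through their spaces of points
-/

set_option autoImplicit false
set_option backward.isDefEq.respectTransparency false
set_option backward.isDefEq.respectTransparency.types false

universe u

open CategoryTheory CategoryTheory.Limits AlgebraicGeometry Topology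
open Groth.StkBase Groth.AlgStBasic

namespace Groth.Misc10.IsoNat

variable {S : Scheme.{u}} {𝒳 𝒴 : AlgSt.Cat S}

/-- The objects all of whose points lie in a set of points. -/
def InPts (O : Set (AlgSt.Points 𝒳)) (η : 𝒳.obj) : Prop :=
  ∀ (p : AlgSt.FPt 𝒳) (_ : p.obj ⟶ η), AlgSt.Points.mk p ∈ O

theorem inPts_pull (O : Set (AlgSt.Points 𝒳)) ⦃η' η : 𝒳.obj⦄ (a : η' ⟶ η) (h : InPts O η) :
    InPts O η' := fun p b => h p (b ≫ a)

theorem inPts_chart_iff (hX : FibCat.IsFibGrpd 𝒳.p) (O : Set (AlgSt.Points 𝒳)) {U T : Over S}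
    (y : FibCat.overCat U ⥤ᵇ 𝒳) (g : T ⟶ U) :
    InPts O (y.obj (Over.mk g)) ↔ ∀ t : ↥T.left, AlgSt.Points.ofChart y (g.left t) ∈ O := by
  constructor
  · intro h t
    rw [← ofChart_overMap]
    exact h _ (y.map (Over.homMk (Over.homMk (T.left.fromSpecResidueField t) rfl :
      Over.mk (T.left.fromSpecResidueField t ≫ T.hom) ⟶ T) rfl))
  · intro h q a
    let k : Over.mk q.str ⟶ T :=
      eqToHom q.lies.symm ≫ 𝒳.p.map a ≫ eqToHom (y.w_obj (Over.mk g))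
    have ha : 𝒳.p.IsHomLift k a := by
      apply IsHomLift.of_fac 𝒳.p k a q.lies (y.w_obj (Over.mk g))
      simp [k]
    let x := BasedFunctor.comp (AlgSt.overMap g) y
    let r : AlgSt.FPt (FibCat.overCat T) :=
      { K := q.K, str := q.str, obj := Over.mk k, lies := rfl }
    let l : Lift k (chartObj y (k ≫ g)) (chartObj y g) :=
      ⟨y.map (Over.homMk k (by simp) : Over.mk (k ≫ g) ⟶ Over.mk g),
        (BasedFunctor.isHomLift_iff y _ _).2 (IsHomLift.map (FibCat.overCat U).p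
          (Over.homMk k (by simp) : Over.mk (k ≫ g) ⟶ Over.mk g))⟩
    obtain ⟨i, -⟩ := iso_of_lifts hX (y := fptFib q) (x := chartObj y g) ⟨a, ha⟩ l
    have e : AlgSt.Points.mk q = AlgSt.Points.map x (AlgSt.Points.mk r) :=
      mk_eq_of_hom (q := r.map x) i.hom.1
    rw [e, ← ofChart_id_ptToScheme (AlgSt.Points.mk r), ← ofChart_eq_map, ofChart_overMap]
    exact h _

theorem isOpenSubstack_inPts (hX : AlgSt.IsAlgStack Scheme.fppfPrecoverage 𝒳)
    (O : Set (AlgSt.Points 𝒳)) (hO : IsOpen O) :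
    AlgSt.IsOpenSubstack 𝒳 (InPts O) Scheme.fppfPrecoverage := by
  refine isOpenSubstack_of_open hX _ (inPts_pull O) fun U y => ?_
  let V : U.left.Opens := ⟨AlgSt.Points.ofChart y ⁻¹' O, hO.preimage (continuous_ofChart hX y)⟩
  refine ⟨V, fun g => (inPts_chart_iff hX.1.1 O y g.hom).trans ⟨fun h => ?_, ?_⟩⟩
  · have hr : Set.range g.hom.left ⊆ Set.range V.ι := by
      rintro _ ⟨t, rfl⟩
      rw [Scheme.Opens.range_ι]
      exact h t
    exact ⟨IsOpenImmersion.lift V.ι g.hom.left hr, IsOpenImmersion.lift_fac _ _ _⟩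
  · rintro ⟨g', hg'⟩ t
    rw [← hg']
    exact (g' t).2

theorem range_map_subIncl_inPts (O : Set (AlgSt.Points 𝒳)) :
    Set.range (AlgSt.Points.map (AlgSt.subIncl 𝒳 (InPts O))) = O := by
  refine Set.Subset.antisymm ?_ fun z hz => ?_
  · rintro _ ⟨w, rfl⟩
    obtain ⟨p, rfl⟩ := AlgSt.Points.mk_surjective w
    exact p.obj.property (p.map (AlgSt.subIncl 𝒳 (InPts O))) (𝟙 _)
  · obtain ⟨p, rfl⟩ := AlgSt.Points.mk_surjective z
    have hp : InPts O p.obj := fun q a => (mk_eq_of_hom a).symm ▸ hz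
    exact ⟨AlgSt.Points.mk { K := p.K, str := p.str, obj := ⟨p.obj, hp⟩, lies := p.lies }, rfl⟩

theorem isEmbedding_map_of_isOpenImm (hX : AlgSt.IsAlgStack Scheme.fppfPrecoverage 𝒳)
    (hY : AlgSt.IsAlgStack Scheme.fppfPrecoverage 𝒴) {i : 𝒳 ⥤ᵇ 𝒴} (hi : AlgSt.IsOpenImm i) :
    IsOpenEmbedding (AlgSt.Points.map i) := by
  obtain ⟨_, _⟩ := fullyFaithful_of_isMono hX.1.1 hY.1.1 i (Groth.AlgStBasic.repWith_mono
    (fun _ _ φ _ _ h => (Groth.AlgSpBasic.monomorphisms_repWith_mono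
      (Groth.AlgSp2.repWith_monomorphisms_of_openImmersion h) : Mono φ)) hi)
  have h₁ : AlgSt.RepByAlgSpWith (AlgSp.LocP @Flat) i := Groth.AlgStBasic.repWith_mono
    (fun _ _ _ _ _ h => Groth.AlgStBasic.locP_of_repWith
      (fun _ _ φ (_ : Etale φ) => (inferInstance : Flat φ))
      (Groth.AlgSpBasic.repWith_mono (fun _ _ φ (_ : IsOpenImmersion φ) => (inferInstance : Flat φ)) h)) hi
  have h₂ : AlgSt.RepByAlgSpWith (AlgSp.LocP @LocallyOfFinitePresentation) i :=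
    Groth.AlgStBasic.repWith_mono
      (fun _ _ _ _ _ h => Groth.AlgStBasic.locP_of_repWith
        (fun _ _ φ (_ : Etale φ) => (inferInstance : LocallyOfFinitePresentation φ))
        (Groth.AlgSpBasic.repWith_mono
          (fun _ _ φ (_ : IsOpenImmersion φ) => (inferInstance : LocallyOfFinitePresentation φ)) h)) hi
  exact .of_continuous_injective_isOpenMap (continuous_map hY i)
    (injective_map_of_full_faithful hX.1.1 hY.1.1 i) (isOpenMap_map_of_repWith hX hY.1.1 h₁ h₂)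

/-- The fibre product of two quasi-compact scheme charts is quasi-compact when the diagonal is. -/
theorem compactSpace_points_fp_overCat [QuasiSeparatedSpace S]
    (hY : AlgSt.IsAlgStack Scheme.fppfPrecoverage 𝒴)
    (hd : AlgSt.RepByAlgSpWith AlgSp.IsQuasiCompactMor (FibCat.diag (FibCat.toSelf 𝒴)))
    {V W : Over S} [IsAffine V.left] [IsAffine W.left]
    (a : FibCat.overCat V ⥤ᵇ 𝒴) (b : FibCat.overCat W ⥤ᵇ 𝒴) :
    CompactSpace (AlgSt.Points (FibCat.fp a b)) := by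
  have hV := isAlgStack_overCat V
  have hW := isAlgStack_overCat W
  have : QuasiCompact V.hom := inferInstance
  let Z : Over S := Over.mk (pullback.fst V.hom W.hom ≫ V.hom)
  have : CompactSpace ↥W.left := inferInstance
  have : CompactSpace ↥(pullback V.hom W.hom) :=
    QuasiCompact.compactSpace_of_compactSpace (pullback.snd V.hom W.hom)
  have : CompactSpace ↥Z.left := this
  let A := BasedFunctor.comp a (FibCat.toSelf 𝒴)
  let B := BasedFunctor.comp b (FibCat.toSelf 𝒴)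
  let p₁ : Z ⟶ V := Over.homMk (pullback.fst V.hom W.hom) rfl
  let p₂ : Z ⟶ W := Over.homMk (pullback.snd V.hom W.hom) pullback.condition.symm
  let z : FibCat.overCat Z ⥤ᵇ FibCat.fp A B :=
    FibCat.fpLift (AlgSt.overMap p₁) (AlgSt.overMap p₂) (selfIso _ _)
  have hP := isAlgStack_fp isStack_selfOver repByAlgSp1_diag_selfOver hV hW A B
  have hF := isAlgStack_fp hY.isStack hY.diag hV hW a b
  have hZ := isAlgStack_overCat Z
  have hz : AlgSt.IsSurjective z := by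
    intro w
    obtain ⟨q, rfl⟩ := AlgSt.Points.mk_surjective w
    let g₁ : Over.mk q.str ⟶ V := eqToHom q.lies.symm ≫ q.obj.obj.fst.hom
    have hs : q.obj.obj.snd.left = q.obj.obj.fst.left := by
      have := (isVert_of_isHomLift (p := (FibCat.selfOver (Over S)).p) q.obj.property).obj_eq
      exact ((B.w_obj _).symm.trans this.symm).trans (A.w_obj _)
    let g₂ : Over.mk q.str ⟶ W := eqToHom (hs.trans q.lies).symm ≫ q.obj.obj.snd.hom
    let k : Over.mk q.str ⟶ Z := Over.homMk (pullback.lift g₁.left g₂.left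
      ((Over.w g₁).trans (Over.w g₂).symm))
      ((Category.assoc _ _ _).symm.trans ((congrArg (· ≫ V.hom) (pullback.lift_fst _ _ _)).trans (Over.w g₁)))
    have e₁ : k ≫ p₁ = g₁ := Over.OverMorphism.ext (pullback.lift_fst _ _ _)
    have e₂ : k ≫ p₂ = g₂ := Over.OverMorphism.ext (pullback.lift_snd _ _ _)
    let r : AlgSt.FPt (FibCat.overCat Z) := { K := q.K, str := q.str, obj := Over.mk k, lies := rfl }
    let i₁ : Over.mk (k ≫ p₁) ≅ q.obj.obj.fst := Over.isoMk (eqToIso q.lies.symm) (by simp [e₁, g₁])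
    let i₂ : Over.mk (k ≫ p₂) ≅ q.obj.obj.snd :=
      Over.isoMk (eqToIso (hs.trans q.lies).symm) (by simp [e₂, g₂])
    let I : z.obj (Over.mk k) ≅ q.obj := fpObjIso i₁ i₂
      (self_ext ((isVert_map (F := A) (φ := i₁.hom) ⟨q.lies.symm, rfl⟩).comp (fp_isVert _))
        ((fp_isVert _).comp (isVert_map (F := B) (φ := i₂.hom) ⟨(hs.trans q.lies).symm, rfl⟩)))
    exact ⟨AlgSt.Points.mk r, mk_eq_of_hom (p := r.map z) I.hom⟩
  obtain ⟨F, e, he, hq⟩ := repWith_fpPost (F := a) (G := b) hd Z z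
  let q : F.obj ⟶ (AlgSp.yon S).obj Z :=
    AlgSt.spMapOfOver (BasedFunctor.comp e (FibCat.fpFst z (fpPost a b (FibCat.toSelf 𝒴))))
  have hsp : AlgSp.IsQuasiCompactSp F.obj :=
    hq (AlgSp.IsAlgSpace.yon_obj Z) ((Groth.AlgSpBasic.isQuasiCompactSp_yon_iff Z).2 inferInstance)
      (𝟙 _) (𝟙 _) q (IsPullback.of_horiz_isIso ⟨by simp [q]⟩)
  have := (Groth.AlgSpBasic.isQuasiCompactSp_iff_compactSpace F.property).1 hsp
  have hFs := isAlgStack_ofSp F.property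
  have := (bijective_spPt (F := F.obj)).2.compactSpace (continuous_spPt F.property)
  let σ := BasedFunctor.comp e (FibCat.fpSnd z (fpPost a b (FibCat.toSelf 𝒴)))
  refine Function.Surjective.compactSpace (f := AlgSt.Points.map σ) (continuous_map hF σ) ?_
  intro w
  obtain ⟨u, hu⟩ := hz (AlgSt.Points.map (fpPost a b (FibCat.toSelf 𝒴)) w)
  obtain ⟨c, -, hc⟩ := exists_points_fp hF.isStack.1 hP.isStack.1 hZ.isStack.1
    (fpPost a b (FibCat.toSelf 𝒴)) z u w hu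
  obtain ⟨d, rfl⟩ := (bijective_map_of_isEquivOver he).2 c
  exact ⟨d, (map_comp _ _ _).trans hc⟩

/-- A compact set of points is contained in a compact open one. -/
theorem exists_compact_open_superset (hY : AlgSt.IsAlgStack Scheme.fppfPrecoverage 𝒴)
    {K : Set (AlgSt.Points 𝒴)} (hK : IsCompact K) :
    ∃ O, IsOpen O ∧ IsCompact O ∧ K ⊆ O := by
  choose O hO₁ hO₂ hO₃ _ using fun z : AlgSt.Points 𝒴 =>
    exists_isOpen_isCompact_nhd hY z isOpen_univ (Set.mem_univ z)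
  obtain ⟨t, ht⟩ := hK.elim_finite_subcover O hO₁ fun z _ => Set.mem_iUnion.2 ⟨z, hO₃ z⟩
  exact ⟨⋃ z ∈ t, O z, isOpen_biUnion fun z _ => hO₁ z,
    t.finite_toSet.isCompact_biUnion fun z _ => hO₂ z, ht⟩

theorem isHomLift_baseHom {p q : AlgSt.FPt 𝒳} (a : p.obj ⟶ q.obj) :
    𝒳.p.IsHomLift (baseHom a) a := by
  apply IsHomLift.of_fac 𝒳.p (baseHom a) a p.lies q.lies
  simp [baseHom]

/-- Lifting a point of a fibre product along charts of the two factors. -/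
theorem exists_lift_point {𝒯 𝒱 𝒲 : AlgSt.Cat S} (hT : FibCat.IsFibGrpd 𝒯.p) (hX : FibCat.IsFibGrpd 𝒳.p)
    (hY : FibCat.IsFibGrpd 𝒴.p) (hV : FibCat.IsFibGrpd 𝒱.p) (hW : FibCat.IsFibGrpd 𝒲.p)
    (g : 𝒯 ⥤ᵇ 𝒴) (f : 𝒳 ⥤ᵇ 𝒴) (v : 𝒱 ⥤ᵇ 𝒯) (w : 𝒲 ⥤ᵇ 𝒳) (p : AlgSt.FPt (FibCat.fp g f))
    (pv : AlgSt.FPt 𝒱) (pw : AlgSt.FPt 𝒲)
    (e₁ : AlgSt.Points.mk (pv.map v) = AlgSt.Points.mk (p.map (FibCat.fpFst g f)))
    (e₂ : AlgSt.Points.mk (pw.map w) = AlgSt.Points.mk (p.map (FibCat.fpSnd g f))) :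
    ∃ c, AlgSt.Points.map (FibCat.fpLift (BasedFunctor.comp (FibCat.fpFst (BasedFunctor.comp v g)
      (BasedFunctor.comp w f)) v) (BasedFunctor.comp (FibCat.fpSnd (BasedFunctor.comp v g)
      (BasedFunctor.comp w f)) w) (FibCat.fpIso (BasedFunctor.comp v g) (BasedFunctor.comp w f))) c =
        AlgSt.Points.mk p := by
  obtain ⟨r₁, a₁, c₁, -⟩ := (mk_eq_mk_iff hT).1 e₁
  obtain ⟨r₂, a₂, c₂, -⟩ := (mk_eq_mk_iff hX).1 e₂
  let b₁ : Over.mk r₁.str ⟶ Over.mk p.str := baseHom c₁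
  let b₂ : Over.mk r₂.str ⟶ Over.mk p.str := baseHom c₂
  obtain ⟨Ω, _, ω, d₁, d₂, hd⟩ := exists_amalg_over b₁ b₂
  let d : Over.mk ω ⟶ Over.mk p.str := d₁ ≫ b₁
  have hF := isFibGrpd_fp (F := g) (G := f) hT hX hY
  let P := pullObj hF d (fptFib p)
  let l := pullLift hF d (fptFib p)
  have hl₁ : 𝒯.p.IsHomLift d ((FibCat.fpFst g f).map l.1) :=
    (BasedFunctor.isHomLift_iff (FibCat.fpFst g f) _ _).2 l.2
  have hl₂ : 𝒳.p.IsHomLift d ((FibCat.fpSnd g f).map l.1) :=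
    (BasedFunctor.isHomLift_iff (FibCat.fpSnd g f) _ _).2 l.2
  let P₁ : 𝒯.p.Fiber (Over.mk ω) := (IsoNat.fibFun (FibCat.fpFst g f) _).obj P
  let P₂ : 𝒳.p.Fiber (Over.mk ω) := (IsoNat.fibFun (FibCat.fpSnd g f) _).obj P
  let x := pullObj hV (d₁ ≫ baseHom a₁) (fptFib pv)
  let y := pullObj hW (d₂ ≫ baseHom a₂) (fptFib pw)
  let lx : Lift (d₁ ≫ baseHom a₁) ((IsoNat.fibFun v _).obj x) (fptFib (pv.map v)) :=
    ⟨v.map (pullLift hV (d₁ ≫ baseHom a₁) (fptFib pv)).1,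
      (BasedFunctor.isHomLift_iff v _ _).2 (pullLift hV (d₁ ≫ baseHom a₁) (fptFib pv)).2⟩
  let ly : Lift (d₂ ≫ baseHom a₂) ((IsoNat.fibFun w _).obj y) (fptFib (pw.map w)) :=
    ⟨w.map (pullLift hW (d₂ ≫ baseHom a₂) (fptFib pw)).1,
      (BasedFunctor.isHomLift_iff w _ _).2 (pullLift hW (d₂ ≫ baseHom a₂) (fptFib pw)).2⟩
  let la₁ : Lift (baseHom a₁) (fptFib r₁) (fptFib (pv.map v)) := ⟨a₁, isHomLift_baseHom a₁⟩
  let la₂ : Lift (baseHom a₂) (fptFib r₂) (fptFib (pw.map w)) := ⟨a₂, isHomLift_baseHom a₂⟩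
  let lc₁ : Lift (baseHom c₁) (fptFib r₁) (fptFib (p.map (FibCat.fpFst g f))) := ⟨c₁, isHomLift_baseHom c₁⟩
  let lc₂ : Lift (baseHom c₂) (fptFib r₂) (fptFib (p.map (FibCat.fpSnd g f))) := ⟨c₂, isHomLift_baseHom c₂⟩
  obtain ⟨i₁, -⟩ := iso_of_lifts hT lx ((pullLift hT d₁ (fptFib r₁)).comp la₁)
  obtain ⟨j₁, -⟩ := iso_of_lifts hT ((pullLift hT d₁ (fptFib r₁)).comp lc₁ (m := d) rfl)
    (⟨(FibCat.fpFst g f).map l.1, hl₁⟩ : Lift d P₁ (fptFib (p.map (FibCat.fpFst g f))))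
  obtain ⟨i₂, -⟩ := iso_of_lifts hX ly ((pullLift hX d₂ (fptFib r₂)).comp la₂)
  obtain ⟨j₂, -⟩ := iso_of_lifts hX ((pullLift hX d₂ (fptFib r₂)).comp lc₂ (m := d) hd.symm)
    (⟨(FibCat.fpSnd g f).map l.1, hl₂⟩ : Lift d P₂ (fptFib (p.map (FibCat.fpSnd g f))))
  let k₁ : v.obj x.1 ≅ P.1.obj.fst := Functor.Fiber.fiberInclusion.mapIso (i₁ ≪≫ j₁)
  let k₂ : w.obj y.1 ≅ P.1.obj.snd := Functor.Fiber.fiberInclusion.mapIso (i₂ ≪≫ j₂)
  have v₁ : IsVert 𝒯.p k₁.hom := isVert_of_isHomLift (i₁ ≪≫ j₁).hom.2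
  have v₂ : IsVert 𝒳.p k₂.hom := isVert_of_isHomLift (i₂ ≪≫ j₂).hom.2
  let ι : g.obj (v.obj x.1) ≅ f.obj (w.obj y.1) :=
    g.toFunctor.mapIso k₁ ≪≫ P.1.obj.iso ≪≫ f.toFunctor.mapIso k₂.symm
  have hι : IsVert 𝒴.p ι.hom := (isVert_map v₁).comp ((fp_isVert P.1).comp (isVert_map v₂.inv))
  let Q : (FibCat.fp (BasedFunctor.comp v g) (BasedFunctor.comp w f)).obj := fpMk x.1 y.1 ι hι
  let q : AlgSt.FPt (FibCat.fp (BasedFunctor.comp v g) (BasedFunctor.comp w f)) :=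
    { K := Ω, str := ω, obj := Q, lies := x.2 }
  refine ⟨AlgSt.Points.mk q, ?_⟩
  refine (mk_eq_of_hom (q := fptOf q P) (fpObjIso k₁ k₂ ?_).hom).trans (mk_eq_of_hom l.1)
  show g.map k₁.hom ≫ P.1.obj.iso.hom = ι.hom ≫ f.map k₂.hom
  simp [ι]

/-- A morphism is quasi-compact when preimages of compact open sets of points are compact. -/
theorem isQuasiCompactMor_of_isCompact_preimage [QuasiSeparatedSpace S]
    (hX : AlgSt.IsAlgStack Scheme.fppfPrecoverage 𝒳) (hY : AlgSt.IsAlgStack Scheme.fppfPrecoverage 𝒴)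
    (hd : AlgSt.RepByAlgSpWith AlgSp.IsQuasiCompactMor (FibCat.diag (FibCat.toSelf 𝒴)))
    {f : 𝒳 ⥤ᵇ 𝒴}
    (h : ∀ O : Set (AlgSt.Points 𝒴), IsOpen O → IsCompact O → IsCompact (AlgSt.Points.map f ⁻¹' O)) :
    AlgSt.IsQuasiCompactMor Scheme.fppfPrecoverage f := by
  intro 𝒯 hT hTc g
  obtain ⟨V, v, hV, hv, hvs⟩ := hTc
  let y := BasedFunctor.comp v g
  obtain ⟨O, hO₁, hO₂, hO₃⟩ := exists_compact_open_superset hY
    (isCompact_range (continuous_ofChart hY y))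
  obtain ⟨W, w, hW, -, hC⟩ := exists_affine_chart_covering hX (h O hO₁ hO₂)
  have hFib := isAlgStack_fp hY.isStack hY.diag hT hX g f
  have hV' := isAlgStack_overCat V
  have hW' := isAlgStack_overCat W
  let b := BasedFunctor.comp w f
  have hF := isAlgStack_fp hY.isStack hY.diag hV' hW' y b
  have := compactSpace_points_fp_overCat hY hd y b
  let σ : FibCat.fp y b ⥤ᵇ FibCat.fp g f := FibCat.fpLift
    (BasedFunctor.comp (FibCat.fpFst y b) v) (BasedFunctor.comp (FibCat.fpSnd y b) w) (FibCat.fpIso y b)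
  have := Function.Surjective.compactSpace (f := AlgSt.Points.map σ) (continuous_map hFib σ) ?_
  · exact isQuasiCompact_of_compactSpace hFib
  intro z
  obtain ⟨p, rfl⟩ := AlgSt.Points.mk_surjective z
  let p₁ : AlgSt.Points 𝒯 := AlgSt.Points.map (FibCat.fpFst g f) (AlgSt.Points.mk p)
  let p₂ : AlgSt.Points 𝒳 := AlgSt.Points.map (FibCat.fpSnd g f) (AlgSt.Points.mk p)
  obtain ⟨t, ht⟩ := surjective_ofChart hT.isStack.1 hvs p₁
  have hp₂ : AlgSt.Points.map f p₂ = AlgSt.Points.map g p₁ := by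
    rw [← map_comp, ← map_comp, map_eq_of_iso (FibCat.fpIso g f)]
  obtain ⟨s, hs⟩ := hC (show p₂ ∈ AlgSt.Points.map f ⁻¹' O by
    show AlgSt.Points.map f p₂ ∈ O
    rw [hp₂, ← ht, ofChart_eq_map, ← map_comp, ← ofChart_eq_map]
    exact hO₃ ⟨t, rfl⟩)
  -- common refinement of the three field-valued points
  obtain ⟨pv, hpv⟩ := AlgSt.Points.mk_surjective (AlgSt.Points.ofChart (BasedFunctor.id (FibCat.overCat V)) t)
  obtain ⟨pw, hpw⟩ := AlgSt.Points.mk_surjective (AlgSt.Points.ofChart (BasedFunctor.id (FibCat.overCat W)) s)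
  have e₁ : AlgSt.Points.mk (pv.map v) = AlgSt.Points.mk (p.map (FibCat.fpFst g f)) := by
    rw [← AlgSt.Points.map_mk, hpv, ← ofChart_eq_map]; exact ht
  have e₂ : AlgSt.Points.mk (pw.map w) = AlgSt.Points.mk (p.map (FibCat.fpSnd g f)) := by
    rw [← AlgSt.Points.map_mk, hpw, ← ofChart_eq_map]; exact hs
  exact exists_lift_point hT.1.1 hX.1.1 hY.1.1 hV'.1.1 hW'.1.1 g f v w p pv pw e₁ e₂

end Groth.Misc10.IsoNat
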