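import Groth.Agent.Misc10.IsoNat.Points
import Groth.Agent.AlgStBasic.StCompact

/-!
# The space of points is determined by the presheaf of isomorphism classes
-/

set_option autoImplicit false
set_option backward.isDefEq.respectTransparency false
set_option backward.isDefEq.respectTransparency.types false

universe u

open CategoryTheory AlgebraicGeometry Topology

namespace Groth.Misc10.IsoNat

variable {S : Scheme.{u}} {𝒳 𝒴 : AlgSt.Cat S}

theorem continuous_trPts (ψ : IsoNat.FIso 𝒳 𝒴) (hX : FibCat.IsFibGrpd 𝒳.p)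
    (hY : AlgSt.IsAlgStack Scheme.fppfPrecoverage 𝒴) : Continuous (trPts ψ) := by
  refine ⟨fun W hW => AlgSt.Points.isOpen_iff.2 fun U x _ => ?_⟩
  obtain ⟨y, hy⟩ := exists_objCls hY.1.1 (ψ.toEquiv U (IsoNat.objCls x))
  have e : AlgSt.Points.ofChart x ⁻¹' (trPts ψ ⁻¹' W) = AlgSt.Points.ofChart y ⁻¹' W := by
    ext t
    simp only [Set.mem_preimage]
    rw [trPts_ofChart ψ hX hY.1.1 hy.symm t]
  rw [e]
  exact hW.preimage (Groth.AlgStBasic.continuous_ofChart hY y)

theorem isQuasiCompact_of_fIso (ψ : IsoNat.FIso 𝒳 𝒴)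
    (hX : AlgSt.IsAlgStack Scheme.fppfPrecoverage 𝒳) (hY : AlgSt.IsAlgStack Scheme.fppfPrecoverage 𝒴)
    (h : AlgSt.IsQuasiCompact 𝒳) : AlgSt.IsQuasiCompact 𝒴 := by
  have := (Groth.AlgStBasic.isQuasiCompact_iff_compactSpace hX).1 h
  refine (Groth.AlgStBasic.isQuasiCompact_iff_compactSpace hY).2 ⟨?_⟩
  have := isCompact_univ.image (continuous_trPts ψ hX.1.1 hY)
  rwa [Set.image_univ, (surjective_trPts ψ).range_eq] at this

end Groth.Misc10.IsoNat
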