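import Groth.Agent.Misc10.IsoNat.QC
import Groth.Agent.Misc10.IsoNat.Topology

/-!
# Quasi-compactness of morphisms is determined by the presheaves of isomorphism classes
-/

set_option autoImplicit false
set_option backward.isDefEq.respectTransparency false
set_option backward.isDefEq.respectTransparency.types false

universe u

open CategoryTheory AlgebraicGeometry Topology
open Groth.StkBase Groth.AlgStBasic

namespace Groth.Misc10.IsoNat

variable {S : Scheme.{u}} {𝒳 𝒴 𝒳' 𝒴' : AlgSt.Cat S}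

theorem isCompact_preimage_of_forall_openImm
    (hX : AlgSt.IsAlgStack Scheme.fppfPrecoverage 𝒳) (hY : AlgSt.IsAlgStack Scheme.fppfPrecoverage 𝒴)
    {f : 𝒳 ⥤ᵇ 𝒴}
    (h : ∀ (𝒴' : AlgSt.Cat S), AlgSt.IsAlgStack Scheme.fppfPrecoverage 𝒴' → AlgSt.IsQuasiCompact 𝒴' →
      ∀ (j : 𝒴' ⥤ᵇ 𝒴), AlgSt.IsOpenImm j → AlgSt.IsQuasiCompact (FibCat.fp j f))
    (O : Set (AlgSt.Points 𝒴)) (hO : IsOpen O) (hc : IsCompact O) :
    IsCompact (AlgSt.Points.map f ⁻¹' O) := by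
  obtain ⟨-, hA, hi⟩ := isOpenSubstack_inPts hY O hO
  let j := AlgSt.subIncl 𝒴 (InPts O)
  have he := isEmbedding_map_of_isOpenImm hA hY hi
  have hr := range_map_subIncl_inPts (𝒳 := 𝒴) O
  have hcs : CompactSpace (AlgSt.Points (AlgSt.fullSub 𝒴 (InPts O))) :=
    ⟨he.isInducing.isCompact_iff.2 (by rw [Set.image_univ, hr]; exact hc)⟩
  have hP := isAlgStack_fp hY.isStack hY.diag hA hX j f
  have := (isQuasiCompact_iff_compactSpace hP).1
    (h _ hA ((isQuasiCompact_iff_compactSpace hA).2 hcs) j hi)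
  have e : AlgSt.Points.map (FibCat.fpSnd j f) '' Set.univ = AlgSt.Points.map f ⁻¹' O := by
    refine Set.Subset.antisymm ?_ fun x hx => ?_
    · rintro _ ⟨w, -, rfl⟩
      show AlgSt.Points.map f (AlgSt.Points.map (FibCat.fpSnd j f) w) ∈ O
      rw [← map_comp, ← map_eq_of_iso (FibCat.fpIso j f), map_comp]
      exact hr.subset ⟨_, rfl⟩
    · obtain ⟨a, ha⟩ := hr.superset hx
      obtain ⟨c, -, hc⟩ := exists_points_fp hX.isStack.1 hY.isStack.1 hA.isStack.1 f j a x ha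
      exact ⟨c, Set.mem_univ _, hc⟩
  exact e ▸ isCompact_univ.image (continuous_map hX _)

theorem isQuasiCompactMor_iff [QuasiSeparatedSpace S]
    (hX : AlgSt.IsAlgStack Scheme.fppfPrecoverage 𝒳) (hY : AlgSt.IsAlgStack Scheme.fppfPrecoverage 𝒴)
    (hd : AlgSt.RepByAlgSpWith AlgSp.IsQuasiCompactMor (FibCat.diag (FibCat.toSelf 𝒴)))
    (f : 𝒳 ⥤ᵇ 𝒴) :
    AlgSt.IsQuasiCompactMor Scheme.fppfPrecoverage f ↔
      ∀ O : Set (AlgSt.Points 𝒴), IsOpen O → IsCompact O → IsCompact (AlgSt.Points.map f ⁻¹' O) :=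
  ⟨fun h => isCompact_preimage_of_forall_openImm hX hY fun 𝒵 hZ hZc j _ => h 𝒵 hZ hZc j,
    isQuasiCompactMor_of_isCompact_preimage hX hY hd⟩

/-- The inverse of an isomorphism of presheaves of isomorphism classes. -/
noncomputable def fIsoSymm (ψ : IsoNat.FIso 𝒳 𝒴) (hX : FibCat.IsFibGrpd 𝒳.p)
    (hY : FibCat.IsFibGrpd 𝒴.p) : IsoNat.FIso 𝒴 𝒳 where
  toEquiv T := (ψ.toEquiv T).symm
  natural {T' T} g y' y b hb := by
    obtain ⟨x, hx⟩ := exists_cls ((ψ.toEquiv T).symm (IsoNat.cls y))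
    refine ⟨pullObj hX g x, x, (pullLift hX g x).1, (pullLift hX g x).2, ?_, hx.symm⟩
    rw [Equiv.symm_apply_eq, ← pullCls_cls', toEquiv_pullCls ψ hX hY, hx, Equiv.apply_symm_apply,
      pullCls_cls hY (⟨b, hb⟩ : Lift g y' y)]

theorem trPts_fIsoSymm (ψ : IsoNat.FIso 𝒳 𝒴) (hX : FibCat.IsFibGrpd 𝒳.p) (hY : FibCat.IsFibGrpd 𝒴.p)
    (z : AlgSt.Points 𝒳) : trPts (fIsoSymm ψ hX hY) (trPts ψ z) = z := by
  obtain ⟨p, rfl⟩ := AlgSt.Points.mk_surjective z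
  refine mk_fptOf_eq p (y := fptFib p) ((cls_trFPt (fIsoSymm ψ hX hY) (trFPt ψ p)).trans ?_)
  exact ((ψ.toEquiv _).symm_apply_eq).2 (cls_trFPt ψ p)

theorem isQuasiCompactMor_of_fIsoSq [QuasiSeparatedSpace S]
    (hX : AlgSt.IsAlgStack Scheme.fppfPrecoverage 𝒳) (hY : AlgSt.IsAlgStack Scheme.fppfPrecoverage 𝒴)
    (hd : AlgSt.RepByAlgSpWith AlgSp.IsQuasiCompactMor (FibCat.diag (FibCat.toSelf 𝒴)))
    (hX' : AlgSt.IsAlgStack Scheme.fppfPrecoverage 𝒳') (hY' : AlgSt.IsAlgStack Scheme.fppfPrecoverage 𝒴')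
    (hd' : AlgSt.RepByAlgSpWith AlgSp.IsQuasiCompactMor (FibCat.diag (FibCat.toSelf 𝒴')))
    {f : 𝒳 ⥤ᵇ 𝒴} {f' : 𝒳' ⥤ᵇ 𝒴'} (φ : IsoNat.FIsoSq f f')
    (h : AlgSt.IsQuasiCompactMor Scheme.fppfPrecoverage f) :
    AlgSt.IsQuasiCompactMor Scheme.fppfPrecoverage f' := by
  refine (isQuasiCompactMor_iff hX' hY' hd' f').2 fun O hO hc => ?_
  let σ := trPts (fIsoSymm φ.tgt hY.1.1 hY'.1.1)
  have hσ : ∀ z, σ (trPts φ.tgt z) = z := trPts_fIsoSymm φ.tgt hY.1.1 hY'.1.1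
  have e₁ : trPts φ.tgt ⁻¹' O = σ '' O := by
    ext z
    constructor
    · exact fun hz => ⟨_, hz, hσ z⟩
    · rintro ⟨w, hw, rfl⟩
      obtain ⟨v, rfl⟩ := surjective_trPts φ.tgt w
      rw [hσ]
      exact hw
  have h₁ := (isQuasiCompactMor_iff hX hY hd f).1 h _
    (hO.preimage (continuous_trPts φ.tgt hY.1.1 hY'))
    (e₁ ▸ hc.image (continuous_trPts _ hY'.1.1 hY))
  have e₂ : AlgSt.Points.map f' ⁻¹' O =
      trPts φ.src '' (AlgSt.Points.map f ⁻¹' (trPts φ.tgt ⁻¹' O)) := by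
    ext z
    obtain ⟨v, rfl⟩ := surjective_trPts φ.src z
    constructor
    · intro hz
      refine ⟨v, ?_, rfl⟩
      show trPts φ.tgt (AlgSt.Points.map f v) ∈ O
      rw [trPts_map φ]
      exact hz
    · rintro ⟨w, hw, e⟩
      show AlgSt.Points.map f' (trPts φ.src v) ∈ O
      rw [← e, ← trPts_map φ]
      exact hw
  rw [e₂]
  exact h₁.image (continuous_trPts φ.src hX.1.1 hX')

end Groth.Misc10.IsoNat
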