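import Groth.Agent.Misc10.IsoNat.Axes

/-!
# Separatedness of the presheaf of isomorphism classes and automorphisms
-/

set_option autoImplicit false
set_option backward.isDefEq.respectTransparency false
set_option backward.isDefEq.respectTransparency.types false

universe u

open CategoryTheory CategoryTheory.Limits AlgebraicGeometry

noncomputable section

namespace Groth.Misc10.IsoNat

variable {S : Scheme.{u}} {𝒳 : AlgSt.Cat S}

/-- Separatedness of the presheaf of isomorphism classes for fppf covers, as used in the statements. -/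
def SepCls (𝒳 : AlgSt.Cat S) : Prop :=
  ∀ (T T' : Over S) (π : T' ⟶ T) [Flat π.left] [Surjective π.left]
    [LocallyOfFinitePresentation π.left]
    (x₁ x₂ : 𝒳.p.Fiber T) (x₁' x₂' : 𝒳.p.Fiber T') (a₁ : x₁'.1 ⟶ x₁.1) (a₂ : x₂'.1 ⟶ x₂.1),
    𝒳.p.IsHomLift π a₁ → 𝒳.p.IsHomLift π a₂ → Nonempty (x₁' ≅ x₂') → Nonempty (x₁ ≅ x₂)

theorem SepCls.cls_eq (h : SepCls 𝒳) (hg : FibCat.IsFibGrpd 𝒳.p) {T T' : Over S} (π : T' ⟶ T)
    [Flat π.left] [Surjective π.left] [LocallyOfFinitePresentation π.left]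
    {a b : IsoNat.IsoCl 𝒳 T} (e : pullCls hg π a = pullCls hg π b) : a = b := by
  obtain ⟨x, rfl⟩ := exists_cls a
  obtain ⟨y, rfl⟩ := exists_cls b
  exact cls_eq_iff.2 (h T T' π x y _ _ (pullLift hg π x).1 (pullLift hg π y).1
    (pullLift hg π x).2 (pullLift hg π y).2 (cls_eq_iff.1 e))

theorem sepCls_of_cls_eq (hg : FibCat.IsFibGrpd 𝒳.p)
    (h : ∀ {T T' : Over S} (π : T' ⟶ T) [Flat π.left] [Surjective π.left]
      [LocallyOfFinitePresentation π.left] (a b : IsoNat.IsoCl 𝒳 T),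
      pullCls hg π a = pullCls hg π b → a = b) : SepCls 𝒳 := by
  intro T T' π _ _ _ x₁ x₂ x₁' x₂' a₁ a₂ h₁ h₂ e
  refine cls_eq_iff.1 (h π _ _ ?_)
  rw [pullCls_cls hg ⟨a₁, h₁⟩, pullCls_cls hg ⟨a₂, h₂⟩]
  exact cls_eq_iff.2 e

theorem sepCls_of_isFibSetoid (hX : Stk.IsPrestack (AlgSp.J S) 𝒳)
    (hs : FibCat.IsFibSetoid 𝒳.p) : SepCls 𝒳 := by
  intro T T' π _ _ _ x₁ x₂ x₁' x₂' a₁ a₂ h₁ h₂ ⟨e⟩
  have hcov : Sieve.ofArrows (fun _ : Unit => T') (fun _ => π) ∈ AlgSp.J S T :=
    Groth.AlgSpBasic.mem_of_fppf π ⟨T', 𝟙 _, π, ⟨()⟩, Category.id_comp _⟩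
  let A₁ : Lift π x₁' x₁ := ⟨a₁, h₁⟩
  let A₂ : Lift π x₁' x₂ := Lift.comp (e.hom : Lift (𝟙 T') x₁' x₂') (⟨a₂, h₂⟩ : Lift π x₂' x₂)
    (Category.id_comp _)
  obtain ⟨φ, -⟩ := exists_glue_hom hX hcov (w := fun _ => x₁') (x := x₁) (x' := x₂)
    (fun _ => A₁) (fun _ => A₂) (fun z k k' l l' m m' em => by
      have hb := Lift.base_unique (m.comp A₁ rfl) (m'.comp A₁ rfl) em
      exact congrArg Subtype.val (Lift.subsingleton hs (m.comp A₂ rfl) (m'.comp A₂ hb.symm)))
  exact ⟨fiberIso hX.1 φ⟩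

section

variable (hX : Stk.IsPrestack (AlgSp.J S) 𝒳)

include hX in
theorem SepCls.cls_eq_of_local (hsep : SepCls 𝒳) (D : Datum S)
    {a a' : IsoNat.IsoCl 𝒳 D.Dbl}
    (h : ∀ b, pullCls hX.1 (D.inj b) a = pullCls hX.1 (D.inj b) a') : a = a' := by
  obtain ⟨x, rfl⟩ := exists_cls a
  obtain ⟨x', rfl⟩ := exists_cls a'
  let T' : Over S := Over.mk (coprod.desc D.U.hom D.U.hom : D.U.left ⨿ D.U.left ⟶ S)
  let ι : Bool → (D.U ⟶ T') := fun b => match b with
    | false => Over.homMk (coprod.inl : D.U.left ⟶ D.U.left ⨿ D.U.left) (coprod.inl_desc _ _)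
    | true => Over.homMk (coprod.inr : D.U.left ⟶ D.U.left ⨿ D.U.left) (coprod.inr_desc _ _)
  let π : T' ⟶ D.Dbl := Over.homMk (coprod.desc (D.inj false).left (D.inj true).left) (by
    apply coprod.hom_ext
    · simp only [T', Over.mk_hom, coprod.inl_desc_assoc, coprod.inl_desc]
      exact Over.w (D.inj false)
    · simp only [T', Over.mk_hom, coprod.inr_desc_assoc, coprod.inr_desc]
      exact Over.w (D.inj true))
  have hιπ : ∀ b, ι b ≫ π = D.inj b := fun b => by
    ext : 1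
    cases b
    · exact coprod.inl_desc _ _
    · exact coprod.inr_desc _ _
  have hι : ∀ b, IsOpenImmersion (ι b).left := fun b => by
    cases b
    · exact inferInstanceAs (IsOpenImmersion (coprod.inl : D.U.left ⟶ D.U.left ⨿ D.U.left))
    · exact inferInstanceAs (IsOpenImmersion (coprod.inr : D.U.left ⟶ D.U.left ⨿ D.U.left))
  have hdis : Disjoint (Set.range (ι false).left) (Set.range (ι true).left) :=
    (isCompl_range_inl_inr D.U.left D.U.left).disjoint
  have hsurjι : ∀ y, ∃ b, y ∈ Set.range (ι b).left := fun y => by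
    have hy : y ∈ Set.range (coprod.inl : D.U.left ⟶ D.U.left ⨿ D.U.left) ⊔
        Set.range (coprod.inr : D.U.left ⟶ D.U.left ⨿ D.U.left) := by
      rw [(isCompl_range_inl_inr D.U.left D.U.left).sup_eq_top]
      trivial
    rcases hy with hy | hy
    · exact ⟨false, hy⟩
    · exact ⟨true, hy⟩
  have hfl : Flat π.left := by
    refine (IsZariskiLocalAtSource.iff_of_openCover (P := @Flat)
      (coprodOpenCover.{u, u} D.U.left D.U.left)).2 fun i => ?_
    rcases i with i | i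
    · show Flat ((coprod.inl : D.U.left ⟶ D.U.left ⨿ D.U.left) ≫ coprod.desc _ _)
      rw [coprod.inl_desc]; infer_instance
    · show Flat ((coprod.inr : D.U.left ⟶ D.U.left ⨿ D.U.left) ≫ coprod.desc _ _)
      rw [coprod.inr_desc]; infer_instance
  have hlfp : LocallyOfFinitePresentation π.left := by
    refine (IsZariskiLocalAtSource.iff_of_openCover (P := @LocallyOfFinitePresentation)
      (coprodOpenCover.{u, u} D.U.left D.U.left)).2 fun i => ?_
    rcases i with i | i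
    · show LocallyOfFinitePresentation ((coprod.inl : D.U.left ⟶ D.U.left ⨿ D.U.left) ≫ coprod.desc _ _)
      rw [coprod.inl_desc]; infer_instance
    · show LocallyOfFinitePresentation ((coprod.inr : D.U.left ⟶ D.U.left ⨿ D.U.left) ≫ coprod.desc _ _)
      rw [coprod.inr_desc]; infer_instance
  have hsurj : Surjective π.left := ⟨fun y => by
    obtain ⟨b, u, hu⟩ := D.exists_inj_eq y
    refine ⟨(ι b).left u, ?_⟩
    rw [← Scheme.Hom.comp_apply, ← Over.comp_left, hιπ]
    exact hu⟩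
  refine hsep.cls_eq hX.1 π ?_
  rw [pullCls_cls', pullCls_cls']
  have hb : ∀ b, Nonempty (pullObj hX.1 (D.inj b) x ≅ pullObj hX.1 (D.inj b) x') :=
    fun b => cls_eq_iff.1 (h b)
  let β := fun b => fac hX.1 (pullLift hX.1 π x) (pullLift hX.1 (D.inj b) x) (ι b) (hιπ b)
  let γ := fun b => Lift.comp ((hb b).some.hom : Lift (𝟙 _) _ _)
    (fac hX.1 (pullLift hX.1 π x') (pullLift hX.1 (D.inj b) x') (ι b) (hιπ b)) (Category.id_comp _)
  obtain ⟨φ, -⟩ := exists_glue_hom hX (ofArrows_mem ι hι hsurjι) β γ (by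
    intro Z z b b' l l' m m' e
    have hl := Lift.base_unique (m.comp (β b) rfl) (m'.comp (β b') rfl) e
    by_cases hbb : b = b'
    · subst hbb
      have := hι b
      have : l = l' := by
        ext : 1
        exact (cancel_mono (ι b).left).1 (congrArg CommaMorphism.left hl)
      subst this
      rw [Lift.hom_ext hX.1 (β b) e]
    · have : IsEmpty Z.left := ⟨fun y => by
        have he := congrArg (fun t : Z ⟶ T' => t.left y) hl
        cases b <;> cases b' <;> first | exact hbb rfl | skip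
        · exact Set.disjoint_left.1 hdis ⟨l.left y, rfl⟩ ⟨l'.left y, he.symm⟩
        · exact Set.disjoint_left.1 hdis ⟨l'.left y, he.symm⟩ ⟨l.left y, rfl⟩⟩
      exact congrArg Subtype.val (lift_subsingleton_of_isEmpty hX (m.comp (γ b) rfl)
        (m'.comp (γ b') hl.symm)))
  exact cls_eq_iff.2 ⟨fiberIso hX.1 φ⟩

end

/-- The action of an automorphism of `η` on a pullback. -/
def autPullFun (hg : FibCat.IsFibGrpd 𝒳.p) {T W : Over S} (h : W ⟶ T) (η : 𝒳.p.Fiber T)
    (g : Aut η) : Aut (pullObj hg h η) :=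
  fiberIso hg (fac hg (pullLift hg h η)
    ((pullLift hg h η).comp (g.hom : Lift (𝟙 T) η η) (Category.comp_id _)) (𝟙 W)
    (Category.id_comp _))

theorem autPullFun_spec (hg : FibCat.IsFibGrpd 𝒳.p) {T W : Over S} (h : W ⟶ T) (η : 𝒳.p.Fiber T)
    (g : Aut η) :
    (autPullFun hg h η g).hom.1 ≫ (pullLift hg h η).1 = (pullLift hg h η).1 ≫ g.hom.1 :=
  fac_comp hg (pullLift hg h η)
    ((pullLift hg h η).comp (g.hom : Lift (𝟙 T) η η) (Category.comp_id _)) (𝟙 W)
    (Category.id_comp _)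

/-- The automorphisms of `η` act on every pullback of it. -/
def autPull (hg : FibCat.IsFibGrpd 𝒳.p) {T W : Over S} (h : W ⟶ T) (η : 𝒳.p.Fiber T) :
    Aut η →* Aut (pullObj hg h η) :=
  MonoidHom.mk' (autPullFun hg h η) fun g g' => by
    refine Iso.ext (fiber_hom_ext hg (pullLift hg h η) ?_)
    show (autPullFun hg h η (g * g')).hom.1 ≫ _ =
      ((autPullFun hg h η g').hom.1 ≫ (autPullFun hg h η g).hom.1) ≫ _
    rw [autPullFun_spec, Category.assoc, autPullFun_spec, reassoc_of% (autPullFun_spec hg h η g')]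
    rfl

theorem autPull_bijective (hg : FibCat.IsFibGrpd 𝒳.p) {T W : Over S} (h : W ⟶ T) [IsIso h]
    (η : 𝒳.p.Fiber T) : Function.Bijective (autPull hg h η) := by
  have hi : IsIso (pullLift hg h η).1 := Groth.StkBase.isIso_of_isIso_map hg _ (by
    rw [(pullLift hg h η).map_eq]; infer_instance)
  refine ⟨fun g g' e => Iso.ext (Subtype.ext ((cancel_epi (pullLift hg h η).1).1 ?_)), fun g => ?_⟩
  · rw [← autPullFun_spec hg h η g, ← autPullFun_spec hg h η g']
    exact congrArg (fun t : Aut (pullObj hg h η) => t.hom.1 ≫ (pullLift hg h η).1) e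
  · let Li : Lift (inv h) η (pullObj hg h η) :=
      fac hg (pullLift hg h η) (Lift.id η) (inv h) (IsIso.inv_hom_id h)
    have hLi : Li.1 ≫ (pullLift hg h η).1 = 𝟙 η.1 :=
      fac_comp hg (pullLift hg h η) (Lift.id η) (inv h) (IsIso.inv_hom_id h)
    let g₀ : η ⟶ η :=
      (Li.comp (Lift.comp (g.hom : Lift (𝟙 W) _ _) (pullLift hg h η) (Category.id_comp _))
        (IsIso.inv_hom_id h) : Lift (𝟙 T) η η)
    refine ⟨fiberIso hg g₀, Iso.ext (fiber_hom_ext hg (pullLift hg h η) ?_)⟩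
    refine (autPullFun_spec hg h η _).trans ?_
    show (pullLift hg h η).1 ≫ Li.1 ≫ g.hom.1 ≫ (pullLift hg h η).1 = _
    rw [← IsIso.eq_comp_inv] at hLi
    rw [hLi, Category.id_comp, IsIso.hom_inv_id_assoc]

variable (hX : Stk.IsPrestack (AlgSp.J S) 𝒳) {T : Over S} (η : 𝒳.p.Fiber T)

/-- The automorphisms of `η` as constants. -/
def toG : Aut η →* G hX η Zu.{u} := autPull hX.1 (prH T (.of Zu.{u})) η

theorem toG_bijective : Function.Bijective (toG hX η) := by
  have := isIso_prH T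
  exact autPull_bijective hX.1 (prH T (.of Zu.{u})) η

theorem rr_punct {κ : Type} [DecidableEq κ] (i : κ) (y : G hX η (Axes.{u} κ)) :
    rr hX η (Axes.punct i) y = rr hX η Polynomial.toLaurentAlg (rr hX η (Axes.proj i) y) :=
  (rr_rr hX η _ _ y).symm

theorem rr_zero₁_proj {κ : Type} [DecidableEq κ] (i : κ) (y : G hX η (Axes.{u} κ)) :
    rr hX η Axes.zero₁ (rr hX η (Axes.proj i) y) = rr hX η (Axes.zero κ) y := by
  rw [rr_rr, Axes.zero₁_comp_proj]

include hX in
/-- With separated classes, and separated diagonal, automorphisms are trivial. -/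
theorem aut_eq_one_of_sepCls (hS : Stk.IsStack (AlgSp.J S) 𝒳)
    (hd : AlgSt.RepByAlgSpWith (AlgSp.IsSeparatedMor ⊓ AlgSp.IsQuasiCompactMor)
      (FibCat.diag (FibCat.toSelf 𝒳)))
    (hsep : SepCls 𝒳) (s : Aut η) : s = 1 := by
  apply (toG_bijective hX η).injective
  rw [map_one]
  generalize toG hX η s = s₀
  let c : Fin 2 → G hX η Lr.{u} := fun i => if i = 0 then 1 else cst hX η s₀
  obtain ⟨x, hx⟩ := exists_Tw hX η hS c
  have h1 : Tw hX η (Fin 2) _ (fun _ => 1) := Tw_one hX η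
  obtain ⟨g, hgg⟩ := (hx.cls_eq_iff hX η h1).1 (hsep.cls_eq_of_local hX _ fun b =>
    (Tw.locTriv hX η hx b).trans (Tw.locTriv hX η h1 b).symm)
  have h0 : rr hX η (Axes.proj 0) (g false) = rr hX η (Axes.proj 0) (g true) := by
    apply rr_toLaurent_injective hX η hd
    rw [← rr_punct, ← rr_punct]
    simpa [c] using hgg 0
  have h1' : rr hX η (Axes.proj 1) (g false) = rr hX η (Axes.proj 1) (g true) * cst hX η s₀ := by
    apply rr_toLaurent_injective hX η hd
    rw [map_mul, ← rr_punct, ← rr_punct, rr_cst]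
    simpa [c] using hgg 1
  have e0 := congrArg (rr hX η Axes.zero₁) h0
  have e1 := congrArg (rr hX η Axes.zero₁) h1'
  rw [map_mul, rr_cst, cst_self, rr_zero₁_proj, rr_zero₁_proj] at e1
  rw [rr_zero₁_proj, rr_zero₁_proj] at e0
  exact mul_left_cancel (e1.symm.trans (e0.trans (mul_one _).symm))

end Groth.Misc10.IsoNat
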