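import Groth.Agent.Misc10.IsoNat.Separation
import Groth.Agent.StkBase.Setoid
import Groth.Agent.StkBase.StackMisc

/-!
# Isomorphisms of presheaves of classes between categories fibred in setoids
-/

set_option autoImplicit false
set_option backward.isDefEq.respectTransparency false
set_option backward.isDefEq.respectTransparency.types false

universe u

open CategoryTheory AlgebraicGeometry Opposite
open Groth.StkBase

noncomputable section

namespace Groth.Misc10.IsoNat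

variable {S : Scheme.{u}} {𝒳 𝒴 : AlgSt.Cat S}

theorem vertRel_iff (hX : FibCat.IsFibGrpd 𝒳.p) {T : Over S}
    (a b : {x : 𝒳.obj // 𝒳.p.obj x = T}) :
    VertRel 𝒳 T a b ↔
      IsoNat.cls (a : 𝒳.p.Fiber T) = IsoNat.cls (b : 𝒳.p.Fiber T) := by
  rw [Groth.Misc10.IsoNat.cls_eq_iff]
  constructor
  · rintro ⟨φ, hφ⟩
    exact ⟨fiberIso hX (x := (a : 𝒳.p.Fiber T)) (y := (b : 𝒳.p.Fiber T)) ⟨φ, hφ.isHomLift a.2⟩⟩
  · rintro ⟨e⟩
    exact ⟨e.hom.1, isVert_of_isHomLift e.hom.2⟩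

/-- The value of the presheaf of classes is the set of isomorphism classes. -/
def clsEquiv (hX : FibCat.IsFibGrpd 𝒳.p) (T : Over S) :
    Quot (VertRel 𝒳 T) ≃ IsoNat.IsoCl 𝒳 T where
  toFun := Quot.lift (fun a => IsoNat.cls (a : 𝒳.p.Fiber T)) fun a b h => (vertRel_iff hX a b).1 h
  invFun := Quotient.lift (fun x : 𝒳.p.Fiber T => Quot.mk (VertRel 𝒳 T) x) fun a b h =>
    Quot.sound ((vertRel_iff hX a b).2 (Quotient.sound h))
  left_inv q := Quot.inductionOn q fun _ => rfl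
  right_inv q := Quotient.inductionOn q fun _ => rfl

/-- An isomorphism of presheaves of classes as an isomorphism of presheaves. -/
def clsPshIso (φ : IsoNat.FIso 𝒳 𝒴) (hX : FibCat.IsFibGrpd 𝒳.p) (hY : FibCat.IsFibGrpd 𝒴.p) :
    clsPsh hX ≅ clsPsh hY :=
  NatIso.ofComponents (fun T =>
    (((clsEquiv hX T.unop).trans (φ.toEquiv T.unop)).trans (clsEquiv hY T.unop).symm).toIso)
    fun {T T'} f => by
      ext q
      induction q using Quot.ind with
      | _ a =>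
        apply (clsEquiv hY T'.unop).injective
        have key := toEquiv_pullCls φ hX hY f.unop (IsoNat.cls (a : 𝒳.p.Fiber T.unop))
        have hmap : ∀ (q : Quot (VertRel 𝒴 T.unop)), clsEquiv hY T'.unop ((clsPsh hY).map f q) =
            pullCls hY f.unop (clsEquiv hY T.unop q) := fun q => Quot.inductionOn q fun _ => rfl
        exact ((clsEquiv hY T'.unop).apply_symm_apply _).trans (key.trans
          ((hmap _).trans (congrArg (pullCls hY f.unop)
            ((clsEquiv hY T.unop).apply_symm_apply _))).symm)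

theorem exists_equiv_of_fIso (φ : IsoNat.FIso 𝒳 𝒴) (hX : FibCat.IsFibSetoid 𝒳.p)
    (hY : FibCat.IsFibSetoid 𝒴.p) : ∃ e : 𝒳 ⥤ᵇ 𝒴, FibCat.IsEquivOver e := by
  obtain ⟨G, hG⟩ := isEquivOver_symm (isEquivOver_toClsPsh hY)
  exact ⟨_, isEquivOver_comp (isEquivOver_toClsPsh hX)
    (isEquivOver_comp (isEquivOver_ofPshMap (clsPshIso φ hX.1 hY.1).hom) hG.1)⟩

theorem sepCls_of_fIso (φ : IsoNat.FIso 𝒳 𝒴) (hX : FibCat.IsFibGrpd 𝒳.p)
    (hY : FibCat.IsFibGrpd 𝒴.p) (h : SepCls 𝒳) : SepCls 𝒴 := by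
  refine sepCls_of_cls_eq hY fun {T T'} π _ _ _ a b e => ?_
  obtain ⟨a, rfl⟩ := (φ.toEquiv T).surjective a
  obtain ⟨b, rfl⟩ := (φ.toEquiv T).surjective b
  rw [← toEquiv_pullCls φ hX hY, ← toEquiv_pullCls φ hX hY] at e
  exact congrArg _ (h.cls_eq hX π ((φ.toEquiv T').injective e))

theorem isClean_of_sepCls (hX : Stk.IsStack (AlgSp.J S) 𝒳)
    (hd : AlgSt.RepByAlgSpWith (AlgSp.IsSeparatedMor ⊓ AlgSp.IsQuasiCompactMor)
      (FibCat.diag (FibCat.toSelf 𝒳)))
    (hsep : SepCls 𝒳) (η : 𝒳.obj) : IsoNat.IsClean η := by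
  intro x _ s hs
  have hP := isPrestack_of_isStack hX
  have hv : IsVert 𝒳.p s := ⟨rfl, by rw [hs]; simp⟩
  let xf : 𝒳.p.Fiber (𝒳.p.obj x) := ⟨x, rfl⟩
  let sf : xf ⟶ xf := ⟨s, hv.isHomLift rfl⟩
  exact congrArg (fun t : Aut xf => t.hom.1)
    (aut_eq_one_of_sepCls hP xf hX hd hsep (fiberIso hP.1 sf))

end Groth.Misc10.IsoNat
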