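import Groth.Agent.Misc10.IsoNat.LfpDetect
import Groth.Agent.S10629
import Groth.Agent.AlgSpBasic.LocPInst

/-!
# Smoothness of representable functors is detected by the presheaves of isomorphism classes
-/

set_option autoImplicit false
set_option backward.isDefEq.respectTransparency false
set_option backward.isDefEq.respectTransparency.types false

universe u

open CategoryTheory CategoryTheory.Limits AlgebraicGeometry Opposite
open Groth.StkBase Groth.AlgStBasic Groth.AlgSpBasic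

noncomputable section

namespace Groth.Misc10.IsoNat

variable {S : Scheme.{u}} {𝒳 𝒴 𝒳' 𝒴' : AlgSt.Cat S}

/-- Chart classes lift along a smooth functor. -/
theorem liftsCls_of_smooth (hX : FibCat.IsFibGrpd 𝒳.p) (hY : FibCat.IsFibGrpd 𝒴.p) {f : 𝒳 ⥤ᵇ 𝒴}
    (hf : AlgSt.RepByAlgSpWith (AlgSp.LocP @Smooth) f) {V : Over S}
    (v : FibCat.overCat V ⥤ᵇ 𝒴) : LiftsCls hX hY v f := by
  obtain ⟨F, e, he⟩ := repWith_repByAlgSp1 hf V v
  refine liftsCls_of_formallySmooth hX hY e he ?_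
  let Y : AlgSp.Space S := ⟨(AlgSp.yon S).obj V, AlgSp.IsAlgSpace.yon_obj V⟩
  exact ((Groth.Agent.S10629.result (X := F) (Y := Y) (ObjectProperty.homMk
    (AlgSt.spMapOfOver (BasedFunctor.comp e (FibCat.fpFst v f))))).1
      (prop_of_repWith_fp stableBaseChange_locP hf v F e he)).2

/-- A chart corresponding to a given one under an isomorphism of presheaves of classes. -/
theorem exists_chart_corr (hY : FibCat.IsFibGrpd 𝒴.p) (ψ : IsoNat.FIso 𝒴 𝒴') {V : Over S}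
    (v : FibCat.overCat V ⥤ᵇ 𝒴') :
    ∃ w : FibCat.overCat V ⥤ᵇ 𝒴, ψ.toEquiv V (IsoNat.objCls w) = IsoNat.objCls v := by
  obtain ⟨w, hw⟩ := exists_objCls hY ((ψ.toEquiv V).symm (IsoNat.objCls v))
  exact ⟨w, by rw [hw, Equiv.apply_symm_apply]⟩

/-- Local finite presentation of a representable functor is detected by the presheaves of classes. -/
theorem repWith_lfp_of_fIsoSq {f : 𝒳 ⥤ᵇ 𝒴} {f' : 𝒳' ⥤ᵇ 𝒴'} (φ : IsoNat.FIsoSq f f')
    (hX : FibCat.IsFibGrpd 𝒳.p) (hY : FibCat.IsFibGrpd 𝒴.p) (hX' : FibCat.IsFibGrpd 𝒳'.p)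
    (hY' : AlgSt.IsAlgStack Scheme.fppfPrecoverage 𝒴')
    (hI : AlgSt.RepByAlgSpWith (AlgSp.LocP @LocallyOfFinitePresentation)
      (FibCat.inertiaToBase (FibCat.toSelf 𝒴')))
    (hf' : AlgSt.RepByAlgSp1 f')
    (hf : AlgSt.RepByAlgSpWith (AlgSp.LocP @LocallyOfFinitePresentation) f) :
    AlgSt.RepByAlgSpWith (AlgSp.LocP @LocallyOfFinitePresentation) f' := by
  refine repWith_of_affine_charts hY' stableBaseChange_locP (isLocalOnBase_fppf_locP _) hf'
    fun A _ v _ F' e' he' => ?_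
  obtain ⟨w, hw⟩ := exists_chart_corr hY φ.tgt v
  obtain ⟨F, e, he⟩ := repWith_repByAlgSp1 hf A w
  exact locP_lfp_of_fIsoSq φ hX hY hX' hY'.isStack.1 hI hw F e he
    (prop_of_repWith_fp stableBaseChange_locP hf w F e he) F' e' he'

/-- Smoothness of a representable functor is detected by the presheaves of classes. -/
theorem repWith_smooth_of_fIsoSq {f : 𝒳 ⥤ᵇ 𝒴} {f' : 𝒳' ⥤ᵇ 𝒴'} (φ : IsoNat.FIsoSq f f')
    (hX : FibCat.IsFibGrpd 𝒳.p) (hY : FibCat.IsFibGrpd 𝒴.p) (hX' : FibCat.IsFibGrpd 𝒳'.p)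
    (hY' : AlgSt.IsAlgStack Scheme.fppfPrecoverage 𝒴')
    (hI : AlgSt.RepByAlgSpWith (AlgSp.LocP @LocallyOfFinitePresentation)
      (FibCat.inertiaToBase (FibCat.toSelf 𝒴')))
    (hf' : AlgSt.RepByAlgSp1 f') (hf : AlgSt.RepByAlgSpWith (AlgSp.LocP @Smooth) f) :
    AlgSt.RepByAlgSpWith (AlgSp.LocP @Smooth) f' := by
  have hlfp := repWith_lfp_of_fIsoSq φ hX hY hX' hY' hI hf'
    (repWith_locP_of_smooth (P := @LocallyOfFinitePresentation) (fun _ _ f (_ : Smooth f) => inferInstance) hf)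
  refine repWith_of_affine_charts hY' stableBaseChange_locP (isLocalOnBase_fppf_locP _) hf'
    fun A _ v hv F' e' he' => ?_
  obtain ⟨w, hw⟩ := exists_chart_corr hY φ.tgt v
  let Y : AlgSp.Space S := ⟨(AlgSp.yon S).obj A, AlgSp.IsAlgSpace.yon_obj A⟩
  exact (Groth.Agent.S10629.result (X := F') (Y := Y) (ObjectProperty.homMk
    (AlgSt.spMapOfOver (BasedFunctor.comp e' (FibCat.fpFst v f'))))).2
      ⟨prop_of_repWith_fp stableBaseChange_locP hlfp v F' e' he',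
        formallySmooth_of_liftsCls hX' hY'.isStack.1 e' he'
          (liftsCls_of_fIsoSq φ hX hY hX' hY'.isStack.1 hw
            (liftsCls_of_smooth (isFibGrpd_overCat A) hY'.isStack.1 hv v)
            (liftsCls_of_smooth hX hY hf w))⟩

end Groth.Misc10.IsoNat

namespace Groth.Misc10.IsoNat

variable {S : Scheme.{u}} {𝒳 𝒴 : AlgSt.Cat S}

/-- The identity isomorphism of a presheaf of classes. -/
def fIsoRefl (𝒵 : AlgSt.Cat S) : IsoNat.FIso 𝒵 𝒵 where
  toEquiv _ := Equiv.refl _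
  natural _ x' x a ha := ⟨x', x, a, ha, rfl, rfl⟩

/-- The square of two corresponding charts. -/
def chartSq (ψ : IsoNat.FIso 𝒳 𝒴) (hX : FibCat.IsFibGrpd 𝒳.p) (hY : FibCat.IsFibGrpd 𝒴.p) {U : Over S}
    {x : FibCat.overCat U ⥤ᵇ 𝒳} {y : FibCat.overCat U ⥤ᵇ 𝒴}
    (h : ψ.toEquiv U (IsoNat.objCls x) = IsoNat.objCls y) : IsoNat.FIsoSq x y where
  src := fIsoRefl _
  tgt := ψ
  comm T c := by
    obtain ⟨⟨⟨L, o, q⟩, hL⟩, rfl⟩ := exists_cls c
    change L = T at hL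
    subst hL
    exact cls_chartObj_eq ψ hX hY h q

/-- Functors from schemes to an algebraic stack are representable. -/
theorem repByAlgSp1_chart (hY : AlgSt.IsAlgStack Scheme.fppfPrecoverage 𝒴) {U : Over S}
    (y : FibCat.overCat U ⥤ᵇ 𝒴) : AlgSt.RepByAlgSp1 y :=
  (repByAlgSp1_diag_iff hY.isStack.1).1 hY.diag U y

/-- Smoothness of a chart is detected by the presheaves of classes. -/
theorem repWith_smooth_chart (ψ : IsoNat.FIso 𝒳 𝒴) (hX : FibCat.IsFibGrpd 𝒳.p)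
    (hY : AlgSt.IsAlgStack Scheme.fppfPrecoverage 𝒴)
    (hI : AlgSt.RepByAlgSpWith (AlgSp.LocP @LocallyOfFinitePresentation)
      (FibCat.inertiaToBase (FibCat.toSelf 𝒴))) {U : Over S}
    {x : FibCat.overCat U ⥤ᵇ 𝒳} {y : FibCat.overCat U ⥤ᵇ 𝒴}
    (h : ψ.toEquiv U (IsoNat.objCls x) = IsoNat.objCls y)
    (hx : AlgSt.RepByAlgSpWith (AlgSp.LocP @Smooth) x) :
    AlgSt.RepByAlgSpWith (AlgSp.LocP @Smooth) y :=
  repWith_smooth_of_fIsoSq (chartSq ψ hX hY.isStack.1 h) (isFibGrpd_overCat U) hX (isFibGrpd_overCat U)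
    hY hI (repByAlgSp1_chart hY y) hx

end Groth.Misc10.IsoNat
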