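import Groth.Agent.Misc10.IsoNat.Kernel

/-!
# The loop classes of automorphisms, naturally, and the induced isomorphisms of automorphism groups
-/

set_option autoImplicit false
set_option backward.isDefEq.respectTransparency false
set_option backward.isDefEq.respectTransparency.types false

universe u

open CategoryTheory CategoryTheory.Limits AlgebraicGeometry

noncomputable section

namespace Groth.Misc10.IsoNat

variable {S : Scheme.{u}} {𝒳 𝒴 : AlgSt.Cat S}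

section

variable (hX : Stk.IsPrestack (AlgSp.J S) 𝒳) (hS : Stk.IsStack (AlgSp.J S) 𝒳)

/-- The class of the loop given by an automorphism. -/
def Θ {T : Over S} (ξ : 𝒳.p.Fiber T) (s : Aut ξ) : IsoNat.IsoCl 𝒳 (AxDbl T (Fin 2)) :=
  IsoNat.cls (θ hX ξ hS (toG hX ξ s))

theorem toW_cst_toG {T : Over S} (ξ : 𝒳.p.Fiber T) {κ : Type} [DecidableEq κ] (i : κ) (s : Aut ξ) :
    toW hX ξ i (cst hX ξ (toG hX ξ s)) =
      autPull hX.1 ((axD T κ).j i ≫ prH T (.of (Axes.{u} κ))) ξ s := by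
  simp only [toW, cst, rr, resHom_apply, toG]
  rw [res_autPull hX, res_autPull hX]

theorem Θ_isTw {T : Over S} (ξ : 𝒳.p.Fiber T) (s : Aut ξ) :
    ∃ x, IsoNat.cls x = Θ hX hS ξ s ∧ IsTw hX ξ (axD T (Fin 2)) (prH T (.of (Axes.{u} (Fin 2)))) x
      (fun i => autPull hX.1 ((axD T (Fin 2)).j i ≫ prH T (.of (Axes.{u} (Fin 2)))) ξ
        (![(1 : Aut ξ), s] i)) := by
  refine ⟨θ hX ξ hS (toG hX ξ s), rfl, ?_⟩
  have h := θ_tw hX ξ hS (toG hX ξ s)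
  unfold Tw at h
  convert h using 2 with i
  change Fin 2 at i
  obtain rfl | rfl : i = (0 : Fin 2) ∨ i = (1 : Fin 2) := by revert i; decide
  · show autPull hX.1 _ ξ 1 = toW hX ξ _ 1
    rw [map_one, map_one]
  · exact (toW_cst_toG hX ξ (1 : Fin 2) s).symm

/-- Changing the centre of a twisted form along a lift. -/
theorem IsTw.changeCenter {T' T : Over S} {k : T' ⟶ T} {ξ' : 𝒳.p.Fiber T'} {ξ : 𝒳.p.Fiber T}
    (a : Lift k ξ' ξ) (D : Datum S) (h : D.U ⟶ T') {x : 𝒳.p.Fiber D.Dbl}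
    {s : D.κ → Aut ξ} {s' : D.κ → Aut ξ'} (hs : ∀ i, (s' i).hom.1 ≫ a.1 = a.1 ≫ (s i).hom.1)
    (hx : IsTw hX ξ D (h ≫ k) x (fun i => autPull hX.1 (D.j i ≫ h ≫ k) ξ (s i))) :
    IsTw hX ξ' D h x (fun i => autPull hX.1 (D.j i ≫ h) ξ' (s' i)) := by
  obtain ⟨β, hβ⟩ := hx
  let φ : Lift (𝟙 D.U) (pullObj hX.1 h ξ') (pullObj hX.1 (h ≫ k) ξ) :=
    fac hX.1 (pullLift hX.1 (h ≫ k) ξ) ((pullLift hX.1 h ξ').comp a rfl) (𝟙 _) (Category.id_comp _)
  refine ⟨fun b => φ.comp (β b) (Category.id_comp _), fun i => ?_⟩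
  let φi : Lift (𝟙 (D.W i)) (pullObj hX.1 (D.j i ≫ h) ξ') (pullObj hX.1 (D.j i ≫ h ≫ k) ξ) :=
    fac hX.1 (pullLift hX.1 (D.j i ≫ h ≫ k) ξ) ((pullLift hX.1 (D.j i ≫ h) ξ').comp a rfl) (𝟙 _)
      (by simp)
  have hφ : φ.1 ≫ (pullLift hX.1 (h ≫ k) ξ).1 = (pullLift hX.1 h ξ').1 ≫ a.1 := fac_comp ..
  have hφi : φi.1 ≫ (pullLift hX.1 (D.j i ≫ h ≫ k) ξ).1 = (pullLift hX.1 (D.j i ≫ h) ξ').1 ≫ a.1 :=
    fac_comp ..
  have e1 : (obMap hX.1 ξ' (h := h) (D.j i) rfl).1 ≫ φ.1 =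
      φi.1 ≫ (obMap hX.1 ξ (h := h ≫ k) (D.j i) rfl).1 := by
    refine congrArg Subtype.val (Lift.hom_ext hX.1 (pullLift hX.1 (h ≫ k) ξ)
      (χ := (obMap hX.1 ξ' (h := h) (D.j i) rfl).comp φ (Category.comp_id _))
      (χ' := φi.comp (obMap hX.1 ξ (h := h ≫ k) (D.j i) rfl) (Category.id_comp _)) ?_)
    simp only [Lift.comp_val, Category.assoc]
    rw [hφ, obMap_pullLift, hφi, reassoc_of% (obMap_pullLift hX.1 ξ' (h := h) (D.j i) rfl)]
  have e2 : (autPull hX.1 (D.j i ≫ h) ξ' (s' i)).hom.1 ≫ φi.1 =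
      φi.1 ≫ (autPull hX.1 (D.j i ≫ h ≫ k) ξ (s i)).hom.1 := by
    refine congrArg Subtype.val (Lift.hom_ext hX.1 (pullLift hX.1 (D.j i ≫ h ≫ k) ξ)
      (χ := Lift.comp ((autPull hX.1 (D.j i ≫ h) ξ' (s' i)).hom : Lift (𝟙 _) _ _) φi
        (Category.id_comp _))
      (χ' := φi.comp ((autPull hX.1 (D.j i ≫ h ≫ k) ξ (s i)).hom : Lift (𝟙 _) _ _)
        (Category.id_comp _)) ?_)
    simp only [Lift.comp_val, Category.assoc]
    rw [show (autPull hX.1 (D.j i ≫ h ≫ k) ξ (s i)).hom.1 ≫ (pullLift hX.1 (D.j i ≫ h ≫ k) ξ).1 =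
        (pullLift hX.1 (D.j i ≫ h ≫ k) ξ).1 ≫ (s i).hom.1 from autPullFun_spec hX.1 _ ξ _,
      hφi, reassoc_of% hφi, ← hs i]
    exact (Category.assoc _ _ _).symm.trans ((congrArg (· ≫ a.1)
      (autPullFun_spec hX.1 (D.j i ≫ h) ξ' (s' i))).trans (Category.assoc _ _ _))
  show (autPull hX.1 (D.j i ≫ h) ξ' (s' i)).hom.1 ≫ _ ≫ φ.1 ≫ _ = _ ≫ φ.1 ≫ _
  rw [reassoc_of% e1, reassoc_of% e2, reassoc_of% e1]
  exact congrArg (φi.1 ≫ ·) (hβ i)

/-- The loop classes are compatible with pullback. -/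
theorem pullCls_Θ {T' T : Over S} {k : T' ⟶ T} {ξ' : 𝒳.p.Fiber T'} {ξ : 𝒳.p.Fiber T}
    (a : Lift k ξ' ξ) {s : Aut ξ} {s' : Aut ξ'} (hs : s'.hom.1 ≫ a.1 = a.1 ≫ s.hom.1) :
    pullCls hX.1 (axBase k (Fin 2)).dbl (Θ hX hS ξ s) = Θ hX hS ξ' s' := by
  obtain ⟨x, hx, htw⟩ := Θ_isTw hX hS ξ s
  obtain ⟨x', hx', htw'⟩ := Θ_isTw hX hS ξ' s'
  rw [← hx, ← hx', pullCls_cls']
  have h₁ := IsTw.pull hX ξ (axBase k (Fin 2)) (prH T (.of (Axes.{u} (Fin 2))))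
    (prH T' (.of (Axes.{u} (Fin 2))) ≫ k) (mapT_prH k _) htw
  have h₂ : IsTw hX ξ (axD T' (Fin 2)) (prH T' (.of (Axes.{u} (Fin 2))) ≫ k)
      (pullObj hX.1 (axBase k (Fin 2)).dbl x)
      (fun i => autPull hX.1 ((axD T' (Fin 2)).j i ≫ prH T' (.of (Axes.{u} (Fin 2))) ≫ k) ξ
        (![(1 : Aut ξ), s] i)) := by
    convert h₁ using 2 with i
    exact (res_autPull hX ξ _ _ _).symm
  refine IsTw.iso hX ξ' _ _ (IsTw.changeCenter hX a (axD T' (Fin 2)) _ (s' := ![(1 : Aut ξ'), s'])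
    (fun i => ?_) h₂) htw'
  change Fin 2 at i
  obtain rfl | rfl : i = (0 : Fin 2) ∨ i = (1 : Fin 2) := by revert i; decide
  · exact (Category.id_comp _).trans (Category.comp_id _).symm
  · exact hs

variable (hd : AlgSt.RepByAlgSpWith (AlgSp.IsSeparatedMor ⊓ AlgSp.IsQuasiCompactMor)
  (FibCat.diag (FibCat.toSelf 𝒳)))

include hd in
theorem Θ_injective {T : Over S} (ξ : 𝒳.p.Fiber T) (hab : IsoNat.IsAutAbelian ξ) :
    Function.Injective (Θ hX hS ξ) := fun _ _ e =>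
  (toG_bijective hX ξ).injective (θ_injective hX ξ hd hS hab e)

theorem isConst_Θ {T : Over S} (ξ : 𝒳.p.Fiber T) (s : Aut ξ) :
    IsConst hX.1 (IsoNat.cls ξ) (Θ hX hS ξ s) := isConst_θ hX ξ hS _

include hd in
theorem exists_Θ {T : Over S} (ξ : 𝒳.p.Fiber T) (hab : IsoNat.IsAutAbelian ξ)
    {a : IsoNat.IsoCl 𝒳 (AxDbl T (Fin 2))} (ha : IsConst hX.1 (IsoNat.cls ξ) a) :
    ∃ s, Θ hX hS ξ s = a := by
  obtain ⟨s, hs⟩ := θ_surjective hX ξ hd hS hab ha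
  obtain ⟨s₀, rfl⟩ := (toG_bijective hX ξ).surjective s
  exact ⟨s₀, hs⟩

include hd in
theorem mul_Θ_iff {T : Over S} (ξ : 𝒳.p.Fiber T) (hab : IsoNat.IsAutAbelian ξ) (s t v : Aut ξ) :
    Mul hX.1 (IsoNat.cls ξ) (Θ hX hS ξ s) (Θ hX hS ξ t) (Θ hX hS ξ v) ↔ v = s * t := by
  refine (mul_θ_iff hX ξ hd hS hab _ _ _).trans ?_
  rw [← map_mul]
  exact (toG_bijective hX ξ).injective.eq_iff

end

section Compare

variable (φ : IsoNat.FIso 𝒳 𝒴) (hSX : Stk.IsStack (AlgSp.J S) 𝒳) (hSY : Stk.IsStack (AlgSp.J S) 𝒴)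
  (hdX : AlgSt.RepByAlgSpWith (AlgSp.IsSeparatedMor ⊓ AlgSp.IsQuasiCompactMor)
    (FibCat.diag (FibCat.toSelf 𝒳)))
  (hdY : AlgSt.RepByAlgSpWith (AlgSp.IsSeparatedMor ⊓ AlgSp.IsQuasiCompactMor)
    (FibCat.diag (FibCat.toSelf 𝒴)))

/-- Automorphisms which correspond under the isomorphism of presheaves of classes. -/
def AutRel {T : Over S} (ξ : 𝒳.p.Fiber T) (η : 𝒴.p.Fiber T) (s : Aut ξ) (t : Aut η) : Prop :=
  φ.toEquiv _ (Θ (Groth.StkBase.isPrestack_of_isStack hSX) hSX ξ s) =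
    Θ (Groth.StkBase.isPrestack_of_isStack hSY) hSY η t

variable {φ}

include hdX hdY in
theorem autRel_existsUnique {T : Over S} {ξ : 𝒳.p.Fiber T} {η : 𝒴.p.Fiber T}
    (e : φ.toEquiv T (IsoNat.cls ξ) = IsoNat.cls η) (hab : IsoNat.IsAutAbelian ξ) (s : Aut ξ) :
    ∃! t, AutRel φ hSX hSY ξ η s t := by
  have hX := Groth.StkBase.isPrestack_of_isStack hSX
  have hY := Groth.StkBase.isPrestack_of_isStack hSY
  have hab' := (isAutAbelian_iff φ hSX hSY hdX hdY ξ η e).1 hab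
  obtain ⟨t, ht⟩ := exists_Θ hY hSY hdY η hab' (a := φ.toEquiv _ (Θ hX hSX ξ s)) (by
    rw [← e, isConst_iff φ hX.1 hY.1]
    exact isConst_Θ hX hSX ξ s)
  exact ⟨t, ht.symm, fun t' ht' => Θ_injective hY hSY hdY η hab' (ht'.symm.trans ht.symm)⟩

/-- The isomorphism of automorphism groups given by the isomorphism of presheaves of classes. -/
def autEquivOfCls {T : Over S} {ξ : 𝒳.p.Fiber T} {η : 𝒴.p.Fiber T}
    (e : φ.toEquiv T (IsoNat.cls ξ) = IsoNat.cls η) (hab : IsoNat.IsAutAbelian ξ) :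
    Aut ξ ≃* Aut η :=
  have hX := Groth.StkBase.isPrestack_of_isStack hSX
  have hY := Groth.StkBase.isPrestack_of_isStack hSY
  have hab' := (isAutAbelian_iff φ hSX hSY hdX hdY ξ η e).1 hab
  MulEquiv.mk'
    (Equiv.ofBijective (fun s => (autRel_existsUnique hSX hSY hdX hdY e hab s).choose)
      ⟨fun s s' h => Θ_injective hX hSX hdX ξ hab ((φ.toEquiv _).injective (by
        have h1 := (autRel_existsUnique hSX hSY hdX hdY e hab s).choose_spec.1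
        have h2 := (autRel_existsUnique hSX hSY hdX hdY e hab s').choose_spec.1
        rw [show φ.toEquiv _ (Θ hX hSX ξ s) = _ from h1,
          show φ.toEquiv _ (Θ hX hSX ξ s') = _ from h2]
        exact congrArg _ h)), fun t => by
        obtain ⟨s, hs⟩ := exists_Θ hX hSX hdX ξ hab (a := (φ.toEquiv _).symm (Θ hY hSY η t)) (by
          rw [← isConst_iff φ hX.1 hY.1, e, Equiv.apply_symm_apply]
          exact isConst_Θ hY hSY η t)
        exact ⟨s, ((autRel_existsUnique hSX hSY hdX hdY e hab s).unique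
          (autRel_existsUnique hSX hSY hdX hdY e hab s).choose_spec.1 (by
            show φ.toEquiv _ (Θ hX hSX ξ s) = _
            rw [hs, Equiv.apply_symm_apply]))⟩⟩)
    (fun s s' => by
      show (autRel_existsUnique hSX hSY hdX hdY e hab (s * s')).choose = _ * _
      rw [← mul_Θ_iff hY hSY hdY η hab']
      have h := fun r => (autRel_existsUnique hSX hSY hdX hdY e hab r).choose_spec.1
      simp only [Equiv.ofBijective_apply]
      rw [← show φ.toEquiv _ (Θ hX hSX ξ s) = _ from h s,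
        ← show φ.toEquiv _ (Θ hX hSX ξ s') = _ from h s',
        ← show φ.toEquiv _ (Θ hX hSX ξ (s * s')) = _ from h (s * s'), ← e, mul_iff φ hX.1 hY.1,
        mul_Θ_iff hX hSX hdX ξ hab])

theorem autRel_autEquivOfCls {T : Over S} {ξ : 𝒳.p.Fiber T} {η : 𝒴.p.Fiber T}
    (e : φ.toEquiv T (IsoNat.cls ξ) = IsoNat.cls η) (hab : IsoNat.IsAutAbelian ξ) (s : Aut ξ) :
    AutRel φ hSX hSY ξ η s (autEquivOfCls hSX hSY hdX hdY e hab s) :=
  (autRel_existsUnique hSX hSY hdX hdY e hab s).choose_spec.1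

/-- The isomorphism of automorphism groups commutes with restriction along lifts. -/
theorem autEquivOfCls_natural {T' T : Over S} {k : T' ⟶ T}
    {ξ' : 𝒳.p.Fiber T'} {ξ : 𝒳.p.Fiber T} (a : Lift k ξ' ξ)
    {η' : 𝒴.p.Fiber T'} {η : 𝒴.p.Fiber T} (b : Lift k η' η)
    (e' : φ.toEquiv T' (IsoNat.cls ξ') = IsoNat.cls η')
    (e : φ.toEquiv T (IsoNat.cls ξ) = IsoNat.cls η)
    (hab' : IsoNat.IsAutAbelian ξ') (hab : IsoNat.IsAutAbelian ξ)
    {s : Aut ξ} {s' : Aut ξ'} (hs : s'.hom.1 ≫ a.1 = a.1 ≫ s.hom.1) :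
    (autEquivOfCls hSX hSY hdX hdY e' hab' s').hom.1 ≫ b.1 =
      b.1 ≫ (autEquivOfCls hSX hSY hdX hdY e hab s).hom.1 := by
  have hX := Groth.StkBase.isPrestack_of_isStack hSX
  have hY := Groth.StkBase.isPrestack_of_isStack hSY
  let t := autEquivOfCls hSX hSY hdX hdY e hab s
  let t'₀ : η' ⟶ η' := fac hY.1 b (b.comp (t.hom : Lift (𝟙 T) η η) (Category.comp_id _)) (𝟙 T')
    (Category.id_comp _)
  let t' : Aut η' := fiberIso hY.1 t'₀
  have ht' : t'.hom.1 ≫ b.1 = b.1 ≫ t.hom.1 := fac_comp hY.1 b _ (𝟙 T') (Category.id_comp _)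
  have key : AutRel φ hSX hSY ξ' η' s' t' := by
    show φ.toEquiv _ (Θ hX hSX ξ' s') = Θ hY hSY η' t'
    rw [← pullCls_Θ hX hSX a hs, toEquiv_pullCls φ hX.1 hY.1,
      show φ.toEquiv _ (Θ hX hSX ξ s) = _ from autRel_autEquivOfCls hSX hSY hdX hdY e hab s]
    exact pullCls_Θ hY hSY b ht'
  rw [(autRel_existsUnique hSX hSY hdX hdY e' hab' s').unique (autRel_autEquivOfCls hSX hSY hdX hdY e' hab' s') key]
  exact ht'

end Compare

end Groth.Misc10.IsoNat
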