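import Groth.Agent.Misc10.IsoNat.SmoothDetect
import Groth.Agent.Misc10.IsoNat.Kernel
import Groth.Agent.AlgSp2.InfCharts

/-!
# Unramifiedness of charts is detected by the presheaves of isomorphism classes
-/

set_option autoImplicit false
set_option backward.isDefEq.respectTransparency false
set_option backward.isDefEq.respectTransparency.types false

universe u

open CategoryTheory CategoryTheory.Limits AlgebraicGeometry Opposite
open Groth.StkBase Groth.AlgStBasic Groth.AlgSpBasic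

noncomputable section

namespace Groth.Misc10.IsoNat

variable {S : Scheme.{u}} {𝒳 𝒴 : AlgSt.Cat S}

/-- Classes of a fibre product with a chart are determined on a thickening. -/
def UniqCls {V : Over S} (hX : FibCat.IsFibGrpd 𝒳.p) (hY : FibCat.IsFibGrpd 𝒴.p)
    (v : FibCat.overCat V ⥤ᵇ 𝒴) (f : 𝒳 ⥤ᵇ 𝒴) : Prop :=
  ∀ (A : Type u) [CommRing A] (I : Ideal A), I ^ 2 = ⊥ → ∀ (str : Spec (.of A) ⟶ S)
    (z₁ z₂ : IsoNat.IsoCl (FibCat.fp v f) (Pt str)), clsBase z₁ = clsBase z₂ →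
      pullCls (isFibGrpd_fp (F := v) (G := f) (isFibGrpd_overCat V) hX hY) (thickHom I str) z₁ =
        pullCls (isFibGrpd_fp (F := v) (G := f) (isFibGrpd_overCat V) hX hY) (thickHom I str) z₂ →
      z₁ = z₂

/-- Classes are unique along an unramified functor. -/
theorem uniqCls_of_unramified (hX : FibCat.IsFibGrpd 𝒳.p) (hY : FibCat.IsFibGrpd 𝒴.p) {f : 𝒳 ⥤ᵇ 𝒴}
    (hf : AlgSt.RepByAlgSpWith (AlgSp.LocP (@LocallyOfFiniteType ⊓ @FormallyUnramified)) f)
    {V : Over S} (v : FibCat.overCat V ⥤ᵇ 𝒴) : UniqCls hX hY v f := by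
  obtain ⟨F, e, he⟩ := repWith_repByAlgSp1 hf V v
  have hF := isFibGrpd_fp (F := v) (G := f) (isFibGrpd_overCat V) hX hY
  have hq : AlgSp.LocP @FormallyUnramified
      (AlgSt.spMapOfOver (BasedFunctor.comp e (FibCat.fpFst v f))) :=
    fun U W a b k ha hb c => (prop_of_repWith_fp (P := AlgSp.LocP (@LocallyOfFiniteType ⊓ @FormallyUnramified))
      stableBaseChange_locP hf v F e he a b k ha hb c).2
  have hu := (Groth.AlgSp2.Inf.unramified_iff_locP F.property (AlgSp.IsAlgSpace.yon_obj V)).2 hq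
  intro A _ I hI str z₁ z₂ hb he'
  obtain ⟨r₁, rfl⟩ := (secCls_bijective e hF he _).2 z₁
  obtain ⟨r₂, rfl⟩ := (secCls_bijective e hF he _).2 z₂
  rw [pullCls_secCls, pullCls_secCls] at he'
  let sq : AlgSp.InfSq (AlgSt.spMapOfOver (BasedFunctor.comp e (FibCat.fpFst v f))) :=
    { A := A, I := I, sq_zero := hI, str := str, top := (AlgSp.yon S).map (thickHom I str) ≫ r₁
      bot := (AlgSp.yon S).map (clsBase (secCls e r₁))
      comm := by rw [Category.assoc, secCls_clsBase] }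
  exact congrArg (secCls e) (hu sq r₁ r₂ rfl (secCls_clsBase e r₁)
    ((secCls_bijective e hF he _).1 he').symm ((secCls_clsBase e r₂).trans (by rw [← hb])))

theorem fiber_overCat_iso {U T : Over S} {q q' : T ⟶ U}
    (i : @Iso ((FibCat.overCat U).p.Fiber T) _ ⟨Over.mk q, rfl⟩ ⟨Over.mk q', rfl⟩) :
    q = q' ∧ i.hom.1.left = 𝟙 T := by
  have h : i.hom.1.left = 𝟙 T := (isVert_of_isHomLift (p := (FibCat.overCat U).p) i.hom.2).map_eq
  refine ⟨?_, h⟩
  have hw := Over.w i.hom.1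
  rw [h] at hw
  exact hw.symm.trans (Category.id_comp _)

theorem exists_overCat_fiber {U T : Over S} (o : (FibCat.overCat U).p.Fiber T) :
    ∃ q : T ⟶ U, o = ⟨Over.mk q, rfl⟩ := by
  obtain ⟨⟨L, j, q⟩, hL⟩ := o
  change L = T at hL
  subst hL
  exact ⟨q, rfl⟩

section Chart

variable {U : Over S} {A : Over S}

/-- Restriction of automorphisms of chart objects is injective along an unramified chart. -/
theorem kerTriv_of_unramified (hX : FibCat.IsFibGrpd 𝒳.p) {x : FibCat.overCat U ⥤ᵇ 𝒳}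
    (hx : AlgSt.RepByAlgSpWith (AlgSp.LocP (@LocallyOfFiniteType ⊓ @FormallyUnramified)) x)
    {R : Type u} [CommRing R] (I : Ideal R) (hI : I ^ 2 = ⊥) (str : Spec (.of R) ⟶ S)
    (d : Pt str ⟶ U) : KerTriv hX (thickHom I str) (chartObj x d) := by
  intro s hs
  have hU := isFibGrpd_overCat U
  have hF := isFibGrpd_fp (F := x) (G := x) hU hU hX
  let o : (FibCat.overCat U).p.Fiber (Pt str) := ⟨Over.mk d, rfl⟩
  let o₀ : (FibCat.overCat U).p.Fiber (Pt₀ I str) := ⟨Over.mk (thickHom I str ≫ d), rfl⟩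
  let l : Lift (thickHom I str) o₀ o :=
    ⟨Over.homMk (thickHom I str) rfl, IsHomLift.map (FibCat.overCat U).p
      (Over.homMk (thickHom I str) rfl : Over.mk (thickHom I str ≫ d) ⟶ Over.mk d)⟩
  let s' : chartObj x d ≅ (IsoNat.fibFun x _).obj o := s
  let a₀ : chartObj x (thickHom I str ≫ d) ≅ (IsoNat.fibFun x _).obj o₀ :=
    Iso.refl (chartObj x (thickHom I str ≫ d))
  have hp : (pullLift hX (thickHom I str) (chartObj x d)).1 ≫ s.hom.1 =
      (pullLift hX (thickHom I str) (chartObj x d)).1 := by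
    rw [← autPullFun_spec hX (thickHom I str) (chartObj x d) s]
    show (autPull hX (thickHom I str) (chartObj x d) s).hom.1 ≫ _ = _
    rw [hs]
    exact Category.id_comp _
  have key : (chartPull (v := x) (thickHom I str) d).1 ≫ s.hom.1 =
      (chartPull (v := x) (thickHom I str) d).1 := by
    rw [← fac_comp hX (pullLift hX (thickHom I str) (chartObj x d))
      (chartPull (v := x) (thickHom I str) d) (𝟙 _) (Category.id_comp _), Category.assoc, hp]
  have h₁ := pullCls_mkPt (v := x) (f := x) hU hX (thickHom I str) (c := d) (a := s') l (a' := a₀)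
    (key.trans (Category.id_comp _).symm)
  let t : chartObj x d ≅ (IsoNat.fibFun x _).obj o := Iso.refl (chartObj x d)
  have h₂ := pullCls_mkPt (v := x) (f := x) hU hX (thickHom I str) (c := d)
    (a := t) l (a' := a₀)
    ((Category.comp_id _).trans (Category.id_comp _).symm)
  have e := uniqCls_of_unramified hU hX hx x R I hI str _ _
    ((clsBase_mkPt d o s').trans (clsBase_mkPt d o t).symm) (h₁.trans h₂.symm)
  obtain ⟨-, i, hi⟩ := mkPt_inj e
  have hi' := hi rfl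
  obtain ⟨-, hil⟩ := fiber_overCat_iso i
  have him : i.hom.1 = 𝟙 (Over.mk d) := Over.OverMorphism.ext hil
  rw [eqToHom_refl, Category.id_comp, him] at hi'
  replace hi' := hi'.trans ((congrArg (_ ≫ ·) (x.toFunctor.map_id _)).trans (Category.comp_id _))
  exact Iso.ext (Subtype.ext hi'.symm)

/-- Lifts into an affine scheme mapped to the base change of a corresponding chart agree. -/
theorem eq_of_common_point (φ : IsoNat.FIso 𝒳 𝒴) (hSX : Stk.IsStack (AlgSp.J S) 𝒳)
    (hSY : Stk.IsStack (AlgSp.J S) 𝒴)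
    (hdX : AlgSt.RepByAlgSpWith (AlgSp.IsSeparatedMor ⊓ AlgSp.IsQuasiCompactMor)
      (FibCat.diag (FibCat.toSelf 𝒳)))
    (hdY : AlgSt.RepByAlgSpWith (AlgSp.IsSeparatedMor ⊓ AlgSp.IsQuasiCompactMor)
      (FibCat.diag (FibCat.toSelf 𝒴)))
    {x : FibCat.overCat U ⥤ᵇ 𝒳} {y : FibCat.overCat U ⥤ᵇ 𝒴}
    (hxy : φ.toEquiv U (IsoNat.objCls x) = IsoNat.objCls y)
    (hx : AlgSt.RepByAlgSpWith (AlgSp.LocP (@LocallyOfFiniteType ⊓ @FormallyUnramified)) x)
    (v : FibCat.overCat A ⥤ᵇ 𝒴) {Q : Over S} [IsAffine Q.left]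
    (zQ : IsoNat.IsoCl (FibCat.fp v y) Q) {R : Type u} [CommRing R] (I : Ideal R) (hI : I ^ 2 = ⊥)
    (str : Spec (.of R) ⟶ S) (q₁ q₂ : Pt str ⟶ Q) (h₀ : thickHom I str ≫ q₁ = thickHom I str ≫ q₂)
    (hk : q₁ ≫ clsBase zQ = q₂ ≫ clsBase zQ) :
    pullCls (isFibGrpd_fp (F := v) (G := y) (isFibGrpd_overCat A) (isFibGrpd_overCat U) hSY.1) q₁ zQ =
      pullCls (isFibGrpd_fp (F := v) (G := y) (isFibGrpd_overCat A) (isFibGrpd_overCat U) hSY.1) q₂ zQ := by
  have hU := isFibGrpd_overCat U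
  have hX := hSX.1
  have hY := hSY.1
  have hFY := isFibGrpd_fp (F := v) (G := y) (isFibGrpd_overCat A) hU hY
  obtain ⟨w, hw⟩ := exists_chart_corr hX φ v
  have hFX := isFibGrpd_fp (F := w) (G := x) (isFibGrpd_overCat A) hU hX
  -- glue the two lifts
  obtain ⟨B, _, J, hJ, str', wB, pr, θ, _, hpr⟩ := exists_common I hI str (ULift.up.{u} true)
    (fun b : ULift.{u} Bool => bif b.down then q₁ else q₂) (thickHom I str ≫ q₁) (by
      rintro ⟨_ | _⟩
      · exact h₀.symm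
      · rfl)
  obtain ⟨hp₁, ht₁⟩ := hpr ⟨true⟩
  obtain ⟨hp₂, ht₂⟩ := hpr ⟨false⟩
  change pr ⟨true⟩ ≫ wB = q₁ at hp₁
  change pr ⟨false⟩ ≫ wB = q₂ at hp₂
  let p₁ := pr ⟨true⟩
  let p₂ := pr ⟨false⟩
  have hth : thickHom I str ≫ p₁ = thickHom I str ≫ p₂ := ht₁.trans ht₂.symm
  let zB := pullCls hFY wB zQ
  have e₁ : pullCls hFY q₁ zQ = pullCls hFY p₁ zB := by rw [← hp₁, pullCls_comp]
  have e₂ : pullCls hFY q₂ zQ = pullCls hFY p₂ zB := by rw [← hp₂, pullCls_comp]
  have hbB : clsBase zB = wB ≫ clsBase zQ := clsBase_pullCls hU hY wB zQ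
  obtain ⟨oB, aB, haB⟩ := exists_mkPt hY hU zB
  obtain ⟨uB, rfl⟩ := exists_overCat_fiber oB
  have hbase : p₁ ≫ clsBase zB = p₂ ≫ clsBase zB := by
    rw [hbB, ← Category.assoc, ← Category.assoc, show p₁ ≫ wB = q₁ from hp₁,
      show p₂ ≫ wB = q₂ from hp₂, hk]
  -- the corresponding class
  obtain ⟨bB⟩ : Nonempty (chartObj w (clsBase zB) ≅ chartObj x uB) := cls_eq_iff.1 <| by
    apply (φ.toEquiv _).injective
    rw [cls_chartObj_eq φ hX hY hw, cls_chartObj_eq φ hX hY hxy]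
    exact cls_eq_iff.2 ⟨aB⟩
  let ZB := mkPt (v := w) (f := x) (clsBase zB) ⟨Over.mk uB, rfl⟩ bB
  have hu : p₁ ≫ uB = p₂ ≫ uB := by
    have e := uniqCls_of_unramified hU hX hx w R I hI str (pullCls hFX p₁ ZB) (pullCls hFX p₂ ZB)
      (by rw [clsBase_pullCls hU hX, clsBase_pullCls hU hX, clsBase_mkPt, hbase])
      (by rw [← pullCls_comp, ← pullCls_comp, hth])
    have e' := congrArg (IsoNat.mapCls (FibCat.fpSnd w x) (Pt str)) e
    rw [mapCls_pullCls hFX hU, mapCls_pullCls hFX hU] at e'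
    have key : ∀ p : Pt str ⟶ Pt str', pullCls hU p (IsoNat.mapCls (FibCat.fpSnd w x) (Pt str') ZB) =
        IsoNat.cls (⟨Over.mk (p ≫ uB), rfl⟩ : (FibCat.overCat U).p.Fiber (Pt str)) := fun p =>
      pullCls_cls hU (x := (⟨Over.mk uB, rfl⟩ : (FibCat.overCat U).p.Fiber (Pt str')))
        ⟨Over.homMk p rfl, IsHomLift.map (FibCat.overCat U).p
          (Over.homMk p rfl : Over.mk (p ≫ uB) ⟶ Over.mk uB)⟩
    rw [key, key] at e'
    obtain ⟨i⟩ := cls_eq_iff.1 e'
    exact (fiber_overCat_iso i).1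
  -- both restrictions as triples over the same base and point
  let c := p₁ ≫ clsBase zB
  let o : (FibCat.overCat U).p.Fiber (Pt str) := ⟨Over.mk (p₁ ≫ uB), rfl⟩
  have restr : ∀ p : Pt str ⟶ Pt str', p ≫ clsBase zB = c → p ≫ uB = p₁ ≫ uB →
      ∃ a : chartObj v c ≅ (IsoNat.fibFun y (Pt str)).obj o, pullCls hFY p zB = mkPt c o a := by
    intro p hc hu'
    let l : Lift p o (⟨Over.mk uB, rfl⟩ : (FibCat.overCat U).p.Fiber (Pt str')) :=
      ⟨Over.homMk p hu', IsHomLift.map (FibCat.overCat U).p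
        (Over.homMk p hu' : Over.mk (p₁ ≫ uB) ⟶ Over.mk uB)⟩
    refine ⟨eqToIso (congrArg (chartObj v) hc.symm) ≪≫ restrIso hY aB l, ?_⟩
    conv_lhs => rw [← haB]
    refine pullCls_mkPt' hU hY p hc l ?_
    have k' : ∀ {d : Pt str ⟶ A} (hd : p ≫ clsBase zB = d),
        (chartTo v p (clsBase zB) d hd).1 ≫ aB.hom.1 =
          (eqToIso (congrArg (chartObj v) hd.symm) ≪≫ restrIso hY aB l).hom.1 ≫ y.map l.1 := by
      rintro _ rfl
      rw [eqToIso_refl, Iso.refl_trans]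
      exact restrIso_spec hY aB l
    exact k' hc
  obtain ⟨a₁, ha₁⟩ := restr p₁ rfl rfl
  obtain ⟨a₂, ha₂⟩ := restr p₂ hbase.symm hu.symm
  rw [e₁, e₂, ha₁, ha₂]
  -- equality of the comparison isomorphisms
  have hker : KerTriv hY (thickHom I str) (chartObj y (p₁ ≫ uB)) :=
    kerTriv_of_cls (thickHom I str) φ hSX hSY hdX hdY (cls_chartObj_eq φ hX hY hxy _)
      (kerTriv_of_unramified hX hx I hI str _)
  have h0 : pullCls hFY (thickHom I str) (mkPt c o a₁) = pullCls hFY (thickHom I str) (mkPt c o a₂) := by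
    rw [← ha₁, ← ha₂]
    exact (pullCls_comp hFY _ _ zB).symm.trans ((congrArg (pullCls hFY · zB) hth).trans (pullCls_comp hFY _ _ zB))
  let o₀ : (FibCat.overCat U).p.Fiber (Pt₀ I str) := ⟨Over.mk (thickHom I str ≫ p₁ ≫ uB), rfl⟩
  let l₀ : Lift (thickHom I str) o₀ o :=
    ⟨Over.homMk (thickHom I str) rfl, IsHomLift.map (FibCat.overCat U).p
      (Over.homMk (thickHom I str) rfl : Over.mk (thickHom I str ≫ p₁ ≫ uB) ⟶ Over.mk (p₁ ≫ uB))⟩
  rw [pullCls_mkPt hU hY (thickHom I str) l₀ (restrIso_spec hY a₁ l₀),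
    pullCls_mkPt hU hY (thickHom I str) l₀ (restrIso_spec hY a₂ l₀)] at h0
  obtain ⟨-, i, hi⟩ := mkPt_inj h0
  have hi' := hi rfl
  have him : i.hom.1 = 𝟙 (Over.mk (thickHom I str ≫ p₁ ≫ uB)) :=
    Over.OverMorphism.ext (fiber_overCat_iso i).2
  rw [eqToHom_refl, Category.id_comp, him] at hi'
  replace hi' := hi'.trans ((congrArg (_ ≫ ·) (y.toFunctor.map_id _)).trans (Category.comp_id _))
  let δ : chartObj y (p₁ ≫ uB) ≅ chartObj y (p₁ ≫ uB) := a₁.symm ≪≫ a₂
  have hδ : δ = Iso.refl _ := by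
    refine hker δ (Iso.ext (fiber_hom_ext hY (pullLift hY (thickHom I str) (chartObj y (p₁ ≫ uB))) ?_))
    refine (autPullFun_spec hY (thickHom I str) (chartObj y (p₁ ≫ uB)) δ).trans ?_
    refine Eq.trans ?_ (Category.id_comp _).symm
    have hm : y.map l₀.1 ≫ δ.hom.1 = y.map l₀.1 := by
      have s₁ := restrIso_spec hY a₁ l₀
      have s₂ := restrIso_spec hY a₂ l₀
      rw [hi'] at s₂
      have : (restrIso hY a₁ l₀).hom.1 ≫ y.map l₀.1 ≫ δ.hom.1 =
          (restrIso hY a₁ l₀).hom.1 ≫ y.map l₀.1 := by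
        refine (Category.assoc _ _ _).symm.trans ((congrArg (· ≫ δ.hom.1) s₁.symm).trans
          ((Category.assoc _ _ _).trans (Eq.trans ?_ s₂)))
        exact congrArg (_ ≫ ·) (congrArg Subtype.val (show a₁.hom ≫ δ.hom = a₂.hom by simp [δ]))
      exact (cancel_epi (Functor.Fiber.fiberInclusion.mapIso (restrIso hY a₁ l₀)).hom).1 this
    rw [← fac_comp hY (mapLift y l₀) (pullLift hY (thickHom I str) (chartObj y (p₁ ≫ uB))) (𝟙 _)
      (Category.id_comp _), Category.assoc]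
    exact congrArg (_ ≫ ·) hm
  have ha : a₁ = a₂ := by
    have h : a₁ ≪≫ δ = a₁ := (congrArg (a₁ ≪≫ ·) hδ).trans (Iso.trans_refl _)
    exact h.symm.trans (Iso.ext (show a₁.hom ≫ δ.hom = a₂.hom by simp [δ]))
  rw [ha]

end Chart

end Groth.Misc10.IsoNat

namespace Groth.Misc10.IsoNat

variable {S : Scheme.{u}} {𝒳 𝒴 : AlgSt.Cat S}

/-- Unramifiedness of a chart is detected by the presheaves of classes. -/
theorem repWith_unram_chart (φ : IsoNat.FIso 𝒳 𝒴) (hX : AlgSt.IsAlgStack Scheme.fppfPrecoverage 𝒳)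
    (hY : AlgSt.IsAlgStack Scheme.fppfPrecoverage 𝒴)
    (hdX : AlgSt.RepByAlgSpWith (AlgSp.IsSeparatedMor ⊓ AlgSp.IsQuasiCompactMor)
      (FibCat.diag (FibCat.toSelf 𝒳)))
    (hdY : AlgSt.RepByAlgSpWith (AlgSp.IsSeparatedMor ⊓ AlgSp.IsQuasiCompactMor)
      (FibCat.diag (FibCat.toSelf 𝒴))) {U : Over S}
    {x : FibCat.overCat U ⥤ᵇ 𝒳} {y : FibCat.overCat U ⥤ᵇ 𝒴}
    (h : φ.toEquiv U (IsoNat.objCls x) = IsoNat.objCls y)
    (hlfp : AlgSt.RepByAlgSpWith (AlgSp.LocP @LocallyOfFinitePresentation) y)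
    (hx : AlgSt.RepByAlgSpWith (AlgSp.LocP (@LocallyOfFiniteType ⊓ @FormallyUnramified)) x) :
    AlgSt.RepByAlgSpWith (AlgSp.LocP (@LocallyOfFiniteType ⊓ @FormallyUnramified)) y := by
  refine repWith_of_affine_charts hY stableBaseChange_locP (isLocalOnBase_fppf_locP _)
    (repWith_repByAlgSp1 hlfp) fun A _ v _ F' e' he' => ?_
  have hq := prop_of_repWith_fp stableBaseChange_locP hlfp v F' e' he'
  have hF := isFibGrpd_fp (F := v) (G := y) (isFibGrpd_overCat A) (isFibGrpd_overCat U) hY.isStack.1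
  let π := AlgSt.spMapOfOver (BasedFunctor.comp e' (FibCat.fpFst v y))
  have hu : AlgSp.LocP @FormallyUnramified π := by
    refine (Groth.AlgSp2.Inf.unramified_iff_locP F'.property (AlgSp.IsAlgSpace.yon_obj A)).1 ?_
    obtain ⟨W, a, ha, has⟩ := F'.property.atlas
    obtain ⟨k, hk⟩ := (AlgSp.yon S).map_surjective (a ≫ π)
    refine Groth.AlgSp2.Inf.unramified_of_chart ha has (AlgSp.repWith_id @Etale A)
      ((hk.symm).trans (Category.comp_id _).symm) ?_
    rw [IsZariskiLocalAtSource.iff_of_openCover (P := @FormallyUnramified) W.left.affineCover]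
    intro i
    let Q : Over S := Over.mk (W.left.affineCover.f i ≫ W.hom)
    let j : Q ⟶ W := Over.homMk (W.left.affineCover.f i) rfl
    have : IsAffine Q.left := inferInstanceAs (IsAffine (W.left.affineCover.X i))
    show FormallyUnramified (j ≫ k).left
    rw [← Groth.AlgSp2.Inf.unramified_yon_iff]
    let r := (AlgSp.yon S).map j ≫ a
    have hr : AlgSp.IsFormallyUnramifiedMor r :=
      Groth.AlgSp2.unramified_comp ((Groth.AlgSp2.Inf.unramified_yon_iff j).2
        (inferInstanceAs (FormallyUnramified (W.left.affineCover.f i))))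
        (Groth.AlgSp2.etale_iff.1 (Groth.AlgSp2.Inf.etale_of_repWith ha)).2
    intro sq l l' h₁ h₂ h₁' h₂'
    obtain ⟨q₁, rfl⟩ := (AlgSp.yon S).map_surjective l
    obtain ⟨q₂, rfl⟩ := (AlgSp.yon S).map_surjective l'
    have hbase : clsBase (secCls e' r) = j ≫ k := (AlgSp.yon S).map_injective (by
      rw [← secCls_clsBase, Category.assoc, Functor.map_comp, hk])
    have e := eq_of_common_point φ hX.isStack hY.isStack hdX hdY h hx v (secCls e' r) sq.I sq.sq_zero
      sq.str q₁ q₂ ((AlgSp.yon S).map_injective (((AlgSp.yon S).map_comp _ _).trans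
        ((h₁.trans h₁'.symm).trans ((AlgSp.yon S).map_comp _ _).symm)))
      (by
        rw [hbase]
        exact (AlgSp.yon S).map_injective (((AlgSp.yon S).map_comp _ _).trans
          ((h₂.trans h₂'.symm).trans ((AlgSp.yon S).map_comp _ _).symm)))
    rw [pullCls_secCls, pullCls_secCls] at e
    have e₂ := (secCls_bijective e' hF he' _).1 e
    let sq' : AlgSp.InfSq r :=
      { A := sq.A, I := sq.I, sq_zero := sq.sq_zero, str := sq.str
        top := (AlgSp.yon S).map (thickHom sq.I sq.str) ≫ (AlgSp.yon S).map q₁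
        bot := (AlgSp.yon S).map q₁ ≫ r
        comm := Category.assoc _ _ _ }
    exact hr sq' _ _ rfl rfl (h₁'.trans h₁.symm) e₂.symm
  intro U₁ V₁ a b k ha hb comm
  have := hq a b k ha hb comm
  exact ⟨inferInstance, hu a b k ha hb comm⟩

/-- Etaleness of a chart is detected by the presheaves of classes. -/
theorem repWith_etale_chart (φ : IsoNat.FIso 𝒳 𝒴) (hX : AlgSt.IsAlgStack Scheme.fppfPrecoverage 𝒳)
    (hY : AlgSt.IsAlgStack Scheme.fppfPrecoverage 𝒴)
    (hdX : AlgSt.RepByAlgSpWith (AlgSp.IsSeparatedMor ⊓ AlgSp.IsQuasiCompactMor)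
      (FibCat.diag (FibCat.toSelf 𝒳)))
    (hdY : AlgSt.RepByAlgSpWith (AlgSp.IsSeparatedMor ⊓ AlgSp.IsQuasiCompactMor)
      (FibCat.diag (FibCat.toSelf 𝒴)))
    (hI : AlgSt.RepByAlgSpWith (AlgSp.LocP @LocallyOfFinitePresentation)
      (FibCat.inertiaToBase (FibCat.toSelf 𝒴))) {U : Over S}
    {x : FibCat.overCat U ⥤ᵇ 𝒳} {y : FibCat.overCat U ⥤ᵇ 𝒴}
    (h : φ.toEquiv U (IsoNat.objCls x) = IsoNat.objCls y)
    (hx : AlgSt.RepByAlgSpWith AlgSp.IsEtaleMor x) :
    AlgSt.RepByAlgSpWith AlgSp.IsEtaleMor y := by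
  have hx' : AlgSt.RepByAlgSpWith (AlgSp.LocP @Etale) x :=
    repWith_mono (fun _ _ f _ _ hp => locP_of_isEtaleMor hp) hx
  have hs := repWith_smooth_chart φ hX.isStack.1 hY hI h
    (repWith_mono (fun _ _ f _ _ hp _ _ a b k ha hb c => (by
      have := hp a b k ha hb c
      infer_instance)) hx')
  have hu := repWith_unram_chart φ hX hY hdX hdY h
    (repWith_locP_of_smooth (P := @LocallyOfFinitePresentation) (fun _ _ f (_ : Smooth f) => inferInstance) hs)
    (repWith_mono (fun _ _ f _ _ hp _ _ a b k ha hb c => (by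
      have := hp a b k ha hb c
      exact ⟨inferInstance, inferInstance⟩)) hx')
  intro T t
  obtain ⟨F, e, he⟩ := repWith_repByAlgSp1 hs T t
  refine ⟨F, e, he, isEtaleMor_of_locP (AlgSp.IsAlgSpace.yon_obj T) fun U₁ V₁ a b k ha hb c => ?_⟩
  have := prop_of_repWith_fp stableBaseChange_locP hs t F e he a b k ha hb c
  have := (prop_of_repWith_fp (P := AlgSp.LocP (@LocallyOfFiniteType ⊓ @FormallyUnramified))
    stableBaseChange_locP hu t F e he a b k ha hb c).2
  exact Etale.of_formallyUnramified_of_flat _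

end Groth.Misc10.IsoNat
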