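import Groth.Agent.Misc10.IsoNat.ValTest
import Groth.Agent.Misc10.IsoNat.ChartPts
import Groth.Agent.Misc10.IsoNat.Kernel

/-!
# Extension of isomorphisms over punctured valuation rings, through classes on doubled schemes
-/

set_option autoImplicit false
set_option backward.isDefEq.respectTransparency false
set_option backward.isDefEq.respectTransparency.types false

universe u

open CategoryTheory CategoryTheory.Limits AlgebraicGeometry
open Groth.StkBase

noncomputable section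

namespace Groth.Misc10.IsoNat

variable {S : Scheme.{u}} {𝒳 𝒴 : AlgSt.Cat S}

/-- The valuation ring with its open piece, as a datum. -/
@[reducible] def ValTest.datum (x : ValTest S) : Datum S where
  κ := Unit
  U := x.V
  W _ := x.W
  j _ := x.j
  isOpen _ := x.isOpenImmersion_j
  disjoint i i' h := (h (Subsingleton.elim i i')).elim

/-- The map of data of an extension. -/
def ValTest.Ext.dmap {x : ValTest S} (e : x.Ext) : Datum.Map e.test.datum x.datum where
  σ := id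
  f := e.π
  k _ := e.πW
  comm _ := e.πW_j

theorem Datum.j_inj (D : Datum S) (i : D.κ) : D.j i ≫ D.inj false = D.j i ≫ D.inj true := by
  rw [← D.wV_vι i, Category.assoc, Category.assoc, D.vι_inj]

/-- A morphism to the doubled scheme which does not see the side factors through the open piece. -/
theorem ValTest.exists_fac_W (x : ValTest S) {Z : Over S} (k : Z ⟶ x.V)
    (h : k ≫ x.datum.inj false = k ≫ x.datum.inj true) : ∃ v : Z ⟶ x.W, v ≫ x.j = k := by
  obtain ⟨v₀, hv₀⟩ := x.datum.exists_fac_V k h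
  have hr : Set.range k.left ⊆ Set.range x.j.left := by
    rintro _ ⟨z, rfl⟩
    rw [← hv₀, Over.comp_left, Scheme.Hom.comp_apply]
    have hm : x.datum.Vop.ι (v₀.left z) ∈ x.datum.Vop := by
      have := Set.mem_range_self (f := x.datum.Vop.ι) (v₀.left z)
      rwa [Scheme.Opens.range_ι] at this
    obtain ⟨i, hi⟩ := TopologicalSpace.Opens.mem_iSup.1 hm
    exact hi
  refine ⟨Over.homMk (IsOpenImmersion.lift x.j.left k.left hr) ?_, ?_⟩
  · rw [← Over.w x.j, IsOpenImmersion.lift_fac_assoc]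
    exact Over.w k
  · exact Over.OverMorphism.ext (IsOpenImmersion.lift_fac _ _ _)

section Glue

variable (hX : FibCat.IsFibGrpd 𝒳.p) (x : ValTest S) (xs : Bool → 𝒳.p.Fiber x.V)
  {w : 𝒳.p.Fiber x.W} (l : Lift x.j w (xs false)) (m : Lift x.j w (xs true))

/-- Two objects over a valuation ring glued along the open piece. -/
def IsGlue (X : 𝒳.p.Fiber x.datum.Dbl) : Prop :=
  ∃ β : ∀ b, Lift (x.datum.inj b) (xs b) X, m.1 ≫ (β true).1 = l.1 ≫ (β false).1

/-- The transition between two sides, as morphisms of pullbacks. -/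
def gtrans {Z : Over S} (k : Z ⟶ x.V) :
    ∀ (b b' : Bool), k ≫ x.datum.inj b = k ≫ x.datum.inj b' → (pullObj hX k (xs b) ⟶ pullObj hX k (xs b'))
  | false, false, _ => 𝟙 _
  | true, true, _ => 𝟙 _
  | false, true, h => fac hX (pullLift hX k (xs true))
      ((fac hX l (pullLift hX k (xs false)) (x.exists_fac_W k h).choose
        (x.exists_fac_W k h).choose_spec).comp m (x.exists_fac_W k h).choose_spec) (𝟙 Z)
      (Category.id_comp _)
  | true, false, h =>
    (fiberIso hX (show pullObj hX k (xs false) ⟶ pullObj hX k (xs true) from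
      fac hX (pullLift hX k (xs true))
      ((fac hX l (pullLift hX k (xs false)) (x.exists_fac_W k h.symm).choose
        (x.exists_fac_W k h.symm).choose_spec).comp m (x.exists_fac_W k h.symm).choose_spec) (𝟙 Z)
      (Category.id_comp _))).inv

theorem gtrans_self {Z : Over S} (k : Z ⟶ x.V) (b : Bool) :
    gtrans hX x xs l m k b b rfl = 𝟙 _ := by
  cases b <;> rfl

theorem gtrans_comp {Z : Over S} (k : Z ⟶ x.V) (a b c : Bool)
    (h₁ : k ≫ x.datum.inj a = k ≫ x.datum.inj b) (h₂ : k ≫ x.datum.inj b = k ≫ x.datum.inj c) :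
    gtrans hX x xs l m k a b h₁ ≫ gtrans hX x xs l m k b c h₂ =
      gtrans hX x xs l m k a c (h₁.trans h₂) := by
  cases a <;> cases b <;> cases c <;>
    first
      | exact Category.id_comp _
      | exact Category.comp_id _
      | exact (fiberIso hX _).hom_inv_id
      | exact (fiberIso hX _).inv_hom_id

theorem gtrans_spec {Z : Over S} (k : Z ⟶ x.V) (h : k ≫ x.datum.inj false = k ≫ x.datum.inj true)
    {v : Z ⟶ x.W} (hv : v ≫ x.j = k) (l₀ : Lift v (pullObj hX k (xs false)) w)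
    (hl₀ : l₀.1 ≫ l.1 = (pullLift hX k (xs false)).1) :
    (gtrans hX x xs l m k false true h).1 ≫ (pullLift hX k (xs true)).1 = l₀.1 ≫ m.1 := by
  refine (fac_comp hX (pullLift hX k (xs true)) _ (𝟙 Z) (Category.id_comp _)).trans ?_
  have hvv : (x.exists_fac_W k h).choose = v := x.j_mono ((x.exists_fac_W k h).choose_spec.trans hv.symm)
  have e : ∀ (v' : Z ⟶ x.W) (hv' : v' ≫ x.j = k), v' = v →
      (fac hX l (pullLift hX k (xs false)) v' hv').1 = l₀.1 := by
    rintro _ hv' rfl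
    exact congrArg Subtype.val (Lift.hom_ext hX l ((fac_comp ..).trans hl₀.symm))
  exact congrArg (· ≫ m.1) (e _ (x.exists_fac_W k h).choose_spec hvv)

/-- The comparison of pullbacks along a morphism over the valuation ring. -/
def pm {Z' Z : Over S} {k : Z ⟶ x.V} {k' : Z' ⟶ x.V} (n : Z' ⟶ Z) (e : n ≫ k = k') (b : Bool) :
    Lift n (pullObj hX k' (xs b)) (pullObj hX k (xs b)) :=
  fac hX (pullLift hX k (xs b)) (pullLift hX k' (xs b)) n e

theorem gtrans_natural {Z' Z : Over S} {k : Z ⟶ x.V} {k' : Z' ⟶ x.V} (n : Z' ⟶ Z) (e : n ≫ k = k')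
    (b b' : Bool) (h : k ≫ x.datum.inj b = k ≫ x.datum.inj b')
    (h' : k' ≫ x.datum.inj b = k' ≫ x.datum.inj b') :
    (pm hX x xs n e b).1 ≫ (gtrans hX x xs l m k b b' h).1 =
      (gtrans hX x xs l m k' b b' h').1 ≫ (pm hX x xs n e b').1 := by
  have key : ∀ (h : k ≫ x.datum.inj false = k ≫ x.datum.inj true)
      (h' : k' ≫ x.datum.inj false = k' ≫ x.datum.inj true),
      (pm hX x xs n e false).1 ≫ (gtrans hX x xs l m k false true h).1 =
        (gtrans hX x xs l m k' false true h').1 ≫ (pm hX x xs n e true).1 := by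
    intro h h'
    obtain ⟨v, hv⟩ := x.exists_fac_W k h
    let l₀ := fac hX l (pullLift hX k (xs false)) v hv
    have hl₀ : l₀.1 ≫ l.1 = (pullLift hX k (xs false)).1 := fac_comp ..
    let l₀' := (pm hX x xs n e false).comp l₀ (rfl : n ≫ v = n ≫ v)
    have hl₀' : l₀'.1 ≫ l.1 = (pullLift hX k' (xs false)).1 := by
      show ((pm hX x xs n e false).1 ≫ l₀.1) ≫ l.1 = _
      rw [Category.assoc, hl₀]
      exact fac_comp ..
    refine congrArg Subtype.val (Lift.hom_ext hX (pullLift hX k (xs true))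
      (χ := (pm hX x xs n e false).comp (gtrans hX x xs l m k false true h : Lift (𝟙 _) _ _)
        (Category.comp_id _))
      (χ' := Lift.comp (gtrans hX x xs l m k' false true h' : Lift (𝟙 _) _ _) (pm hX x xs n e true)
        (Category.id_comp _)) ?_)
    simp only [Lift.comp_val, Category.assoc]
    rw [gtrans_spec hX x xs l m k h hv l₀ hl₀,
      show (pm hX x xs n e true).1 ≫ (pullLift hX k (xs true)).1 = _ from fac_comp ..,
      gtrans_spec hX x xs l m k' h' (v := n ≫ v) (by rw [Category.assoc, hv, e]) l₀' hl₀']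
    exact (Category.assoc _ _ _).symm
  cases b <;> cases b'
  · exact (Category.comp_id _).trans (Category.id_comp _).symm
  · exact key h h'
  · let I := fiberIso hX (gtrans hX x xs l m k false true h.symm)
    let I' := fiberIso hX (gtrans hX x xs l m k' false true h'.symm)
    show (pm hX x xs n e true).1 ≫ I.inv.1 = I'.inv.1 ≫ (pm hX x xs n e false).1
    have h1 : I.hom.1 ≫ I.inv.1 = 𝟙 _ := congrArg Subtype.val I.hom_inv_id
    have h2 : I'.inv.1 ≫ I'.hom.1 = 𝟙 _ := congrArg Subtype.val I'.inv_hom_id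
    have hk := key h.symm h'.symm
    change (pm hX x xs n e false).1 ≫ I.hom.1 = I'.hom.1 ≫ (pm hX x xs n e true).1 at hk
    calc (pm hX x xs n e true).1 ≫ I.inv.1
        = (I'.inv.1 ≫ I'.hom.1) ≫ (pm hX x xs n e true).1 ≫ I.inv.1 := by rw [h2, Category.id_comp]
      _ = I'.inv.1 ≫ (I'.hom.1 ≫ (pm hX x xs n e true).1) ≫ I.inv.1 := by simp only [Category.assoc]
      _ = I'.inv.1 ≫ ((pm hX x xs n e false).1 ≫ I.hom.1) ≫ I.inv.1 := by rw [hk]
      _ = I'.inv.1 ≫ (pm hX x xs n e false).1 := by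
        rw [Category.assoc, h1, Category.comp_id]
  · exact (Category.comp_id _).trans (Category.id_comp _).symm

end Glue

theorem exists_glue (hS : Stk.IsStack (AlgSp.J S) 𝒳) (x : ValTest S) (xs : Bool → 𝒳.p.Fiber x.V)
    {w : 𝒳.p.Fiber x.W} (l : Lift x.j w (xs false)) (m : Lift x.j w (xs true)) :
    ∃ X, IsGlue x xs l m X := by
  have hX := (isPrestack_of_isStack hS).1
  let D := x.datum
  let R := Sieve.ofArrows (fun _ : Bool => D.U) D.inj
  have hs : ∀ a : (Stk.sieveCat R).obj, ∃ b, (a.obj.hom ≫ D.fold) ≫ D.inj b = a.obj.hom := by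
    intro a
    obtain ⟨Z, l, q, ⟨b⟩, e⟩ := a.property
    refine ⟨b, ?_⟩
    rw [← e]
    simp
  choose s hs using hs
  have hk : ∀ {a' a : (Stk.sieveCat R).obj} (f : a' ⟶ a),
      f.hom.left ≫ a.obj.hom ≫ D.fold = a'.obj.hom ≫ D.fold := fun f => by
    rw [← Category.assoc]; exact congrArg (· ≫ _) (Over.w f.hom)
  have hz : ∀ {a' a : (Stk.sieveCat R).obj} (f : a' ⟶ a) (b : Bool),
      (a.obj.hom ≫ D.fold) ≫ D.inj b = a.obj.hom →
      (a'.obj.hom ≫ D.fold) ≫ D.inj b = a'.obj.hom := fun {a' a} f b e => by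
    rw [← hk f, Category.assoc, e]; exact Over.w f.hom
  let τ := fun (a : (Stk.sieveCat R).obj) (b b' : Bool)
    (h : (a.obj.hom ≫ D.fold) ≫ D.inj b = (a.obj.hom ≫ D.fold) ≫ D.inj b') =>
      gtrans hX x xs l m (a.obj.hom ≫ D.fold) b b' h
  have hτ : ∀ {a' a : (Stk.sieveCat R).obj} (f : a' ⟶ a) (b b' : Bool)
      (h : (a.obj.hom ≫ D.fold) ≫ D.inj b = (a.obj.hom ≫ D.fold) ≫ D.inj b')
      (h' : (a'.obj.hom ≫ D.fold) ≫ D.inj b = (a'.obj.hom ≫ D.fold) ≫ D.inj b'),
      (pm hX x xs f.hom.left (hk f) b).1 ≫ (τ a b b' h).1 =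
        (τ a' b b' h').1 ≫ (pm hX x xs f.hom.left (hk f) b').1 :=
    fun f b b' h h' => gtrans_natural hX x xs l m f.hom.left (hk f) b b' h h'
  have pm_comp : ∀ {Z'' Z' Z : Over S} {k : Z ⟶ x.V} {k' : Z' ⟶ x.V} {k'' : Z'' ⟶ x.V}
      (n' : Z'' ⟶ Z') (n : Z' ⟶ Z) (e' : n' ≫ k' = k'') (e : n ≫ k = k') (b : Bool),
      (pm hX x xs n' e' b).1 ≫ (pm hX x xs n e b).1 =
        (pm hX x xs (n' ≫ n) (by rw [Category.assoc, e, e']) b).1 := by
    intro Z'' Z' Z k k' k'' n' n e' e b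
    refine congrArg Subtype.val (Lift.hom_ext hX (pullLift hX k (xs b))
      (χ := (pm hX x xs n' e' b).comp (pm hX x xs n e b) rfl) (χ' := pm hX x xs (n' ≫ n) _ b) ?_)
    simp only [Lift.comp_val, Category.assoc, pm, fac_comp]
  let F₀ : Stk.sieveCat R ⥤ᵇ 𝒳 :=
    { toFunctor :=
        { obj := fun a => (pullObj hX (a.obj.hom ≫ D.fold) (xs (s a))).1
          map := fun {a' a} f =>
            (τ a' (s a') (s a) ((hs a').trans (hz f (s a) (hs a)).symm)).1 ≫
              (pm hX x xs f.hom.left (hk f) (s a)).1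
          map_id := fun a => by
            show (gtrans hX x xs l m _ (s a) (s a) _).1 ≫ _ = _
            rw [gtrans_self]
            refine (Category.id_comp _).trans ?_
            exact congrArg Subtype.val (Lift.hom_ext hX (pullLift hX (a.obj.hom ≫ D.fold) (xs (s a)))
              (χ' := Lift.id _) (by
                show _ = 𝟙 _ ≫ _
                rw [Category.id_comp]
                exact fac_comp ..))
          map_comp := fun {a'' a' a} f g => by
            simp only [Category.assoc]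
            rw [reassoc_of% hτ f (s a') (s a) _ ((hz f (s a') (hs a')).trans
              (hz (f ≫ g) (s a) (hs a)).symm), pm_comp]
            exact (congrArg (· ≫ _) (congrArg Subtype.val (gtrans_comp hX x xs l m _ (s a'') (s a')
              (s a) ((hs a'').trans (hz f (s a') (hs a')).symm) _).symm)).trans (Category.assoc _ _ _) }
      w := CategoryTheory.Functor.ext
        (fun a => (pullObj hX (a.obj.hom ≫ D.fold) (xs (s a))).2)
        (fun a' a f => (Lift.comp (τ a' (s a') (s a) _ : Lift (𝟙 _) _ _)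
          (pm hX x xs f.hom.left (hk f) (s a)) (Category.id_comp _)).map_eq) }
  have : (Stk.resSieve R 𝒳).IsEquivalence := hS.2 R D.inj_cover
  obtain ⟨P, ⟨θ⟩⟩ : ∃ P, Nonempty ((Stk.resSieve R 𝒳).obj P ≅ F₀) :=
    ⟨(Stk.resSieve R 𝒳).objPreimage F₀, ⟨(Stk.resSieve R 𝒳).objObjPreimageIso F₀⟩⟩
  let X : 𝒳.p.Fiber D.Dbl := ⟨P.obj (idObj D.Dbl), P.w_obj _⟩
  let q : ∀ (g : Over D.Dbl), Lift g.hom (⟨P.obj g, P.w_obj g⟩ : 𝒳.p.Fiber g.left) X := fun g =>
    ⟨P.map (toId g), by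
      have := overCat_isHomLift (toId g)
      exact P.preserves_isHomLift (toId g).left (toId g)⟩
  let ei : ∀ a : (Stk.sieveCat R).obj,
      Lift (𝟙 _) (pullObj hX (a.obj.hom ≫ D.fold) (xs (s a)))
        (⟨P.obj a.obj, P.w_obj _⟩ : 𝒳.p.Fiber a.obj.left) :=
    fun a => ⟨θ.inv.toNatTrans.app a, θ.inv.isHomLift' a⟩
  let B : ∀ (a : (Stk.sieveCat R).obj) (b : Bool), (a.obj.hom ≫ D.fold) ≫ D.inj b = a.obj.hom →
      Lift a.obj.hom (pullObj hX (a.obj.hom ≫ D.fold) (xs b)) X := fun a b e =>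
    Lift.comp (τ a b (s a) (e.trans (hs a).symm) : Lift (𝟙 _) _ _)
      ((ei a).comp (q a.obj) (Category.id_comp _)) (Category.id_comp _)
  have hBnat : ∀ {a' a : (Stk.sieveCat R).obj} (f : a' ⟶ a) (b : Bool)
      (e : (a.obj.hom ≫ D.fold) ≫ D.inj b = a.obj.hom)
      (e' : (a'.obj.hom ≫ D.fold) ≫ D.inj b = a'.obj.hom),
      (pm hX x xs f.hom.left (hk f) b).1 ≫ (B a b e).1 = (B a' b e').1 := by
    intro a' a f b e e'
    have hnat := θ.inv.toNatTrans.naturality f
    change ((τ a' (s a') (s a) _).1 ≫ (pm hX x xs f.hom.left (hk f) (s a)).1) ≫ (ei a).1 =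
      (ei a').1 ≫ P.map f.hom at hnat
    have hP : P.map f.hom ≫ (q a.obj).1 = (q a'.obj).1 := by
      show P.map f.hom ≫ P.map _ = P.map _
      rw [← P.toFunctor.map_comp]
      congr 1
      apply Over.OverMorphism.ext
      exact Over.w f.hom
    show _ ≫ (τ a b (s a) _).1 ≫ (ei a).1 ≫ (q a.obj).1 =
      (τ a' b (s a') _).1 ≫ (ei a').1 ≫ (q a'.obj).1
    rw [← hP, ← reassoc_of% hnat, reassoc_of% hτ f b (s a) _ (e'.trans (hz f (s a) (hs a)).symm)]
    simp only [τ]
    rw [← gtrans_comp hX x xs l m _ b (s a') (s a) (e'.trans (hs a').symm)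
      ((hs a').trans (hz f (s a) (hs a)).symm)]
    exact Category.assoc _ _ _
  let A : Bool → (Stk.sieveCat R).obj := fun b =>
    ⟨Over.mk (D.inj b), D.U, 𝟙 _, D.inj b, ⟨b⟩, Category.id_comp _⟩
  have hA : ∀ b, 𝟙 _ ≫ (A b).obj.hom ≫ D.fold = 𝟙 D.U := fun b => by simp [A]
  let ι : ∀ b, Lift (𝟙 D.U) (xs b) (pullObj hX ((A b).obj.hom ≫ D.fold) (xs b)) := fun b =>
    fac hX (pullLift hX ((A b).obj.hom ≫ D.fold) (xs b)) (Lift.id (xs b)) (𝟙 _) (hA b)
  let β : ∀ b, Lift (D.inj b) (xs b) X := fun b =>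
    (ι b).comp (B (A b) b (by simp [A])) (Category.id_comp _)
  refine ⟨X, β, ?_⟩
  let az : (Stk.sieveCat R).obj :=
    ⟨Over.mk (x.j ≫ D.inj false), D.U, x.j, D.inj false, ⟨false⟩, rfl⟩
  have hkz : az.obj.hom ≫ D.fold = x.j := by
    show (x.j ≫ D.inj false) ≫ D.fold = x.j
    rw [Category.assoc, D.inj_fold]
    exact Category.comp_id _
  have hj : ∀ b, x.j ≫ D.inj b = x.j ≫ D.inj false := fun b => by
    cases b
    · rfl
    · exact (D.j_inj ()).symm
  have he : ∀ b, (az.obj.hom ≫ D.fold) ≫ D.inj b = az.obj.hom := fun b => by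
    rw [hkz]; exact hj b
  let n : ∀ b, Lift x.j w (xs b) := fun b => match b with
    | false => l
    | true => m
  let r : ∀ b, Lift (𝟙 x.W) w (pullObj hX (az.obj.hom ≫ D.fold) (xs b)) := fun b =>
    fac hX (pullLift hX _ (xs b)) (n b) (𝟙 _) (by rw [Category.id_comp, hkz])
  have hr : ∀ b, (r b).1 ≫ (pullLift hX _ (xs b)).1 = (n b).1 := fun b => fac_comp ..
  have hβ : ∀ b, (n b).1 ≫ (β b).1 = (r b).1 ≫ (B az b (he b)).1 := by
    intro b
    let mb : az ⟶ A b := ObjectProperty.homMk (Over.homMk x.j (hj b))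
    rw [← hBnat mb b (by simp [A]) (he b)]
    show (n b).1 ≫ (ι b).1 ≫ _ = _
    rw [← Category.assoc, ← Category.assoc (r b).1]
    congr 1
    refine congrArg Subtype.val (Lift.hom_ext hX (pullLift hX ((A b).obj.hom ≫ D.fold) (xs b))
      (χ := (n b).comp (ι b) (Category.comp_id _))
      (χ' := (r b).comp (pm hX x xs mb.hom.left (hk mb) b) (Category.id_comp _)) ?_)
    simp only [Lift.comp_val, Category.assoc, ι, pm, fac_comp, hr]
    exact Category.comp_id _
  show (n true).1 ≫ (β true).1 = (n false).1 ≫ (β false).1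
  refine (hβ true).trans (Eq.trans ?_ (hβ false).symm)
  show _ ≫ (τ az true (s az) _).1 ≫ _ = _ ≫ (τ az false (s az) _).1 ≫ _
  simp only [τ]
  rw [← gtrans_comp hX x xs l m _ false true (s az) ((he false).trans (he true).symm)
    ((he true).trans (hs az).symm)]
  show _ = (r false).1 ≫ ((_ : _ ⟶ _) ≫ _) ≫ _
  simp only [← Category.assoc]
  congr 2
  obtain ⟨v, hv⟩ : ∃ v, v = 𝟙 x.W := ⟨_, rfl⟩
  have : IsIso (r false).1 := by
    have := fiber_isIso hX (show w ⟶ _ from r false)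
    exact Functor.map_isIso Functor.Fiber.fiberInclusion (show w ⟶ _ from r false)
  let rinv : pullObj hX (az.obj.hom ≫ D.fold) (xs false) ⟶ w :=
    (fiberIso hX (show w ⟶ _ from r false)).inv
  have hrinv : (r false).1 ≫ rinv.1 = 𝟙 _ :=
    congrArg Subtype.val (fiberIso hX (show w ⟶ _ from r false)).hom_inv_id
  have hl₀ : rinv.1 ≫ l.1 = (pullLift hX (az.obj.hom ≫ D.fold) (xs false)).1 := by
    rw [← cancel_epi (r false).1, reassoc_of% hrinv, hr]
  refine congrArg Subtype.val (Lift.hom_ext hX (pullLift hX _ (xs true)) (χ := r true)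
    (χ' := (r false).comp (gtrans hX x xs l m _ false true ((he false).trans (he true).symm) :
      Lift (𝟙 _) _ _) (Category.id_comp _)) ?_)
  rw [hr, Lift.comp_val, Category.assoc,
    gtrans_spec hX x xs l m _ _ (by rw [Category.id_comp, hkz]) (rinv : Lift (𝟙 _) _ _) hl₀,
    reassoc_of% hrinv]

/-- A glued object comes from the valuation ring exactly when the gluing extends. -/
theorem isGlue_mem_range_iff (hX : Stk.IsPrestack (AlgSp.J S) 𝒳) {x : ValTest S}
    {xs : Bool → 𝒳.p.Fiber x.V} {w : 𝒳.p.Fiber x.W} {l : Lift x.j w (xs false)}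
    {m : Lift x.j w (xs true)} {X : 𝒳.p.Fiber x.datum.Dbl} (h : IsGlue x xs l m X) :
    IsoNat.cls X ∈ Set.range (pullCls hX.1 x.datum.fold) ↔
      ∃ g : xs false ⟶ xs true, l.1 ≫ g.1 = m.1 := by
  obtain ⟨β, hβ⟩ := h
  constructor
  · rintro ⟨c, hc⟩
    obtain ⟨z, rfl⟩ := exists_cls c
    rw [pullCls_cls'] at hc
    obtain ⟨φ⟩ := cls_eq_iff.1 hc.symm
    let g : ∀ b, Lift (𝟙 x.V) (xs b) z := fun b =>
      (β b).comp (Lift.comp (φ.hom : Lift (𝟙 _) _ _) (pullLift hX.1 x.datum.fold z)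
        (Category.id_comp _)) (x.datum.inj_fold b)
    refine ⟨(show xs false ⟶ z from g false) ≫
      (fiberIso hX.1 (show xs true ⟶ z from g true)).inv, ?_⟩
    have e : l.1 ≫ (g false).1 = m.1 ≫ (g true).1 := by
      simp only [g, Lift.comp_val]
      rw [← reassoc_of% hβ]
    show l.1 ≫ (g false).1 ≫ (fiberIso hX.1 (show xs true ⟶ z from g true)).inv.1 = m.1
    rw [reassoc_of% e]
    exact (congrArg (m.1 ≫ ·) (congrArg Subtype.val
      (fiberIso hX.1 (show xs true ⟶ z from g true)).hom_inv_id)).trans (Category.comp_id _)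
  · rintro ⟨g, hg⟩
    refine ⟨IsoNat.cls (xs true), ?_⟩
    rw [pullCls_cls']
    let P := pullLift hX.1 x.datum.fold (xs true)
    let L : ∀ b, Lift (𝟙 x.V) (xs b) (xs true) := fun b => match b with
      | false => g
      | true => Lift.id (xs true)
    have hL : l.1 ≫ (L false).1 = m.1 ≫ (L true).1 := by
      show l.1 ≫ g.1 = m.1 ≫ 𝟙 _
      rw [hg, Category.comp_id]
    let γ : ∀ b, Lift (x.datum.inj b) (xs b) (pullObj hX.1 x.datum.fold (xs true)) := fun b =>
      fac hX.1 P (L b) (x.datum.inj b) (x.datum.inj_fold b)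
    have hγ : ∀ b, (γ b).1 ≫ P.1 = (L b).1 := fun b => fac_comp ..
    obtain ⟨ψ, -⟩ := exists_glue_hom hX x.datum.inj_cover β γ (by
      intro Z z b b' k k' n n' e
      have hkk : k ≫ x.datum.inj b = k' ≫ x.datum.inj b' :=
        Lift.base_unique (n.comp (β b) rfl) (n'.comp (β b') rfl) e
      have := x.datum.eq_of_inj hkk
      subst this
      have main : ∀ (n : Lift k z (xs false)) (n' : Lift k z (xs true)),
          k ≫ x.datum.inj false = k ≫ x.datum.inj true →
          n.1 ≫ (β false).1 = n'.1 ≫ (β true).1 → n.1 ≫ (γ false).1 = n'.1 ≫ (γ true).1 := by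
        intro n n' hk e
        obtain ⟨v, hv⟩ := x.exists_fac_W k hk
        let n₀ := fac hX.1 l n v hv
        have hn₀ : n₀.1 ≫ l.1 = n.1 := fac_comp ..
        have hn' : n' = n₀.comp m hv := Lift.hom_ext hX.1 (β true) (by
          rw [← e, Lift.comp_val, Category.assoc, hβ, ← Category.assoc, hn₀])
        refine congrArg Subtype.val (Lift.hom_ext hX.1 P (χ := n.comp (γ false) rfl)
          (χ' := n'.comp (γ true) hk.symm) ?_)
        simp only [Lift.comp_val, Category.assoc, hγ]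
        rw [hn', ← hn₀, Lift.comp_val, Category.assoc, Category.assoc, hL]
      cases b <;> cases b'
      · rw [Lift.hom_ext hX.1 (β false) e]
      · exact main n n' hkk e
      · exact (main n' n hkk.symm e.symm).symm
      · rw [Lift.hom_ext hX.1 (β true) e])
    exact (cls_eq_iff.2 ⟨fiberIso hX.1 ψ⟩).symm

/-- Every object over the doubled scheme is glued from its restrictions. -/
theorem exists_isGlue (hX : FibCat.IsFibGrpd 𝒳.p) (x : ValTest S) (X : 𝒳.p.Fiber x.datum.Dbl) :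
    ∃ (xs : Bool → 𝒳.p.Fiber x.V) (w : 𝒳.p.Fiber x.W) (l : Lift x.j w (xs false))
      (m : Lift x.j w (xs true)), IsGlue x xs l m X ∧
      ∀ b, xs b = pullObj hX (x.datum.inj b) X := by
  let xs := fun b => pullObj hX (x.datum.inj b) X
  let l := pullLift hX x.j (xs false)
  let β := fun b => pullLift hX (x.datum.inj b) X
  let m := fac hX (β true) (l.comp (β false) rfl) x.j (x.datum.j_inj ()).symm
  exact ⟨xs, _, l, m, ⟨β, fac_comp hX (β true) (l.comp (β false) rfl) x.j (x.datum.j_inj ()).symm⟩,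
    fun b => rfl⟩

/-- An isomorphism over the open piece extends after extending the valuation ring. -/
def Extends (x : ValTest S) {xf xt : 𝒳.p.Fiber x.V} {w : 𝒳.p.Fiber x.W} (l : Lift x.j w xf)
    (m : Lift x.j w xt) : Prop :=
  ∃ (e : x.Ext) (x' : 𝒳.p.Fiber e.test.V) (p : Lift e.π x' xf) (q : Lift e.π x' xt)
    (w' : 𝒳.p.Fiber e.test.W) (lw : Lift e.πW w' w) (l' : Lift e.test.j w' x'),
    l'.1 ≫ p.1 = lw.1 ≫ l.1 ∧ l'.1 ≫ q.1 = lw.1 ≫ m.1

theorem extends_iff (hX : Stk.IsPrestack (AlgSp.J S) 𝒳) {x : ValTest S}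
    {xs : Bool → 𝒳.p.Fiber x.V} {w : 𝒳.p.Fiber x.W} {l : Lift x.j w (xs false)}
    {m : Lift x.j w (xs true)} {X : 𝒳.p.Fiber x.datum.Dbl} (h : IsGlue x xs l m X) :
    Extends x l m ↔ ∃ e : x.Ext,
      pullCls hX.1 e.dmap.dbl (IsoNat.cls X) ∈ Set.range (pullCls hX.1 e.test.datum.fold) := by
  obtain ⟨β, hβ⟩ := h
  refine exists_congr fun e => ?_
  let xs' := fun b => pullObj hX.1 e.π (xs b)
  let w₁ := pullObj hX.1 e.πW w
  let lw₁ := pullLift hX.1 e.πW w
  let l₁ := fac hX.1 (pullLift hX.1 e.π (xs false)) (lw₁.comp l rfl) e.test.j e.πW_j.symm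
  let m₁ := fac hX.1 (pullLift hX.1 e.π (xs true)) (lw₁.comp m rfl) e.test.j e.πW_j.symm
  have hl₁ : l₁.1 ≫ (pullLift hX.1 e.π (xs false)).1 = lw₁.1 ≫ l.1 := fac_comp ..
  have hm₁ : m₁.1 ≫ (pullLift hX.1 e.π (xs true)).1 = lw₁.1 ≫ m.1 := fac_comp ..
  let X' := pullObj hX.1 e.dmap.dbl X
  let β' : ∀ b, Lift (e.test.datum.inj b) (xs' b) X' := fun b =>
    fac hX.1 (pullLift hX.1 e.dmap.dbl X) ((pullLift hX.1 e.π (xs b)).comp (β b) rfl)
      (e.test.datum.inj b) (e.dmap.inj_dbl b)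
  have hβ' : ∀ b, (β' b).1 ≫ (pullLift hX.1 e.dmap.dbl X).1 =
      (pullLift hX.1 e.π (xs b)).1 ≫ (β b).1 := fun b => fac_comp ..
  have hglue : IsGlue e.test xs' l₁ m₁ X' := by
    refine ⟨β', congrArg Subtype.val (Lift.hom_ext hX.1 (pullLift hX.1 e.dmap.dbl X)
      (χ := m₁.comp (β' true) rfl) (χ' := l₁.comp (β' false) (e.test.datum.j_inj ())) ?_)⟩
    simp only [Lift.comp_val, Category.assoc, hβ']
    rw [reassoc_of% hl₁, reassoc_of% hm₁, hβ]
  rw [pullCls_cls', isGlue_mem_range_iff hX hglue]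
  constructor
  · rintro ⟨x', p, q, w', lw, l', hp, hq⟩
    let P : x' ⟶ xs' false := fac hX.1 (pullLift hX.1 e.π (xs false)) p (𝟙 _) (Category.id_comp _)
    have hP : P.1 ≫ (pullLift hX.1 e.π (xs false)).1 = p.1 :=
      fac_comp hX.1 (pullLift hX.1 e.π (xs false)) p (𝟙 _) (Category.id_comp _)
    let Q : x' ⟶ xs' true := fac hX.1 (pullLift hX.1 e.π (xs true)) q (𝟙 _) (Category.id_comp _)
    have hQ : Q.1 ≫ (pullLift hX.1 e.π (xs true)).1 = q.1 :=
      fac_comp hX.1 (pullLift hX.1 e.π (xs true)) q (𝟙 _) (Category.id_comp _)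
    refine ⟨(fiberIso hX.1 P).inv ≫ Q, ?_⟩
    let i : w₁ ⟶ w' := fac hX.1 lw lw₁ (𝟙 _) (Category.id_comp _)
    have hi : i.1 ≫ lw.1 = lw₁.1 := fac_comp hX.1 lw lw₁ (𝟙 _) (Category.id_comp _)
    have hil : l₁.1 = i.1 ≫ l'.1 ≫ P.1 := congrArg Subtype.val (Lift.hom_ext hX.1
      (pullLift hX.1 e.π (xs false))
      (χ' := Lift.comp (i : Lift (𝟙 _) _ _) (l'.comp (P : Lift (𝟙 _) _ _) (Category.comp_id _))
        (Category.id_comp _)) (by simp [hl₁, hP, hp, reassoc_of% hi]))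
    have him : m₁.1 = i.1 ≫ l'.1 ≫ Q.1 := congrArg Subtype.val (Lift.hom_ext hX.1
      (pullLift hX.1 e.π (xs true))
      (χ' := Lift.comp (i : Lift (𝟙 _) _ _) (l'.comp (Q : Lift (𝟙 _) _ _) (Category.comp_id _))
        (Category.id_comp _)) (by simp [hm₁, hQ, hq, reassoc_of% hi]))
    show l₁.1 ≫ (fiberIso hX.1 P).inv.1 ≫ Q.1 = m₁.1
    rw [hil, him]
    simp only [Category.assoc]
    refine congrArg (fun t => i.1 ≫ l'.1 ≫ t) ?_
    have h₀ : P.1 ≫ (fiberIso hX.1 P).inv.1 = 𝟙 _ :=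
      congrArg Subtype.val (fiberIso hX.1 P).hom_inv_id
    exact (Category.assoc _ _ _).symm.trans ((congrArg (· ≫ Q.1) h₀).trans (Category.id_comp _))
  · rintro ⟨g, hg⟩
    exact ⟨xs' false, pullLift hX.1 e.π (xs false),
      Lift.comp (g : Lift (𝟙 _) _ _) (pullLift hX.1 e.π (xs true)) (Category.id_comp _),
      w₁, lw₁, l₁, hl₁, by rw [Lift.comp_val, reassoc_of% hg, hm₁]⟩

/-- Two morphisms over a valuation ring which agree on the open piece are equal. -/
theorem fiber_hom_eq_of_dominant (hY : FibCat.IsFibGrpd 𝒴.p)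
    (hYp : Stk.IsPrestack (AlgSp.J S) 𝒴)
    (hd : AlgSt.RepByAlgSpWith (AlgSp.IsSeparatedMor ⊓ AlgSp.IsQuasiCompactMor)
      (FibCat.diag (FibCat.toSelf 𝒴)))
    {V W : Over S} {k : W ⟶ V} (hk : IsSchDominant k.left) {y₁ y₂ : 𝒴.p.Fiber V} {u v : y₁ ⟶ y₂}
    {w : 𝒴.p.Fiber W} (l : Lift k w y₁) (h : l.1 ≫ u.1 = l.1 ≫ v.1) : u = v := by
  let s : Aut y₁ := fiberIso hY u ≪≫ (fiberIso hY v).symm
  suffices hs : s = 1 by
    have : s.hom = 𝟙 y₁ := by rw [hs]; rfl
    have h' : u ≫ (fiberIso hY v).inv = 𝟙 y₁ := this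
    rw [← Category.comp_id u, ← (fiberIso hY v).inv_hom_id, ← Category.assoc, h', Category.id_comp]
    rfl
  have hres : autPull hY k y₁ s = 1 := by
    refine Iso.ext (fiber_hom_ext hY (pullLift hY k y₁) ?_)
    refine (autPullFun_spec hY k y₁ s).trans ?_
    let i : Lift (𝟙 W) (pullObj hY k y₁) w := fac hY l (pullLift hY k y₁) (𝟙 W) (Category.id_comp _)
    have hi : i.1 ≫ l.1 = (pullLift hY k y₁).1 := fac_comp ..
    show (pullLift hY k y₁).1 ≫ u.1 ≫ (fiberIso hY v).inv.1 = 𝟙 _ ≫ _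
    rw [Category.id_comp, ← hi, Category.assoc, reassoc_of% h]
    exact congrArg (i.1 ≫ ·) ((congrArg (l.1 ≫ ·) (congrArg Subtype.val
      (fiberIso hY v).hom_inv_id)).trans (Category.comp_id _))
  apply (autPull_bijective hY (𝟙 V) y₁).injective
  rw [map_one]
  refine res_injective hY y₁ hd (h := 𝟙 V) (h' := k) k (Category.comp_id _) hk ?_
  rw [res_one, res_autPull hYp]
  exact hres

/-- The criterion, on classes, that glued objects whose image comes from the valuation ring do so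
themselves after extending it. -/
def GlueCrit (hgX : FibCat.IsFibGrpd 𝒳.p) (hgY : FibCat.IsFibGrpd 𝒴.p) (f : 𝒳 ⥤ᵇ 𝒴) : Prop :=
  ∀ (x : ValTest S) (c : IsoNat.IsoCl 𝒳 x.datum.Dbl),
    IsoNat.mapCls f _ c ∈ Set.range (pullCls hgY x.datum.fold) →
      ∃ e : x.Ext, pullCls hgX e.dmap.dbl c ∈ Set.range (pullCls hgX e.test.datum.fold)

/-- The criterion for automorphisms. -/
def CritAut (hgX : FibCat.IsFibGrpd 𝒳.p) : Prop :=
  ∀ (x : ValTest S) (c : IsoNat.IsoCl 𝒳 x.datum.Dbl),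
    pullCls hgX (x.datum.inj false) c = pullCls hgX (x.datum.inj true) c →
      ∃ e : x.Ext, pullCls hgX e.dmap.dbl c ∈ Set.range (pullCls hgX e.test.datum.fold)

theorem toEquiv_mem_range_iff (φ : IsoNat.FIso 𝒳 𝒴) (hX : FibCat.IsFibGrpd 𝒳.p)
    (hY : FibCat.IsFibGrpd 𝒴.p) {W' W : Over S} (k : W' ⟶ W) (c : IsoNat.IsoCl 𝒳 W') :
    φ.toEquiv W' c ∈ Set.range (pullCls hY k) ↔ c ∈ Set.range (pullCls hX k) := by
  constructor
  · rintro ⟨d, hd⟩
    refine ⟨(φ.toEquiv W).symm d, (φ.toEquiv W').injective ?_⟩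
    rw [toEquiv_pullCls φ hX hY, Equiv.apply_symm_apply, hd]
  · rintro ⟨d, rfl⟩
    exact ⟨φ.toEquiv W d, (toEquiv_pullCls φ hX hY k d).symm⟩

theorem critAut_iff (φ : IsoNat.FIso 𝒳 𝒴) (hX : FibCat.IsFibGrpd 𝒳.p)
    (hY : FibCat.IsFibGrpd 𝒴.p) : CritAut hY ↔ CritAut hX := by
  refine forall_congr' fun x => ?_
  rw [(φ.toEquiv x.datum.Dbl).surjective.forall]
  refine forall_congr' fun c => imp_congr ?_ (exists_congr fun e => ?_)
  · rw [← toEquiv_pullCls φ hX hY, ← toEquiv_pullCls φ hX hY]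
    exact (φ.toEquiv _).injective.eq_iff
  · rw [← toEquiv_pullCls φ hX hY, toEquiv_mem_range_iff φ hX hY]

theorem glueCrit_iff_of_fIsoSq {𝒳' 𝒴' : AlgSt.Cat S} {f : 𝒳 ⥤ᵇ 𝒴} {f' : 𝒳' ⥤ᵇ 𝒴'}
    (φ : IsoNat.FIsoSq f f') (hX : FibCat.IsFibGrpd 𝒳.p) (hY : FibCat.IsFibGrpd 𝒴.p)
    (hX' : FibCat.IsFibGrpd 𝒳'.p) (hY' : FibCat.IsFibGrpd 𝒴'.p) :
    GlueCrit hX' hY' f' ↔ GlueCrit hX hY f := by
  refine forall_congr' fun x => ?_
  rw [(φ.src.toEquiv x.datum.Dbl).surjective.forall]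
  refine forall_congr' fun c => imp_congr ?_ (exists_congr fun e => ?_)
  · rw [← φ.comm, toEquiv_mem_range_iff φ.tgt hY hY']
  · rw [← toEquiv_pullCls φ.src hX hX', toEquiv_mem_range_iff φ.src hX hX']

/-- The criterion for isomorphisms in terms of extensions of isomorphisms. -/
theorem glueCrit_iff (hS : Stk.IsStack (AlgSp.J S) 𝒳) (hT : Stk.IsStack (AlgSp.J S) 𝒴) (f : 𝒳 ⥤ᵇ 𝒴) :
    GlueCrit (isPrestack_of_isStack hS).1 (isPrestack_of_isStack hT).1 f ↔
      ∀ (x : ValTest S) (xf xt : 𝒳.p.Fiber x.V)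
        (b : (IsoNat.fibFun f x.V).obj xf ⟶ (IsoNat.fibFun f x.V).obj xt)
        (w : 𝒳.p.Fiber x.W) (l : Lift x.j w xf) (m : Lift x.j w xt),
        f.map l.1 ≫ b.1 = f.map m.1 → Extends x l m := by
  have hX := isPrestack_of_isStack hS
  have hY := isPrestack_of_isStack hT
  constructor
  · intro h x xf xt b w l m hb
    let xs : Bool → 𝒳.p.Fiber x.V := fun i => match i with
      | false => xf
      | true => xt
    obtain ⟨X, hX'⟩ := exists_glue hS x xs l m
    obtain ⟨β, hβ⟩ := hX'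
    refine (extends_iff hX (xs := xs) ⟨β, hβ⟩).2 (h x _ ?_)
    rw [mapCls_cls, isGlue_mem_range_iff hY (xs := fun i => (IsoNat.fibFun f x.V).obj (xs i))
      (l := mapLift f l) (m := mapLift f m) ⟨fun i => mapLift f (β i), ?_⟩]
    · exact ⟨b, hb⟩
    · show f.map m.1 ≫ f.map (β true).1 = f.map l.1 ≫ f.map (β false).1
      rw [← f.toFunctor.map_comp, ← f.toFunctor.map_comp, hβ]
  · intro h x c hc
    obtain ⟨X, rfl⟩ := exists_cls c
    obtain ⟨xs, w, l, m, ⟨β, hβ⟩, -⟩ := exists_isGlue hX.1 x X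
    rw [mapCls_cls, isGlue_mem_range_iff hY (xs := fun i => (IsoNat.fibFun f x.V).obj (xs i))
      (l := mapLift f l) (m := mapLift f m) ⟨fun i => mapLift f (β i), by
        show f.map m.1 ≫ f.map (β true).1 = f.map l.1 ≫ f.map (β false).1
        rw [← f.toFunctor.map_comp, ← f.toFunctor.map_comp, hβ]⟩] at hc
    obtain ⟨b, hb⟩ := hc
    exact (extends_iff hX ⟨β, hβ⟩).1 (h x _ _ b w l m hb)

/-- The criterion for automorphisms in terms of extensions of automorphisms. -/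
theorem critAut_iff_extends (hS : Stk.IsStack (AlgSp.J S) 𝒳) :
    CritAut (isPrestack_of_isStack hS).1 ↔
      ∀ (x : ValTest S) (xf xt : 𝒳.p.Fiber x.V) (_ : xf ≅ xt)
        (w : 𝒳.p.Fiber x.W) (l : Lift x.j w xf) (m : Lift x.j w xt), Extends x l m := by
  have hX := isPrestack_of_isStack hS
  constructor
  · intro h x xf xt i w l m
    let xs : Bool → 𝒳.p.Fiber x.V := fun i => match i with
      | false => xf
      | true => xt
    obtain ⟨X, β, hβ⟩ := exists_glue hS x xs l m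
    refine (extends_iff hX (xs := xs) ⟨β, hβ⟩).2 (h x _ ?_)
    rw [pullCls_cls hX.1 (β false), pullCls_cls hX.1 (β true)]
    exact cls_eq_iff.2 ⟨i⟩
  · intro h x c hc
    obtain ⟨X, rfl⟩ := exists_cls c
    obtain ⟨xs, w, l, m, ⟨β, hβ⟩, -⟩ := exists_isGlue hX.1 x X
    rw [pullCls_cls hX.1 (β false), pullCls_cls hX.1 (β true)] at hc
    obtain ⟨i⟩ := cls_eq_iff.1 hc
    exact (extends_iff hX ⟨β, hβ⟩).1 (h x _ _ i w l m)

end Groth.Misc10.IsoNat
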