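import Groth.Agent.Misc10.IsoNat.ValSpaces
import Groth.Agent.Misc10.IsoNat.ValClasses
import Groth.Agent.Misc10.IsoNat.AffineCharts
import Groth.Agent.AlgStBasic.SpaceProps
import Groth.Agent.AlgStBasic.DiagCalc
import Groth.Agent.StkGerb.GerbeApps
import Groth.Agent.AlgStBasic.SpaceCalc

/-!
# The extension criterion for sections of pullbacks of diagonals
-/

set_option autoImplicit false
set_option backward.isDefEq.respectTransparency false
set_option backward.isDefEq.respectTransparency.types false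

universe u

open CategoryTheory CategoryTheory.Limits AlgebraicGeometry
open Groth.StkBase

noncomputable section

namespace Groth.Misc10.IsoNat

variable {S : Scheme.{u}} {𝒳 𝒴 : AlgSt.Cat S} {U : Over S}

/-- The point of the slice of a fibre object. -/
def obase {T : Over S} (o : (FibCat.overCat U).p.Fiber T) : T ⟶ U :=
  eqToHom o.2.symm ≫ o.1.hom

/-- The fibre object of a point of the slice. -/
@[reducible] def mkO {T : Over S} (c : T ⟶ U) : (FibCat.overCat U).p.Fiber T := ⟨Over.mk c, rfl⟩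

theorem obase_mkO {T : Over S} (c : T ⟶ U) : obase (mkO c) = c := Category.id_comp c

/-- The lift in the slice between compatible points. -/
def overLift {T' T : Over S} (k : T' ⟶ T) {o' : (FibCat.overCat U).p.Fiber T'}
    {o : (FibCat.overCat U).p.Fiber T} (h : k ≫ obase o = obase o') : Lift k o' o :=
  ⟨Over.homMk (eqToHom o'.2 ≫ k ≫ eqToHom o.2.symm) (by
      simp only [Category.assoc]
      rw [show k ≫ eqToHom o.2.symm ≫ o.1.hom = k ≫ obase o from rfl, h]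
      exact eqToHom_trans_assoc _ _ _),
    IsHomLift.of_fac' (FibCat.overCat U).p k _ o'.2 o.2 rfl⟩

theorem obase_of_lift {T' T : Over S} {k : T' ⟶ T} {o' : (FibCat.overCat U).p.Fiber T'}
    {o : (FibCat.overCat U).p.Fiber T} (L : Lift k o' o) : k ≫ obase o = obase o' := by
  have hw := Over.w L.1
  rw [show L.1.left = _ from L.map_eq] at hw
  simp only [obase]
  rw [← hw]
  simp

theorem overLift_unique {T' T : Over S} {k : T' ⟶ T} {o' : (FibCat.overCat U).p.Fiber T'}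
    {o : (FibCat.overCat U).p.Fiber T} (L L' : Lift k o' o) : L = L' :=
  Subtype.ext (Over.OverMorphism.ext (L.map_eq.trans L'.map_eq.symm))

section Fp

variable {𝒵 𝒲 : AlgSt.Cat S} {v : 𝒲 ⥤ᵇ 𝒵} {g : 𝒳 ⥤ᵇ 𝒵}

/-- The first component of a fibre object of a fibre product. -/
abbrev fstO {T : Over S} (o : (FibCat.fp v g).p.Fiber T) : 𝒲.p.Fiber T :=
  (IsoNat.fibFun (FibCat.fpFst v g) T).obj o

/-- The second component of a fibre object of a fibre product. -/
abbrev sndO {T : Over S} (o : (FibCat.fp v g).p.Fiber T) : 𝒳.p.Fiber T :=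
  (IsoNat.fibFun (FibCat.fpSnd v g) T).obj o

/-- The comparison of the two components. -/
def compO {T : Over S} (o : (FibCat.fp v g).p.Fiber T) :
    (IsoNat.fibFun v T).obj (fstO o) ⟶ (IsoNat.fibFun g T).obj (sndO o) :=
  ⟨o.1.obj.iso.hom, (fp_isVert o.1).isHomLift ((v.w_obj _).trans o.2)⟩

/-- A lift in a fibre product from lifts of the components. -/
def pairLift {T' T : Over S} {k : T' ⟶ T} {o' : (FibCat.fp v g).p.Fiber T'}
    {o : (FibCat.fp v g).p.Fiber T} (a : Lift k (fstO o') (fstO o)) (b : Lift k (sndO o') (sndO o))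
    (h : v.map a.1 ≫ o.1.obj.iso.hom = o'.1.obj.iso.hom ≫ g.map b.1) : Lift k o' o :=
  ⟨fpHom a.1 b.1 h, IsHomLift.of_fac' (FibCat.fp v g).p k _ o'.2 o.2 a.map_eq⟩

/-- A fibre object of a fibre product. -/
def mkFp {T : Over S} (a : 𝒲.p.Fiber T) (b : 𝒳.p.Fiber T)
    (i : (IsoNat.fibFun v T).obj a ≅ (IsoNat.fibFun g T).obj b) : (FibCat.fp v g).p.Fiber T :=
  ⟨fpMk a.1 b.1 (Functor.Fiber.fiberInclusion.mapIso i) (isVert_of_isHomLift i.hom.2), a.2⟩

end Fp

section Core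

variable {f : 𝒳 ⥤ᵇ 𝒴} (y : FibCat.overCat U ⥤ᵇ FibCat.fp f f)

/-- The diagonal object of a fibre object. -/
abbrev diagO (f : 𝒳 ⥤ᵇ 𝒴) {T : Over S} (w : 𝒳.p.Fiber T) : (FibCat.fp f f).p.Fiber T :=
  (IsoNat.fibFun (FibCat.diag f) T).obj w

/-- The object of a chart at a point. -/
abbrev atO {T : Over S} (t : T ⟶ U) : (FibCat.fp f f).p.Fiber T :=
  (IsoNat.fibFun y T).obj (mkO t)

/-- The lift to the object of the chart attached to a point of the pullback of the diagonal. -/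
def ptLift (hX : FibCat.IsFibGrpd 𝒳.p) (hY : FibCat.IsFibGrpd 𝒴.p) {T' T : Over S} {k : T' ⟶ T}
    (z : (FibCat.fp y (FibCat.diag f)).p.Fiber T') {o : (FibCat.overCat U).p.Fiber T}
    (φ : Lift k (fstO z) o) : Lift k (diagO f (sndO z)) ((IsoNat.fibFun y T).obj o) :=
  Lift.comp ((fiberIso (isFibGrpd_fp (F := f) (G := f) hX hX hY) (compO z)).inv : Lift (𝟙 T') _ _)
    (mapLift y φ) (Category.id_comp k)

theorem compO_inv_val (hX : FibCat.IsFibGrpd 𝒳.p) (hY : FibCat.IsFibGrpd 𝒴.p) {T : Over S}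
    (z : (FibCat.fp y (FibCat.diag f)).p.Fiber T) :
    (fiberIso (isFibGrpd_fp (F := f) (G := f) hX hX hY) (compO z)).inv.1 = z.1.obj.iso.inv := by
  rw [← cancel_epi z.1.obj.iso.hom, Iso.hom_inv_id]
  exact congrArg Subtype.val (fiberIso (isFibGrpd_fp (F := f) (G := f) hX hX hY) (compO z)).hom_inv_id

theorem ptLift_val (hX : FibCat.IsFibGrpd 𝒳.p) (hY : FibCat.IsFibGrpd 𝒴.p) {T' T : Over S}
    {k : T' ⟶ T} (z : (FibCat.fp y (FibCat.diag f)).p.Fiber T')
    {o : (FibCat.overCat U).p.Fiber T} (φ : Lift k (fstO z) o) :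
    (ptLift y hX hY z φ).1 = z.1.obj.iso.inv ≫ y.map φ.1 :=
  congrArg (· ≫ y.map φ.1) (compO_inv_val y hX hY z)

theorem ptLift_natural (hX : FibCat.IsFibGrpd 𝒳.p) (hY : FibCat.IsFibGrpd 𝒴.p) {T'' T' T : Over S}
    {l : T'' ⟶ T'} {k : T' ⟶ T} {m : T'' ⟶ T} {z' : (FibCat.fp y (FibCat.diag f)).p.Fiber T''}
    {z : (FibCat.fp y (FibCat.diag f)).p.Fiber T'} (L : Lift l z' z)
    {o : (FibCat.overCat U).p.Fiber T} (φ : Lift k (fstO z) o) (h : l ≫ k = m) :
    (FibCat.diag f).map (mapLift (FibCat.fpSnd y (FibCat.diag f)) L).1 ≫ (ptLift y hX hY z φ).1 =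
      (ptLift y hX hY z' ((mapLift (FibCat.fpFst y (FibCat.diag f)) L).comp φ h)).1 := by
  rw [ptLift_val, ptLift_val]
  have hw : y.map L.1.hom.fst ≫ z.1.obj.iso.hom = z'.1.obj.iso.hom ≫ (FibCat.diag f).map L.1.hom.snd :=
    L.1.hom.w
  show (FibCat.diag f).map L.1.hom.snd ≫ _ = z'.1.obj.iso.inv ≫ y.map (L.1.hom.fst ≫ φ.1)
  rw [y.toFunctor.map_comp, ← Category.assoc, ← Category.assoc]
  congr 1
  rw [Iso.comp_inv_eq, Category.assoc, hw, Iso.inv_hom_id_assoc]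

variable {F : AlgSp.Sp S} (e : AlgSt.ofSp F ⥤ᵇ FibCat.fp y (FibCat.diag f))

theorem sec_comp_eq {T : Over S} (r : (AlgSp.yon S).obj T ⟶ F)
    {z : (FibCat.fp y (FibCat.diag f)).p.Fiber T} (hz : IsoNat.cls z = secCls e r) :
    r ≫ AlgSt.spMapOfOver (BasedFunctor.comp e (FibCat.fpFst y (FibCat.diag f))) =
      (AlgSp.yon S).map (obase (fstO z)) := by
  rw [secCls_clsBase, ← hz]
  rfl

/-- A lift over the valuation ring of a point over the open piece exists when sections extend. -/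
theorem exists_extLift_of_weakVal (hX : FibCat.IsFibGrpd 𝒳.p) (hY : FibCat.IsFibGrpd 𝒴.p)
    (he : FibCat.IsEquivOver e)
    (hq : WeakVal (AlgSt.spMapOfOver (BasedFunctor.comp e (FibCat.fpFst y (FibCat.diag f)))))
    (x : ValTest S) (t : x.V ⟶ U) {w : 𝒳.p.Fiber x.W} (M : Lift x.j (diagO f w) (atO y t)) :
    ∃ (e' : x.Ext) (x' : 𝒳.p.Fiber e'.test.V) (M' : Lift e'.π (diagO f x') (atO y t))
      (w' : 𝒳.p.Fiber e'.test.W) (lw : Lift e'.πW w' w) (l' : Lift e'.test.j w' x'),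
      (FibCat.diag f).map l'.1 ≫ M'.1 = (FibCat.diag f).map lw.1 ≫ M.1 := by
  have hP := isFibGrpd_fp (F := f) (G := f) hX hX hY
  have hZ : FibCat.IsFibGrpd (FibCat.fp y (FibCat.diag f)).p :=
    isFibGrpd_fp (F := y) (G := FibCat.diag f) (isFibGrpd_overCat U) hX hP
  let φ₀ : Lift x.j (mkO (x.j ≫ t)) (mkO t) := overLift x.j (by rw [obase_mkO, obase_mkO])
  let A : diagO f w ⟶ (IsoNat.fibFun y x.W).obj (mkO (x.j ≫ t)) :=
    fac hP (mapLift y φ₀) M (𝟙 _) (Category.id_comp _)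
  have hA : A.1 ≫ y.map φ₀.1 = M.1 := fac_comp hP (mapLift y φ₀) M (𝟙 _) (Category.id_comp _)
  let zg : (FibCat.fp y (FibCat.diag f)).p.Fiber x.W :=
    mkFp (mkO (x.j ≫ t)) w (fiberIso hP A).symm
  have hM : (ptLift y hX hY zg (o := mkO t) φ₀).1 = M.1 := by
    rw [ptLift_val]
    exact hA
  obtain ⟨g, hg⟩ := (secCls_bijective e hZ he x.W).surjective (IsoNat.cls zg)
  obtain ⟨e', h, hh₁, hh₂⟩ := hq x t g (by
    rw [sec_comp_eq y e g hg.symm]
    exact congrArg (AlgSp.yon S).map (obase_mkO _))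
  obtain ⟨zh, hzh⟩ := exists_cls (secCls e h)
  have hbase : obase (fstO zh) = e'.π ≫ t :=
    (AlgSp.yon S).map_injective ((sec_comp_eq y e h hzh).symm.trans hh₁)
  let φh : Lift e'.π (fstO zh) (mkO t) := overLift e'.π (by rw [obase_mkO, hbase])
  let z' := pullObj hZ e'.πW zg
  let L₂ := pullLift hZ e'.πW zg
  have hz' : IsoNat.cls z' = IsoNat.cls (pullObj hZ e'.test.j zh) := by
    rw [← pullCls_cls', ← pullCls_cls', ← hg, hzh, pullCls_secCls, pullCls_secCls, hh₂]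
  obtain ⟨i⟩ := cls_eq_iff.1 hz'
  let L₁ : Lift e'.test.j z' zh :=
    Lift.comp (i.hom : Lift (𝟙 _) _ _) (pullLift hZ e'.test.j zh) (Category.id_comp _)
  refine ⟨e', sndO zh, ptLift y hX hY zh φh, sndO z', mapLift (FibCat.fpSnd _ _) L₂,
    mapLift (FibCat.fpSnd _ _) L₁, ?_⟩
  rw [ptLift_natural y hX hY L₁ φh rfl, ← hM,
    ptLift_natural y hX hY L₂ φ₀ (e'.πW_j : _ = e'.test.j ≫ e'.π)]
  exact congrArg (fun p => (ptLift y hX hY z' p).1) (overLift_unique _ _)

/-- Sections of a pullback of the diagonal extend when the isomorphisms do. -/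
theorem weakVal_of_extends (hX : FibCat.IsFibGrpd 𝒳.p) (hY : FibCat.IsFibGrpd 𝒴.p)
    (huniq : ∀ ⦃V W : Over S⦄ (k : W ⟶ V), IsSchDominant k.left → ∀ {y₁ y₂ : 𝒴.p.Fiber V}
      (u v : y₁ ⟶ y₂) {w : 𝒴.p.Fiber W} (l : Lift k w y₁), l.1 ≫ u.1 = l.1 ≫ v.1 → u = v)
    (he : FibCat.IsEquivOver e)
    (hext : ∀ (x : ValTest S) (t : x.V ⟶ U) (w : 𝒳.p.Fiber x.W)
      (M : Lift x.j (diagO f w) (atO y t)),
      Extends x (mapLift (FibCat.fpFst f f) M : Lift x.j w (fstO (atO y t)))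
        (mapLift (FibCat.fpSnd f f) M : Lift x.j w (sndO (atO y t)))) :
    WeakVal (AlgSt.spMapOfOver (BasedFunctor.comp e (FibCat.fpFst y (FibCat.diag f)))) := by
  have hP := isFibGrpd_fp (F := f) (G := f) hX hX hY
  have hZ : FibCat.IsFibGrpd (FibCat.fp y (FibCat.diag f)).p :=
    isFibGrpd_fp (F := y) (G := FibCat.diag f) (isFibGrpd_overCat U) hX hP
  intro x t g hg
  obtain ⟨zg, hzg⟩ := exists_cls (secCls e g)
  have hbg : obase (fstO zg) = x.j ≫ t :=
    (AlgSp.yon S).map_injective ((sec_comp_eq y e g hzg).symm.trans hg)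
  let φg : Lift x.j (fstO zg) (mkO t) := overLift x.j (by rw [obase_mkO, hbg])
  let M := ptLift y hX hY zg φg
  obtain ⟨e', x', p, q, w', lw, l', hp, hq⟩ := hext x t (sndO zg) M
  have hb : f.map M.1.hom.fst ≫ (atO y t).1.obj.iso.hom = 𝟙 _ ≫ f.map M.1.hom.snd := M.1.hom.w
  rw [Category.id_comp] at hb
  -- compatibility over the base
  have hpq : f.map p.1 ≫ (atO y t).1.obj.iso.hom = 𝟙 _ ≫ f.map q.1 := by
    rw [Category.id_comp]
    let P := pullLift hY e'.π ((IsoNat.fibFun f x.V).obj (sndO (atO y t)))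
    let u : (IsoNat.fibFun f _).obj x' ⟶ pullObj hY e'.π _ :=
      fac hY P ((mapLift f p).comp (compO (atO y t) : Lift (𝟙 _) _ _) (Category.comp_id _)) (𝟙 _)
        (Category.id_comp _)
    let v : (IsoNat.fibFun f _).obj x' ⟶ pullObj hY e'.π _ :=
      fac hY P (mapLift f q) (𝟙 _) (Category.id_comp _)
    have hu : u.1 ≫ P.1 = f.map p.1 ≫ (atO y t).1.obj.iso.hom :=
      fac_comp hY P ((mapLift f p).comp (compO (atO y t) : Lift (𝟙 _) _ _) (Category.comp_id _)) (𝟙 _)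
        (Category.id_comp _)
    have hv : v.1 ≫ P.1 = f.map q.1 := fac_comp hY P (mapLift f q) (𝟙 _) (Category.id_comp _)
    rw [← hu, ← hv]
    suffices u = v by rw [this]
    refine huniq _ e'.test.isSchDominant_j u v (mapLift f l') ?_
    refine congrArg Subtype.val (Lift.hom_ext hY P
      (χ := (mapLift f l').comp (u : Lift (𝟙 _) _ _) (Category.comp_id _))
      (χ' := (mapLift f l').comp (v : Lift (𝟙 _) _ _) (Category.comp_id _)) ?_)
    simp only [Lift.comp_val, Category.assoc, hu, hv]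
    show f.map l'.1 ≫ f.map p.1 ≫ _ = f.map l'.1 ≫ f.map q.1
    rw [← f.toFunctor.map_comp_assoc, hp, ← f.toFunctor.map_comp, hq, f.toFunctor.map_comp,
      f.toFunctor.map_comp, Category.assoc]
    exact congrArg (f.map lw.1 ≫ ·) hb
  let M' : Lift e'.π (diagO f x') (atO y t) := pairLift p q hpq
  let φ₁ : Lift e'.π (mkO (e'.π ≫ t)) (mkO t) := overLift e'.π (by rw [obase_mkO, obase_mkO])
  let A : diagO f x' ⟶ (IsoNat.fibFun y e'.test.V).obj (mkO (e'.π ≫ t)) :=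
    fac hP (mapLift y φ₁) M' (𝟙 _) (Category.id_comp _)
  have hA : A.1 ≫ y.map φ₁.1 = M'.1 := fac_comp hP (mapLift y φ₁) M' (𝟙 _) (Category.id_comp _)
  let zh : (FibCat.fp y (FibCat.diag f)).p.Fiber e'.test.V :=
    mkFp (mkO (e'.π ≫ t)) x' (fiberIso hP A).symm
  obtain ⟨h, hh⟩ := (secCls_bijective e hZ he e'.test.V).surjective (IsoNat.cls zh)
  refine ⟨e', h, (sec_comp_eq y e h hh.symm).trans
    (congrArg (AlgSp.yon S).map (obase_mkO _)), ?_⟩
  apply (secCls_bijective e hZ he e'.test.W).injective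
  rw [← pullCls_secCls e hZ, ← pullCls_secCls e hZ, hh, ← hzg, pullCls_cls' hZ _ zg]
  let z' := pullObj hZ e'.πW zg
  let L₂ := pullLift hZ e'.πW zg
  let u₂ : Lift e'.πW (sndO z') (sndO zg) := mapLift (FibCat.fpSnd _ _) L₂
  let i : sndO z' ⟶ w' := fac hX lw u₂ (𝟙 _) (Category.id_comp _)
  have hi : i.1 ≫ lw.1 = u₂.1 := fac_comp hX lw u₂ (𝟙 _) (Category.id_comp _)
  let a : Lift e'.test.j (fstO z') (mkO (e'.π ≫ t)) := overLift e'.test.j (by
    rw [obase_mkO, ← Category.assoc, ← e'.πW_j, Category.assoc, ← hbg,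
      obase_of_lift (mapLift (FibCat.fpFst _ _) L₂)])
  let b : Lift e'.test.j (sndO z') x' :=
    Lift.comp (i : Lift (𝟙 _) _ _) l' (Category.id_comp _)
  have hdiag : (mapLift (FibCat.diag f) b).1 ≫ M'.1 = (FibCat.diag f).map u₂.1 ≫ M.1 := by
    refine fp_hom_ext ?_ ?_
    · show (i.1 ≫ l'.1) ≫ p.1 = u₂.1 ≫ M.1.hom.fst
      rw [← hi, Category.assoc, Category.assoc]
      exact congrArg (i.1 ≫ ·) hp
    · show (i.1 ≫ l'.1) ≫ q.1 = u₂.1 ≫ M.1.hom.snd
      rw [← hi, Category.assoc, Category.assoc]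
      exact congrArg (i.1 ≫ ·) hq
  have hw : y.map a.1 ≫ zh.1.obj.iso.hom = z'.1.obj.iso.hom ≫ (FibCat.diag f).map b.1 := by
    refine congrArg Subtype.val (Lift.hom_ext hP M'
      (χ := (mapLift y a).comp (compO zh : Lift (𝟙 _) _ _) (Category.comp_id _))
      (χ' := Lift.comp (compO z' : Lift (𝟙 _) _ _) (mapLift (FibCat.diag f) b) (Category.id_comp _)) ?_)
    have h₁ : zh.1.obj.iso.hom ≫ M'.1 = y.map φ₁.1 := by
      rw [← hA]
      show (fiberIso hP A).inv.1 ≫ A.1 ≫ _ = _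
      rw [← Category.assoc]
      exact (congrArg (· ≫ y.map φ₁.1) (congrArg Subtype.val (fiberIso hP A).inv_hom_id)).trans
        (Category.id_comp _)
    simp only [Lift.comp_val, Category.assoc]
    show y.map a.1 ≫ zh.1.obj.iso.hom ≫ M'.1 = z'.1.obj.iso.hom ≫ (mapLift (FibCat.diag f) b).1 ≫ M'.1
    rw [h₁, hdiag, ptLift_natural y hX hY L₂ φg (e'.πW_j : _ = e'.test.j ≫ e'.π), ptLift_val,
      Iso.hom_inv_id_assoc, ← y.toFunctor.map_comp]
    exact congrArg (fun r => y.map r.1) (overLift_unique (a.comp φ₁ rfl) _)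
  exact pullCls_cls hZ (pairLift a b hw)

end Core

/-- Isomorphisms with compatible image extend when the diagonal is universally closed and separated. -/
theorem extends_of_proper (hX : FibCat.IsFibGrpd 𝒳.p) (hY : FibCat.IsFibGrpd 𝒴.p) {f : 𝒳 ⥤ᵇ 𝒴}
    (hf : AlgSt.RepByAlgSpWith AlgSp.IsProperMor (FibCat.diag f)) (x : ValTest S)
    (xf xt : 𝒳.p.Fiber x.V) (b : (IsoNat.fibFun f x.V).obj xf ⟶ (IsoNat.fibFun f x.V).obj xt)
    (w : 𝒳.p.Fiber x.W) (l : Lift x.j w xf) (m : Lift x.j w xt)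
    (h : f.map l.1 ≫ b.1 = f.map m.1) : Extends x l m := by
  have hP := isFibGrpd_fp (F := f) (G := f) hX hX hY
  let o : (FibCat.fp f f).p.Fiber x.V := mkFp xf xt (fiberIso hY b)
  obtain ⟨i, hi⟩ := overFunctor_eval hP o.1 o.2
  let y := overFunctor hP o.1 o.2
  let iF : atO y (𝟙 x.V) ⟶ o := ⟨i.hom, hi.isHomLift (y.w_obj _)⟩
  let M₀ : Lift x.j (diagO f w) o := pairLift l m (h.trans (Category.id_comp _).symm)
  let M : Lift x.j (diagO f w) (atO y (𝟙 x.V)) :=
    M₀.comp ((fiberIso hP iF).inv : Lift (𝟙 _) _ _) (Category.comp_id _)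
  obtain ⟨F, e, he, hq⟩ := hf x.V y
  obtain ⟨e', x', M', w', lw, l', hc⟩ := exists_extLift_of_weakVal y e hX hY he
    (weakVal_of_isProperMor F.property hq) x (𝟙 _) M
  let N : Lift e'.π (diagO f x') o := M'.comp (iF : Lift (𝟙 _) _ _) (Category.comp_id _)
  have hN : (FibCat.diag f).map l'.1 ≫ N.1 = (FibCat.diag f).map lw.1 ≫ M₀.1 := by
    show _ ≫ M'.1 ≫ iF.1 = _
    rw [reassoc_of% hc]
    have hii : (fiberIso hP iF).inv.1 ≫ iF.1 = 𝟙 _ :=
      congrArg Subtype.val (fiberIso hP iF).inv_hom_id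
    show (FibCat.diag f).map lw.1 ≫ (M₀.1 ≫ (fiberIso hP iF).inv.1) ≫ iF.1 = _
    rw [Category.assoc, hii]
    exact congrArg ((FibCat.diag f).map lw.1 ≫ ·) (Category.comp_id _)
  exact ⟨e', x', mapLift (FibCat.fpFst f f) N, mapLift (FibCat.fpSnd f f) N, w', lw, l',
    congrArg (fun k => k.hom.fst) hN, congrArg (fun k => k.hom.snd) hN⟩

/-- Fibres of the base over itself are thin. -/
theorem fiber_selfOver_subsingleton {T : Over S} {a b : (FibCat.selfOver (Over S)).p.Fiber T}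
    (u v : a ⟶ b) : u = v :=
  Subtype.ext ((Lift.map_eq (u : Lift (𝟙 T) a b)).trans (Lift.map_eq (v : Lift (𝟙 T) a b)).symm)

/-- Automorphisms extend when the inertia is proper. -/
theorem critAut_of_proper_inertia (hS : Stk.IsStack (AlgSp.J S) 𝒳)
    (h : AlgSt.RepByAlgSpWith AlgSp.IsProperMor (FibCat.inertiaToBase (FibCat.toSelf 𝒳))) :
    CritAut (isPrestack_of_isStack hS).1 := by
  refine (critAut_iff_extends hS).2 fun x xf xt i w l m => ?_
  have hX := (isPrestack_of_isStack hS).1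
  have hY : FibCat.IsFibGrpd (FibCat.selfOver (Over S)).p := Groth.StkBase.isFibGrpd_selfOver
  have hP := isFibGrpd_fp (F := FibCat.toSelf 𝒳) (G := FibCat.toSelf 𝒳) hX hX hY
  obtain ⟨E₀, hE₀, eE⟩ := Groth.StkGerb.exists_inertia_equiv (FibCat.toSelf 𝒳)
  rw [← eE] at h
  let D := FibCat.diag (FibCat.toSelf 𝒳)
  obtain ⟨j, hj⟩ := overFunctor_eval hX xf.1 xf.2
  let v := overFunctor hX xf.1 xf.2
  obtain ⟨F, e, he, hq⟩ := h x.V v
  let E := BasedFunctor.comp (BasedFunctor.comp e (fpPre (BasedFunctor.id _) E₀ v (FibCat.fpFst D D)))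
    (fpPaste v D D)
  have hE : FibCat.IsEquivOver E :=
    isEquivOver_comp (isEquivOver_comp he (isEquivOver_fpPre (isEquivOver_id _) hE₀ _ _))
      (isEquivOver_fpPaste v D D)
  have hq' : WeakVal (AlgSt.spMapOfOver
      (BasedFunctor.comp E (FibCat.fpFst (BasedFunctor.comp v D) D))) := by
    rw [Groth.AlgStBasic.spMapOfOver_congr (Φ := BasedFunctor.comp E (FibCat.fpFst (BasedFunctor.comp v D) D))
      (Ψ := BasedFunctor.comp e (FibCat.fpFst v
      (BasedFunctor.comp E₀ (FibCat.fpFst D D)))) (Iso.refl _)]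
    exact weakVal_of_isProperMor F.property hq
  let jF : (IsoNat.fibFun v x.V).obj (mkO (𝟙 x.V)) ⟶ xf := ⟨j.hom, hj.isHomLift (v.w_obj _)⟩
  let oF : atO (BasedFunctor.comp v D) (𝟙 x.V) ⟶ diagO (FibCat.toSelf 𝒳) xf :=
    (IsoNat.fibFun D x.V).map jF
  let M₀ : Lift x.j (diagO (FibCat.toSelf 𝒳) w) (diagO (FibCat.toSelf 𝒳) xf) :=
    pairLift l (m.comp (i.inv : Lift (𝟙 _) _ _) (Category.comp_id _))
      ((Category.comp_id _).trans ((l.map_eq.trans
        (m.comp (i.inv : Lift (𝟙 _) _ _) (Category.comp_id _)).map_eq.symm).trans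
          (Category.id_comp _).symm))
  let M : Lift x.j (diagO (FibCat.toSelf 𝒳) w) (atO (BasedFunctor.comp v D) (𝟙 x.V)) :=
    M₀.comp ((fiberIso hP oF).inv : Lift (𝟙 _) _ _) (Category.comp_id _)
  obtain ⟨e', x', M', w', lw, l', hc⟩ :=
    exists_extLift_of_weakVal (BasedFunctor.comp v D) E hX hY hE hq' x (𝟙 _) M
  let N : Lift e'.π (diagO (FibCat.toSelf 𝒳) x') (diagO (FibCat.toSelf 𝒳) xf) :=
    M'.comp (oF : Lift (𝟙 _) _ _) (Category.comp_id _)
  have hN : D.map l'.1 ≫ N.1 = D.map lw.1 ≫ M₀.1 := by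
    show _ ≫ M'.1 ≫ oF.1 = _
    rw [reassoc_of% hc]
    have hii : (fiberIso hP oF).inv.1 ≫ oF.1 = 𝟙 _ :=
      congrArg Subtype.val (fiberIso hP oF).inv_hom_id
    show D.map lw.1 ≫ (M₀.1 ≫ (fiberIso hP oF).inv.1) ≫ oF.1 = _
    rw [Category.assoc, hii]
    exact congrArg (D.map lw.1 ≫ ·) (Category.comp_id _)
  refine ⟨e', x', mapLift (FibCat.fpFst _ _) N,
    (mapLift (FibCat.fpSnd (FibCat.toSelf 𝒳) (FibCat.toSelf 𝒳)) N : Lift e'.π x' xf).comp
      (i.hom : Lift (𝟙 _) _ _) (Category.comp_id _), w', lw, l',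
    congrArg (fun k => k.hom.fst) hN, ?_⟩
  have hs : l'.1 ≫ N.1.hom.snd = lw.1 ≫ m.1 ≫ i.inv.1 := congrArg (fun k => k.hom.snd) hN
  show l'.1 ≫ N.1.hom.snd ≫ i.hom.1 = lw.1 ≫ m.1
  rw [reassoc_of% hs]
  refine congrArg (lw.1 ≫ ·) ?_
  exact (congrArg (m.1 ≫ ·) (congrArg Subtype.val i.inv_hom_id)).trans (Category.comp_id _)

open Groth.AlgStBasic in
/-- A morphism of algebraic stacks satisfying the gluing criterion is separated. -/
theorem isSeparatedMor_of_glueCrit (hX : AlgSt.IsAlgStack Scheme.fppfPrecoverage 𝒳)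
    (hXd : AlgSt.RepByAlgSpWith (AlgSp.IsSeparatedMor ⊓ AlgSp.IsQuasiCompactMor)
      (FibCat.diag (FibCat.toSelf 𝒳)))
    (hY : AlgSt.IsAlgStack Scheme.fppfPrecoverage 𝒴)
    (hYd : AlgSt.RepByAlgSpWith (AlgSp.IsSeparatedMor ⊓ AlgSp.IsQuasiCompactMor)
      (FibCat.diag (FibCat.toSelf 𝒴)))
    (f : 𝒳 ⥤ᵇ 𝒴)
    (hc : GlueCrit (isPrestack_of_isStack hX.isStack).1 (isPrestack_of_isStack hY.isStack).1 f) :
    AlgSt.IsSeparatedMor f := by
  have pX := isPrestack_of_isStack hX.isStack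
  have pY := isPrestack_of_isStack hY.isStack
  have hP := isFibGrpd_fp (F := f) (G := f) pX.1 pX.1 pY.1
  have hdf := repByAlgSp1_diag_of_diag pX.1 pY.1 hX.diag hY.diag f
  have hcomp : AlgSt.RepByAlgSpWith (AlgSp.IsSeparatedMor ⊓ AlgSp.IsQuasiCompactMor)
      (BasedFunctor.comp (FibCat.diag f) (fpPost f f (FibCat.toSelf 𝒴))) := by
    let T := BasedFunctor.comp f (FibCat.toSelf 𝒴)
    let σ : FibCat.toSelf 𝒳 ≅ T := Groth.StkBase.selfIso _ _
    refine repWith_of_iso ((nonempty_diag_comp_iso f (FibCat.toSelf 𝒴)).some).symm ?_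
    refine repWith_of_iso (f := BasedFunctor.comp (FibCat.diag (FibCat.toSelf 𝒳)) (fpCongr σ σ))
      ?_ ((repWith_postcomp_equiv _ (isEquivOver_fpCongr σ σ)).2 hXd)
    exact fpIsoMk (Iso.refl _) (Iso.refl _) fun _ =>
      self_ext ((isVert_map (isVert_id _)).comp (fp_isVert _))
        ((fp_isVert _).comp (isVert_map (isVert_id _)))
  have hpost : AlgSt.RepByAlgSpWith (AlgSp.IsSeparatedMor ⊓ AlgSp.IsQuasiCompactMor)
      (fpPost (F := f) (G := f) (FibCat.toSelf 𝒴)) := repWith_fpPost hYd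
  have hsq : AlgSt.RepByAlgSpWith (AlgSp.IsSeparatedMor ⊓ AlgSp.IsQuasiCompactMor) (FibCat.diag f) :=
    repWith_of_comp_cancel' pX.1 hP (stableBaseChange_inf stableBaseChange_sep stableBaseChange_qc)
      (stableBaseChange_inf stableBaseChange_sep stableBaseChange_qc)
      (fun _ _ _ h₁ h₂ h₃ a b hb hab => ⟨cancelRight_diagWith _ h₁ h₂ h₃ a b hab.1,
        Groth.AlgSpBasic.isQuasiCompactMor_of_cancel h₁ h₂ h₃ hab.2 (qs_of_sep hb.1)⟩)
      hdf hpost hcomp
  have hlft := repWith_lft_diag hX hY f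
  have hfp := isAlgStack_fp hY.isStack hY.diag hX hX f f
  refine repWith_of_affine_charts hfp stableBaseChange_proper isLocalOnBase_fppf_proper hdf
    fun A _ v _ F e he => ?_
  have h₁ := prop_of_repWith_fp (stableBaseChange_inf stableBaseChange_sep stableBaseChange_qc)
    hsq v F e he
  have h₂ := prop_of_repWith_fp stableBaseChange_locP hlft v F e he
  refine ⟨h₁.1, ⟨h₂, h₁.2⟩, isUnivClosedMor_of_weakVal F.property h₂ h₁.2 ?_⟩
  refine weakVal_of_extends v e pX.1 pY.1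
    (fun _ _ k hk _ _ u u' _ l h => fiber_hom_eq_of_dominant pY.1 pY hYd hk l h) he fun x t w M => ?_
  exact (glueCrit_iff hX.isStack hY.isStack f).1 hc x _ _ (compO (atO v t)) w _ _
    (M.1.hom.w.trans (Category.id_comp _))

end Groth.Misc10.IsoNat
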