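import Groth.Agent.Misc10.IsoNat.Model
import Mathlib.AlgebraicGeometry.Morphisms.FiniteType
import Mathlib.AlgebraicGeometry.ValuativeCriterion

/-!
# Valuation rings punctured at an element
-/

set_option autoImplicit false
set_option backward.isDefEq.respectTransparency false
set_option backward.isDefEq.respectTransparency.types false

universe u

open CategoryTheory CategoryTheory.Limits AlgebraicGeometry

noncomputable section

namespace Groth.Misc10.IsoNat

variable {S : Scheme.{u}}

/-- A valuation ring over the base with a non-zero element. -/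
structure ValTest (S : Scheme.{u}) where
  /-- the ring -/
  R : Type u
  [commRing : CommRing R]
  [isDomain : IsDomain R]
  [valuationRing : ValuationRing R]
  /-- the element -/
  a : R
  ha : a ≠ 0
  /-- the structure morphism -/
  str : Spec (CommRingCat.of R) ⟶ S

attribute [instance] ValTest.commRing ValTest.isDomain ValTest.valuationRing

namespace ValTest

variable (x : ValTest S)

/-- The spectrum of the valuation ring. -/
def V : Over S := Over.mk x.str

/-- The open piece where the element is invertible. -/
def W : Over S := Over.mk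
  (Spec.map (CommRingCat.ofHom (algebraMap x.R (Localization.Away x.a))) ≫ x.str)

/-- The inclusion of the open piece. -/
def j : x.W ⟶ x.V :=
  Over.homMk (Spec.map (CommRingCat.ofHom (algebraMap x.R (Localization.Away x.a)))) rfl

theorem j_left : x.j.left = Spec.map (CommRingCat.ofHom (algebraMap x.R (Localization.Away x.a))) := rfl

instance isOpenImmersion_j : IsOpenImmersion x.j.left := by
  rw [x.j_left]
  exact IsOpenImmersion.of_isLocalization x.a

theorem j_mono {T : Over S} {u v : T ⟶ x.W} (h : u ≫ x.j = v ≫ x.j) : u = v :=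
  Over.OverMorphism.ext ((cancel_mono x.j.left).1 (congrArg CommaMorphism.left h))

/-- The generic point. -/
def gen : Over S :=
  Over.mk (Spec.map (CommRingCat.ofHom (algebraMap x.R (FractionRing x.R))) ≫ x.str)

/-- The map from the localisation to the fraction field. -/
def awayToFrac : Localization.Away x.a →+* FractionRing x.R :=
  IsLocalization.Away.lift x.a (g := algebraMap x.R (FractionRing x.R))
    (isUnit_iff_ne_zero.2 ((map_ne_zero_iff _ (IsFractionRing.injective x.R (FractionRing x.R))).2 x.ha))

theorem awayToFrac_comp :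
    x.awayToFrac.comp (algebraMap x.R (Localization.Away x.a)) = algebraMap x.R (FractionRing x.R) :=
  IsLocalization.Away.lift_comp _ _

theorem awayToFrac_injective : Function.Injective x.awayToFrac := by
  rw [injective_iff_map_eq_zero]
  intro z hz
  obtain ⟨⟨r, ⟨s, n, rfl⟩⟩, e⟩ := IsLocalization.surj (Submonoid.powers x.a) z
  have h := congrArg x.awayToFrac e
  rw [map_mul, hz, zero_mul, ← RingHom.comp_apply, awayToFrac_comp] at h
  have hr : r = 0 := IsFractionRing.injective x.R (FractionRing x.R) (by simpa using h.symm)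
  subst hr
  rw [map_zero] at e
  exact (IsUnit.mul_left_eq_zero
    (IsLocalization.map_units (Localization.Away x.a)
      (⟨x.a ^ n, n, rfl⟩ : Submonoid.powers x.a))).1 e

/-- The generic point in the open piece. -/
def genW : x.gen ⟶ x.W :=
  Over.homMk (Spec.map (CommRingCat.ofHom x.awayToFrac)) (by
    show Spec.map _ ≫ Spec.map _ ≫ x.str = Spec.map _ ≫ x.str
    rw [← Spec.map_comp_assoc, ← CommRingCat.ofHom_comp, awayToFrac_comp])

theorem genW_left : x.genW.left = Spec.map (CommRingCat.ofHom x.awayToFrac) := rfl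

/-- An extension of valuation rings. -/
structure Ext where
  /-- the larger ring -/
  R' : Type u
  [commRing : CommRing R']
  [isDomain : IsDomain R']
  [valuationRing : ValuationRing R']
  /-- the homomorphism -/
  φ : x.R →+* R'
  inj : Function.Injective φ
  isLocal : IsLocalHom φ

attribute [instance] Ext.commRing Ext.isDomain Ext.valuationRing

variable {x} (e : x.Ext)

/-- The extended test. -/
@[reducible] def Ext.test : ValTest S where
  R := e.R'
  a := e.φ x.a
  ha := fun h => x.ha (e.inj (h.trans (map_zero _).symm))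
  str := Spec.map (CommRingCat.ofHom e.φ) ≫ x.str

/-- The map of spectra. -/
def Ext.π : e.test.V ⟶ x.V := Over.homMk (Spec.map (CommRingCat.ofHom e.φ)) rfl

theorem Ext.π_left : e.π.left = Spec.map (CommRingCat.ofHom e.φ) := rfl

/-- The map of open pieces. -/
def Ext.πW : e.test.W ⟶ x.W :=
  Over.homMk (Spec.map (CommRingCat.ofHom
    (IsLocalization.Away.map (Localization.Away x.a) (Localization.Away (e.φ x.a)) e.φ x.a))) (by
      show Spec.map _ ≫ Spec.map _ ≫ x.str = Spec.map _ ≫ Spec.map _ ≫ x.str
      rw [← Spec.map_comp_assoc, ← Spec.map_comp_assoc, ← CommRingCat.ofHom_comp, ← CommRingCat.ofHom_comp]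
      congr 2
      apply congrArg CommRingCat.ofHom
      exact IsLocalization.map_comp _)

theorem Ext.πW_j : e.πW ≫ x.j = e.test.j ≫ e.π := by
  apply Over.OverMorphism.ext
  show Spec.map _ ≫ Spec.map _ = Spec.map _ ≫ Spec.map _
  rw [← Spec.map_comp, ← Spec.map_comp, ← CommRingCat.ofHom_comp, ← CommRingCat.ofHom_comp]
  congr 1
  apply congrArg CommRingCat.ofHom
  exact IsLocalization.map_comp _

end ValTest

theorem isSchDominant_spec {C C' : CommRingCat.{u}} (φ : C ⟶ C') (hφ : Function.Injective φ.hom) :
    IsSchDominant (Spec.map φ) :=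
  fun i _ ⟨l, hl⟩ => isIso_of_factors_spec φ hφ i l hl

theorem ValTest.isSchDominant_genW (x : ValTest S) : IsSchDominant x.genW.left :=
  isSchDominant_spec (CommRingCat.ofHom x.awayToFrac) x.awayToFrac_injective

theorem ValTest.isSchDominant_j (x : ValTest S) : IsSchDominant x.j.left :=
  isSchDominant_spec (CommRingCat.ofHom (algebraMap x.R (Localization.Away x.a)))
    (IsLocalization.injective (Localization.Away x.a) (powers_le_nonZeroDivisors_of_noZeroDivisors x.ha))

/-- A point with values in the fraction field of a valuation ring extends to an open piece when the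
target is affine and of finite type. -/
theorem exists_spread {P U : Scheme.{u}} [IsAffine P] [IsAffine U] (π : P ⟶ U) [LocallyOfFiniteType π]
    {K : Type u} [Field K] (A : ValuationSubring K) (xK : Spec (CommRingCat.of K) ⟶ P)
    (t : Spec (CommRingCat.of A) ⟶ U)
    (w : xK ≫ π = Spec.map (CommRingCat.ofHom A.subtype) ≫ t) :
    ∃ (b : A) (_ : b ≠ 0) (m : Spec (CommRingCat.of (Localization.Away b)) ⟶ P),
      m ≫ π = Spec.map (CommRingCat.ofHom (algebraMap A (Localization.Away b))) ≫ t ∧
      ∀ (g : Localization.Away b →+* K), g.comp (algebraMap A (Localization.Away b)) = A.subtype →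
        Spec.map (CommRingCat.ofHom g) ≫ m = xK := by
  -- reduce to spectra
  let eP := P.isoSpec
  let eU := U.isoSpec
  obtain ⟨ψ, hψ⟩ := Spec.map_surjective (xK ≫ eP.hom)
  obtain ⟨τ, hτ⟩ := Spec.map_surjective (t ≫ eU.hom)
  obtain ⟨ρ, hρ⟩ := Spec.map_surjective (eP.inv ≫ π ≫ eU.hom)
  have hft : ρ.hom.FiniteType := by
    have : LocallyOfFiniteType (Spec.map ρ) := by rw [hρ]; infer_instance
    exact (HasRingHomProperty.Spec_iff (P := @LocallyOfFiniteType)).1 this
  have hsq : ρ ≫ ψ = τ ≫ CommRingCat.ofHom A.subtype := by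
    apply Spec.map_injective
    rw [Spec.map_comp, Spec.map_comp, hψ, hρ, hτ]
    simp [reassoc_of% w]
  algebraize [ρ.hom]
  obtain ⟨s, hs⟩ := (show Algebra.FiniteType Γ(U, ⊤) Γ(P, ⊤) from hft).out
  classical
  obtain ⟨⟨b, hb⟩, hint⟩ := IsLocalization.exist_integer_multiples_of_finset
    (nonZeroDivisors A) (s.image ψ.hom)
  have hb0 : b ≠ 0 := nonZeroDivisors.ne_zero hb
  let L := Localization.Away b
  let g₀ : L →+* K := IsLocalization.Away.lift b (g := A.subtype)
    (isUnit_iff_ne_zero.2 fun h => hb0 (Subtype.ext h))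
  have hg₀ : g₀.comp (algebraMap A L) = A.subtype := IsLocalization.Away.lift_comp _ _
  have hg₀i : Function.Injective g₀ := by
    rw [injective_iff_map_eq_zero]
    intro z hz
    obtain ⟨⟨r, ⟨_, n, rfl⟩⟩, e⟩ := IsLocalization.surj (Submonoid.powers b) z
    have h := congrArg g₀ e
    rw [map_mul, hz, zero_mul, ← RingHom.comp_apply, hg₀] at h
    have hr : r = 0 := Subtype.ext h.symm
    subst hr
    rw [map_zero] at e
    exact (IsUnit.mul_left_eq_zero
      (IsLocalization.map_units L (⟨b ^ n, n, rfl⟩ : Submonoid.powers b))).1 e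
  have hrange : ∀ y, ψ.hom y ∈ g₀.range := by
    intro y
    have hy : y ∈ Algebra.adjoin Γ(U, ⊤) (↑s : Set Γ(P, ⊤)) := hs ▸ Algebra.mem_top
    induction hy using Algebra.adjoin_induction with
    | mem z hz =>
      obtain ⟨r, hr⟩ := hint (ψ.hom z) (Finset.mem_image_of_mem _ hz)
      refine ⟨IsLocalization.mk' L r (⟨b, 1, pow_one b⟩ : Submonoid.powers b), ?_⟩
      have e := congrArg g₀ (IsLocalization.mk'_spec L r (⟨b, 1, pow_one b⟩ : Submonoid.powers b))
      rw [map_mul, ← RingHom.comp_apply, ← RingHom.comp_apply, hg₀] at e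
      refine mul_right_cancel₀ (fun h => hb0 (Subtype.ext h)) (e.trans ?_)
      rw [show (A.subtype r : K) = algebraMap A K r from rfl, hr]
      exact mul_comm _ _
    | algebraMap r =>
      refine ⟨algebraMap A L (τ.hom r), ?_⟩
      rw [← RingHom.comp_apply, hg₀]
      exact (congrArg (fun f => f r) (congrArg CommRingCat.Hom.hom hsq)).symm
    | add p q _ _ hp hq => rw [map_add]; exact add_mem hp hq
    | mul p q _ _ hp hq => rw [map_mul]; exact mul_mem hp hq
  let lift₀ : Γ(P, ⊤) →+* L :=
    (RingEquiv.ofBijective g₀.rangeRestrict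
      ⟨fun p q h => hg₀i (congrArg Subtype.val h), g₀.rangeRestrict_surjective⟩).symm.toRingHom.comp
      (ψ.hom.codRestrict g₀.range hrange)
  have hlift : g₀.comp lift₀ = ψ.hom := RingHom.ext fun y =>
    congrArg Subtype.val ((RingEquiv.ofBijective g₀.rangeRestrict
      ⟨fun p q h => hg₀i (congrArg Subtype.val h), g₀.rangeRestrict_surjective⟩).apply_symm_apply
      (ψ.hom.codRestrict g₀.range hrange y))
  refine ⟨b, hb0, Spec.map (CommRingCat.ofHom lift₀) ≫ eP.inv, ?_, fun g hg => ?_⟩
  · rw [← cancel_mono eU.hom, Category.assoc, Category.assoc, Category.assoc, ← hρ, ← hτ,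
      ← Spec.map_comp, ← Spec.map_comp]
    congr 1
    ext r
    apply hg₀i
    show g₀ (lift₀ (ρ.hom r)) = g₀ (algebraMap A L (τ.hom r))
    rw [← RingHom.comp_apply g₀ lift₀, hlift, ← RingHom.comp_apply g₀ (algebraMap A L), hg₀]
    exact congrArg (fun f => f r) (congrArg CommRingCat.Hom.hom hsq)
  · have : g = g₀ := IsLocalization.ringHom_ext (Submonoid.powers b) (hg.trans hg₀.symm)
    rw [this, ← Category.assoc, ← Spec.map_comp, ← CommRingCat.ofHom_comp, hlift,
      CommRingCat.ofHom_hom, hψ]
    simp

end Groth.Misc10.IsoNat
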